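import Cfsg.Agent.Lib.BrauerPairs.CornerLocal
import Mathlib.LinearAlgebra.Dual.Lemmas
import Mathlib.LinearAlgebra.BilinearForm.Orthogonal

/-!
# Flat Loewy layers of local symmetric algebras

If a layer `J ^ s / J ^ (s + 1)` of the radical of a local symmetric algebra is at most one
dimensional then `J ^ s` is central (`Loc.central_of_flat`), hence small (`Loc.finrank_flat`).
-/

set_option autoImplicit false

namespace Cfsg.Agent.Lib.LocalFive79.Base

open Module Cfsg.Agent.Lib.BrauerPairs.CornerLocal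

variable {k : Type*} [Field k] {A : Type*} [Ring A] [Algebra k A]
variable {C J : Submodule k A} {f : A} {lam : A →ₗ[k] k}

theorem pow_le_C (h : Loc C J f lam) {t : ℕ} (ht : 1 ≤ t) : J ^ t ≤ C := by
  obtain ⟨r, rfl⟩ : ∃ r, t = r + 1 := ⟨t - 1, by omega⟩
  exact (h.pow_le r).trans h.le

theorem mem_pow_le (h : Loc C J f lam) {s t : ℕ} (hs : 1 ≤ s) (hst : s ≤ t) {x : A}
    (hx : x ∈ J ^ t) : x ∈ J ^ s :=
  h.pow_anti hs hst hx

/-- A power of the radical as an ideal of the algebra. -/
theorem pow_mul_mem (h : Loc C J f lam) {t : ℕ} (ht : 1 ≤ t) {x v : A} (hx : x ∈ J ^ t)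
    (hv : v ∈ C) : x * v ∈ J ^ t ∧ v * x ∈ J ^ t := by
  obtain ⟨c, hc⟩ := h.dec v hv
  have hxC : x ∈ C := pow_le_C h ht hx
  constructor
  · rw [← sub_add_cancel v (c • f), mul_add, mul_smul_comm, h.mul_f x hxC]
    refine Submodule.add_mem _ (h.pow_anti ht (Nat.le_succ t) ?_) (Submodule.smul_mem _ _ hx)
    rw [pow_succ]
    exact Submodule.mul_mem_mul hx hc
  · rw [← sub_add_cancel v (c • f), add_mul, smul_mul_assoc, h.f_mul x hxC]
    refine Submodule.add_mem _ (h.pow_anti ht (Nat.le_succ t) ?_) (Submodule.smul_mem _ _ hx)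
    rw [pow_succ']
    exact Submodule.mul_mem_mul hc hx

theorem comms_mem {u v : A} (hu : u ∈ C) (hv : v ∈ C) : u * v - v * u ∈ comms k C :=
  Submodule.subset_span ⟨u, hu, v, hv, rfl⟩

theorem comms_le_C (h : Loc C J f lam) : comms k C ≤ C :=
  h.comms_le_sq.trans (pow_le_C h (by norm_num))

/-- A power on which the form vanishes is zero. -/
theorem pow_eq_bot_of_lam (h : Loc C J f lam) {t : ℕ} (ht : 1 ≤ t)
    (h0 : ∀ w ∈ J ^ t, lam w = 0) : J ^ t = ⊥ := by
  by_contra hne
  obtain ⟨z, hz, hz0, hzs⟩ := h.exists_soc hne (pow_le_C h ht)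
    (by rw [← pow_succ']; exact h.pow_anti ht (Nat.le_succ t))
    (by rw [← pow_succ]; exact h.pow_anti ht (Nat.le_succ t))
  exact h.lam_ne_zero hzs hz0 (h0 z hz)

/-- The socle lies in all nonzero powers. -/
theorem exists_socle (h : Loc C J f lam) (hJ : J ≠ ⊥) :
    ∃ z, z ≠ 0 ∧ Soc C J z ∧ z ∉ comms k C ∧ ∀ t, 1 ≤ t → J ^ t ≠ ⊥ → z ∈ J ^ t := by
  obtain ⟨z, hz, hz0, hzs⟩ := h.exists_soc hJ h.le h.mul_le h.mul_le
  refine ⟨z, hz0, hzs, fun hK => h.lam_ne_zero hzs hz0 (h.lam_comms hK), fun t ht hne => ?_⟩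
  obtain ⟨z', hz', hz'0, hz's⟩ := h.exists_soc hne (pow_le_C h ht)
    (by rw [← pow_succ']; exact h.pow_anti ht (Nat.le_succ t))
    (by rw [← pow_succ]; exact h.pow_anti ht (Nat.le_succ t))
  exact (Submodule.span_singleton_le_iff_mem _ _).mpr hz' (h.soc_mem_span hzs hz's hz'0)

/-- A nonzero power is strictly larger than the next one. -/
theorem pow_succ_ne (h : Loc C J f lam) {t : ℕ} (ht : 1 ≤ t) (hne : J ^ t ≠ ⊥) :
    ¬ J ^ t ≤ J ^ (t + 1) := by
  intro hle
  obtain ⟨N, hN⟩ := h.nil
  have key : ∀ i, J ^ t ≤ J ^ (t + i) := by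
    intro i
    induction i with
    | zero => exact le_rfl
    | succ i ih =>
      refine hle.trans ?_
      rw [pow_succ', ← add_assoc, pow_succ' J (t + i)]
      exact mul_le_mul' le_rfl ih
  exact hne (eq_bot_iff.mpr (((key (N + 1)).trans (h.pow_anti (by omega) (by omega))).trans hN.le))

/-- The elements commuting with the algebra. -/
def IsCentral (C : Submodule k A) (z : A) : Prop := ∀ v ∈ C, v * z = z * v

theorem lam_mul_comms (h : Loc C J f lam) {z : A} (hzc : IsCentral C z) {w : A}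
    (hw : w ∈ comms k C) : lam (z * w) = 0 := by
  have key : comms k C ≤ LinearMap.ker (lam ∘ₗ LinearMap.mulLeft k z) := by
    refine Submodule.span_le.mpr ?_
    rintro w ⟨u, hu, v, -, rfl⟩
    rw [SetLike.mem_coe, LinearMap.mem_ker, LinearMap.comp_apply, LinearMap.mulLeft_apply,
      mul_sub, map_sub, sub_eq_zero]
    rw [← mul_assoc, ← hzc u hu, ← mul_assoc, h.symm (z * v) u, ← mul_assoc]
  exact key hw

/-- A layer spanned by one element: above it the powers are spanned by powers of one element. -/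
theorem exists_generator (h : Loc C J f lam) {s : ℕ} (hs : 1 ≤ s) {g : A} (hg : g ∈ J ^ s)
    (hflat : J ^ s ≤ k ∙ g ⊔ J ^ (s + 1)) (hne : J ^ (s + 1) ≠ ⊥) :
    ∃ a ∈ J, ∀ t, s ≤ t → J ^ t ≤ k ∙ a ^ t ⊔ J ^ (t + 1) := by
  -- an element not killing the layer
  obtain ⟨a, ha, hag⟩ : ∃ a ∈ J, a * g ∉ J ^ (s + 2) := by
    by_contra hcon
    push Not at hcon
    refine pow_succ_ne h (by omega) hne ?_
    rw [pow_succ' J s]
    refine (mul_le_mul' le_rfl hflat).trans ?_
    rw [Submodule.mul_sup, ← pow_succ']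
    refine sup_le (Submodule.mul_le.mpr fun u hu w hw => ?_) le_rfl
    obtain ⟨c, rfl⟩ := Submodule.mem_span_singleton.mp hw
    rw [mul_smul_comm]
    exact Submodule.smul_mem _ _ (hcon u hu)
  have hcoef : ∀ w ∈ J ^ s, ∃ c : k, w - c • g ∈ J ^ (s + 1) := by
    intro w hw
    obtain ⟨l, hl, r, hr, rfl⟩ := Submodule.mem_sup.mp (hflat hw)
    obtain ⟨c, rfl⟩ := Submodule.mem_span_singleton.mp hl
    exact ⟨c, by rwa [add_sub_cancel_left]⟩
  have hga : ∀ w ∈ J ^ s, w ∉ J ^ (s + 1) → a * w ∉ J ^ (s + 2) := by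
    intro w hw hw1 hmem
    obtain ⟨c, hc⟩ := hcoef w hw
    rcases eq_or_ne c 0 with rfl | hc0
    · rw [zero_smul, sub_zero] at hc
      exact hw1 hc
    · refine hag ((Submodule.smul_mem_iff (J ^ (s + 2)) hc0).mp ?_)
      have h1 : a * (w - c • g) ∈ J ^ (s + 1 + 1) := by
        rw [pow_succ']
        exact Submodule.mul_mem_mul ha hc
      have h2 := Submodule.sub_mem _ hmem h1
      rwa [← mul_sub, sub_sub_cancel, mul_smul_comm] at h2
  have hstep : ∀ j, j < s → (∃ q ∈ J ^ (s - j), a ^ j * q ∈ J ^ s ∧ a ^ j * q ∉ J ^ (s + 1)) := by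
    intro j hj
    induction j with
    | zero =>
      refine ⟨g, by simpa using hg, by simpa using hg, ?_⟩
      rw [pow_zero, one_mul]
      intro hg1
      exact pow_succ_ne h hs (fun h0 => hne (by rw [pow_succ', h0, Submodule.mul_bot]))
        (hflat.trans (sup_le ((Submodule.span_singleton_le_iff_mem _ _).mpr hg1) le_rfl))
    | succ j ih =>
      obtain ⟨q, hq, hq1, hq2⟩ := ih (by omega)
      obtain ⟨r, hr⟩ : ∃ r, s - j = r + 1 := ⟨s - j - 1, by omega⟩
      by_contra hcon
      push Not at hcon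
      refine hga _ hq1 hq2 ?_
      have hle : J ^ (s - j) ≤ (J ^ (s + 2)).comap (LinearMap.mulLeft k (a ^ (j + 1))) := by
        rw [hr, pow_succ]
        refine Submodule.mul_le.mpr fun q' hq' v hv => ?_
        rw [Submodule.mem_comap, LinearMap.mulLeft_apply, ← mul_assoc]
        have hrs : s - (j + 1) = r := by omega
        have hm : a ^ (j + 1) * q' ∈ J ^ s := by
          have := Submodule.mul_mem_mul (Submodule.pow_mem_pow J ha (j + 1)) hq'
          rwa [← pow_add, show j + 1 + r = s by omega] at this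
        have h1 := hcon q' (hrs ▸ hq') hm
        rw [pow_succ J (s + 1)]
        exact Submodule.mul_mem_mul h1 hv
      have h2 := hle hq
      rw [Submodule.mem_comap, LinearMap.mulLeft_apply, pow_succ' a j, mul_assoc] at h2
      exact h2
  have has : a ^ s ∉ J ^ (s + 1) := by
    obtain ⟨q, hq, hq1, hq2⟩ := hstep (s - 1) (by omega)
    intro h1
    refine hga _ hq1 hq2 ?_
    rw [← mul_assoc, ← pow_succ', show s - 1 + 1 = s by omega, pow_succ J (s + 1)]
    refine Submodule.mul_mem_mul h1 ?_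
    rwa [show s - (s - 1) = 1 by omega, pow_one] at hq
  have hbase : J ^ s ≤ k ∙ a ^ s ⊔ J ^ (s + 1) := by
    have has' : a ^ s ∈ J ^ s := Submodule.pow_mem_pow J ha s
    obtain ⟨c, hc⟩ := hcoef _ has'
    have hc0 : c ≠ 0 := by
      rintro rfl
      rw [zero_smul, sub_zero] at hc
      exact has hc
    have hg' : g ∈ k ∙ a ^ s ⊔ J ^ (s + 1) := by
      refine Submodule.mem_sup.mpr ⟨c⁻¹ • a ^ s, Submodule.smul_mem _ _
        (Submodule.mem_span_singleton_self _), -(c⁻¹ • (a ^ s - c • g)),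
        Submodule.neg_mem _ (Submodule.smul_mem _ _ hc), ?_⟩
      rw [smul_sub, smul_smul, inv_mul_cancel₀ hc0, one_smul]
      abel
    exact hflat.trans (sup_le ((Submodule.span_singleton_le_iff_mem _ _).mpr hg') le_sup_right)
  refine ⟨a, ha, fun t ht => ?_⟩
  induction t, ht using Nat.le_induction with
  | base => exact hbase
  | succ t hst ih =>
    rw [pow_succ' J t]
    refine (mul_le_mul' le_rfl ih).trans ?_
    rw [Submodule.mul_sup, ← pow_succ']
    refine sup_le (Submodule.mul_le.mpr fun u hu w hw => ?_) le_sup_right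
    obtain ⟨c, rfl⟩ := Submodule.mem_span_singleton.mp hw
    rw [mul_smul_comm]
    refine Submodule.smul_mem _ _ ?_
    obtain ⟨t', rfl⟩ : ∃ t', t = t' + 1 := ⟨t - 1, by omega⟩
    have h1 : u * a ^ t' ∈ J ^ (t' + 1) := by
      rw [pow_succ']
      exact Submodule.mul_mem_mul hu (Submodule.pow_mem_pow J ha t')
    obtain ⟨l, hl, r, hr, e⟩ := Submodule.mem_sup.mp (ih h1)
    obtain ⟨d, rfl⟩ := Submodule.mem_span_singleton.mp hl
    have e1 : u * a ^ (t' + 1) = d • a ^ (t' + 1 + 1) + r * a := by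
      rw [pow_succ a t', ← mul_assoc, ← e, add_mul, smul_mul_assoc, ← pow_succ a (t' + 1)]
    rw [e1]
    refine Submodule.add_mem _ (Submodule.mem_sup_left (Submodule.smul_mem _ _
      (Submodule.mem_span_singleton_self _))) (Submodule.mem_sup_right ?_)
    rw [pow_succ J (t' + 1 + 1)]
    exact Submodule.mul_mem_mul hr ha

/-- **A flat layer makes the power central.** -/
theorem central_of_flat (h : Loc C J f lam) {s : ℕ} (hs : 1 ≤ s) {g : A} (hg : g ∈ J ^ s)
    (hflat : J ^ s ≤ k ∙ g ⊔ J ^ (s + 1)) {w : A} (hw : w ∈ J ^ s) : IsCentral C w := by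
  by_cases hne : J ^ (s + 1) = ⊥
  · intro v hv
    obtain ⟨c, hc⟩ := h.dec v hv
    have hwC : w ∈ C := pow_le_C h hs hw
    have e1 : (v - c • f) * w = 0 := by
      have : (v - c • f) * w ∈ J ^ (s + 1) := by
        rw [pow_succ']
        exact Submodule.mul_mem_mul hc hw
      rwa [hne, Submodule.mem_bot] at this
    have e2 : w * (v - c • f) = 0 := by
      have : w * (v - c • f) ∈ J ^ (s + 1) := by
        rw [pow_succ]
        exact Submodule.mul_mem_mul hw hc
      rwa [hne, Submodule.mem_bot] at this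
    rw [sub_mul, sub_eq_zero, smul_mul_assoc, h.f_mul w hwC] at e1
    rw [mul_sub, sub_eq_zero, mul_smul_comm, h.mul_f w hwC] at e2
    rw [e1, e2]
  obtain ⟨a, ha, hpow⟩ := exists_generator h hs hg hflat hne
  obtain ⟨N, hN⟩ := h.nil
  set T : Submodule k A := Submodule.span k (Set.range fun i : ℕ => a ^ (s + i)) with hT
  have hJT : J ^ s ≤ T := by
    have key : ∀ i : ℕ, J ^ s ≤ T ⊔ J ^ (s + i) := by
      intro i
      induction i with
      | zero => exact le_sup_right
      | succ i ih =>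
        refine ih.trans (sup_le le_sup_left ((hpow (s + i) (by omega)).trans
          (sup_le_sup_right ?_ _)))
        exact (Submodule.span_singleton_le_iff_mem _ _).mpr (Submodule.subset_span ⟨i, rfl⟩)
    exact (key (N + 1)).trans (sup_le le_rfl
      ((h.pow_anti (by omega) (by omega)).trans (hN.le.trans bot_le)))
  have hTJ : T ≤ J ^ s := Submodule.span_le.mpr (by
    rintro _ ⟨i, rfl⟩
    exact h.pow_anti hs (by omega) (Submodule.pow_mem_pow J ha (s + i)))
  have has : a ^ s ∈ J ^ s := Submodule.pow_mem_pow J ha s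
  -- the power is central
  have hcen : IsCentral C (a ^ s) := by
    intro v hv
    set D := v * a ^ s - a ^ s * v with hD
    have hDJ : D ∈ J ^ s := Submodule.sub_mem _ (pow_mul_mem h hs has hv).2
      (pow_mul_mem h hs has hv).1
    have hDj : ∀ j, lam (D * a ^ j) = 0 := by
      intro j
      have hc : (a ^ s * v) * a ^ j = a ^ s * (v * a ^ j) := mul_assoc _ _ _
      rw [hD, sub_mul, map_sub, hc, h.symm (a ^ s) (v * a ^ j), mul_assoc v, mul_assoc v,
        ← pow_add, ← pow_add, Nat.add_comm s j, sub_self]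
    rw [← sub_eq_zero]
    refine h.nondeg D (pow_le_C h hs hDJ) fun y hy => ?_
    -- `D = a ^ s * R`
    obtain ⟨R, hR, e⟩ : ∃ R ∈ Submodule.span k (Set.range fun i : ℕ => a ^ i), D = a ^ s * R := by
      have hle : T ≤ (Submodule.span k (Set.range fun i : ℕ => a ^ i)).map
          (LinearMap.mulLeft k (a ^ s)) := Submodule.span_le.mpr (by
        rintro _ ⟨i, rfl⟩
        exact ⟨a ^ i, Submodule.subset_span ⟨i, rfl⟩, (pow_add a s i).symm⟩)
      obtain ⟨R, hR, e⟩ := hle (hJT hDJ)
      exact ⟨R, hR, e.symm⟩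
    rw [e, mul_assoc, h.symm, mul_assoc]
    have hW : y * a ^ s ∈ T := hJT (pow_mul_mem h hs has hy).2
    have key : T ≤ LinearMap.ker (lam ∘ₗ LinearMap.mulLeft k R) := by
      refine Submodule.span_le.mpr ?_
      rintro _ ⟨i, rfl⟩
      have hcomm : Commute R (a ^ s) := by
        refine Submodule.span_induction (p := fun x _ => Commute x (a ^ s)) ?_
          (Commute.zero_left _) (fun x y _ _ hx hy => hx.add_left hy)
          (fun c x _ hx => hx.smul_left c) hR
        rintro _ ⟨j, rfl⟩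
        exact Commute.pow_pow_self a j s
      rw [SetLike.mem_coe, LinearMap.mem_ker, LinearMap.comp_apply, LinearMap.mulLeft_apply]
      show lam (R * a ^ (s + i)) = 0
      rw [pow_add, ← mul_assoc, hcomm.eq, ← e]
      exact hDj i
    exact key hW
  intro v hv
  refine Submodule.span_induction (p := fun x _ => v * x = x * v) ?_ (by simp)
    (fun x y _ _ hx hy => by rw [mul_add, add_mul, hx, hy])
    (fun c x _ hx => by rw [mul_smul_comm, smul_mul_assoc, hx]) (hJT hw)
  rintro _ ⟨i, rfl⟩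
  induction i with
  | zero => exact hcen v hv
  | succ i ih =>
    show v * a ^ (s + i + 1) = a ^ (s + i + 1) * v
    have hm : a ^ (s + i) ∈ J ^ s :=
      h.pow_anti hs (by omega) (Submodule.pow_mem_pow J ha (s + i))
    -- `a ^ s` central and powers of `a` in the span
    have h1 : (v * a - a * v) * a ^ s = 0 := by
      have hcomm : Commute (v * a ^ s) a := by
        refine Submodule.span_induction (p := fun x _ => Commute x a) ?_
          (Commute.zero_left _) (fun x y _ _ hx hy => hx.add_left hy)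
          (fun c x _ hx => hx.smul_left c) (hJT (pow_mul_mem h hs has hv).2)
        rintro _ ⟨j, rfl⟩
        exact Commute.pow_self a _
      rw [sub_mul, mul_assoc v, (Commute.self_pow a s).eq, ← mul_assoc, hcomm.eq, mul_assoc,
        sub_self]
    have h2 : v * a ^ (s + 1) = a * v * a ^ s := by
      rw [← sub_eq_zero, pow_succ', ← mul_assoc, ← sub_mul]
      exact h1
    calc v * a ^ (s + i + 1) = v * a ^ (s + 1) * a ^ i := by
          rw [mul_assoc, ← pow_add]; congr 2; omega
      _ = a * v * a ^ (s + i) := by rw [h2, mul_assoc _ (a ^ s), ← pow_add]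
      _ = a * (a ^ (s + i) * v) := by rw [mul_assoc, ← ih]
      _ = a ^ (s + i + 1) * v := by rw [← mul_assoc, ← pow_succ']

variable [FiniteDimensional k A]

theorem finrank_C (h : Loc C J f lam) : finrank k C = finrank k J + 1 := by
  have e : C = J ⊔ k ∙ f := le_antisymm (fun x hx => by
    obtain ⟨c, hc⟩ := h.dec x hx
    exact Submodule.mem_sup.mpr ⟨_, hc, c • f, Submodule.smul_mem _ _
      (Submodule.mem_span_singleton_self f), sub_add_cancel _ _⟩)
    (sup_le h.le ((Submodule.span_singleton_le_iff_mem _ _).mpr h.f_mem))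
  have hf : f ≠ 0 := fun e => h.f_notMem (e ▸ J.zero_mem)
  have hdis : J ⊓ k ∙ f = ⊥ := by
    rw [eq_bot_iff]
    rintro x ⟨hxJ, hxf⟩
    obtain ⟨c, rfl⟩ := Submodule.mem_span_singleton.mp hxf
    rcases eq_or_ne c 0 with rfl | hc
    · simp
    · exact absurd ((J.smul_mem_iff hc).mp hxJ) h.f_notMem
  have := Submodule.finrank_sup_add_finrank_inf_eq J (k ∙ f)
  rw [hdis, finrank_bot, finrank_span_singleton hf, ← e] at this
  omega

/-- Orthogonal subspaces. -/
theorem finrank_add_le (h : Loc C J f lam) {X Y : Submodule k A} (hX : X ≤ C) (hY : Y ≤ C)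
    (h0 : ∀ x ∈ X, ∀ y ∈ Y, lam (x * y) = 0) :
    finrank k X + finrank k Y ≤ finrank k C := by
  let Φ : X →ₗ[k] Dual k C := ((LinearMap.mul k A).compr₂ lam).compl₁₂ X.subtype C.subtype
  have hΦ : ∀ (x : X) (c : C), Φ x c = lam ((x : A) * (c : A)) := fun _ _ => rfl
  have hinj : Function.Injective Φ := by
    rw [injective_iff_map_eq_zero]
    intro x hx
    refine Subtype.ext (h.nondeg x (hX x.2) fun y hy => ?_)
    rw [← hΦ x ⟨y, hy⟩, hx]
    rfl
  have hann : LinearMap.range Φ ≤ (Y.comap C.subtype).dualAnnihilator := by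
    rintro _ ⟨x, rfl⟩
    rw [Submodule.mem_dualAnnihilator]
    intro y hy
    rw [hΦ]
    exact h0 x x.2 y hy
  have h1 := Submodule.finrank_mono hann
  rw [LinearMap.finrank_range_of_inj hinj] at h1
  have h2 := Subspace.finrank_add_finrank_dualAnnihilator_eq (Y.comap C.subtype)
  rw [(Submodule.comapSubtypeEquivOfLe hY).finrank_eq] at h2
  omega

/-- Central powers are small. -/
theorem finrank_central (h : Loc C J f lam) {s : ℕ} (hs : 1 ≤ s)
    (hcen : ∀ w ∈ J ^ s, IsCentral C w) :
    finrank k ↥(J ^ s) + finrank k (comms k C) + 1 ≤ finrank k C := by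
  have hf : f ∉ J ^ s := fun hm => h.f_notMem (by
    have := h.pow_anti le_rfl hs hm
    rwa [pow_one] at this)
  have h1 : finrank k ↥(J ^ s) + 1 ≤ finrank k ↥(J ^ s ⊔ k ∙ f) :=
    Submodule.finrank_lt_finrank_of_lt (lt_of_le_of_ne le_sup_left fun e => hf (by
      rw [e]; exact le_sup_right (a := J ^ s) (Submodule.mem_span_singleton_self f)))
  have h2 := finrank_add_le h (sup_le (pow_le_C h hs)
    ((Submodule.span_singleton_le_iff_mem _ _).mpr h.f_mem)) (comms_le_C h) ?_
  · omega
  intro x hx w hw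
  obtain ⟨a, ha, b, hb, rfl⟩ := Submodule.mem_sup.mp hx
  obtain ⟨c, rfl⟩ := Submodule.mem_span_singleton.mp hb
  rw [add_mul, smul_mul_assoc, h.f_mul w (comms_le_C h hw), map_add, map_smul,
    lam_mul_comms h (hcen a ha) hw, h.lam_comms hw, smul_zero, add_zero]

/-- One element beyond a subspace. -/
theorem exists_mem_sup_span {X Y : Submodule k A} (hXY : X ≤ Y)
    (hd : finrank k Y ≤ finrank k X + 1) : ∃ g ∈ Y, Y ≤ k ∙ g ⊔ X := by
  by_cases hle : Y ≤ X
  · exact ⟨0, Y.zero_mem, hle.trans le_sup_right⟩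
  obtain ⟨g, hg, hgX⟩ := SetLike.not_le_iff_exists.mp hle
  refine ⟨g, hg, (Submodule.eq_of_le_of_finrank_le
    (sup_le ((Submodule.span_singleton_le_iff_mem _ _).mpr hg) hXY) ?_).ge⟩
  have := Submodule.finrank_lt_finrank_of_lt (lt_of_le_of_ne (le_sup_right (a := k ∙ g) (b := X))
    fun e => hgX (by rw [e]; exact le_sup_left (b := X) (Submodule.mem_span_singleton_self g)))
  omega

/-- **A flat layer is followed by few dimensions.** -/
theorem finrank_flat (h : Loc C J f lam) {s : ℕ} (hs : 1 ≤ s)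
    (hd : finrank k ↥(J ^ s) ≤ finrank k ↥(J ^ (s + 1)) + 1) :
    finrank k ↥(J ^ s) + finrank k (comms k C) + 1 ≤ finrank k C := by
  obtain ⟨g, hg, hflat⟩ := exists_mem_sup_span (h.pow_anti hs (Nat.le_succ s)) hd
  exact finrank_central h hs fun w hw => central_of_flat h hs hg hflat hw

/-- With the square spanned by commutators and the socle a flat layer is followed by one more. -/
theorem pow_eq_bot_of_flat (h : Loc C J f lam) {s : ℕ} (hs : 1 ≤ s)
    (hd : finrank k ↥(J ^ s) ≤ finrank k ↥(J ^ (s + 1)) + 1) {z : A} (hz : Soc C J z)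
    (hJ2 : J ^ 2 ≤ comms k C ⊔ k ∙ z) : J ^ (s + 2) = ⊥ := by
  obtain ⟨g, hg, hflat⟩ := exists_mem_sup_span (h.pow_anti hs (Nat.le_succ s)) hd
  refine pow_eq_bot_of_lam h (by omega) fun w hw => ?_
  rw [pow_add] at hw
  refine Submodule.mul_induction_on hw (fun a ha b hb => ?_)
    (fun x y hx hy => by rw [map_add, hx, hy, add_zero])
  obtain ⟨u, hu, v, hv, rfl⟩ := Submodule.mem_sup.mp (hJ2 hb)
  obtain ⟨c, rfl⟩ := Submodule.mem_span_singleton.mp hv
  have haJ : a ∈ J := by
    have := h.pow_anti le_rfl hs ha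
    rwa [pow_one] at this
  rw [mul_add, mul_smul_comm, hz.2.1 a haJ, smul_zero, add_zero,
    lam_mul_comms h (central_of_flat h hs hg hflat ha) hu]

/-- A power squaring to zero is small. -/
theorem two_mul_finrank_le (h : Loc C J f lam) {s : ℕ} (hs : 1 ≤ s) (h0 : J ^ (s + s) = ⊥) :
    2 * finrank k ↥(J ^ s) ≤ finrank k C := by
  have := finrank_add_le h (pow_le_C h hs) (pow_le_C h hs) fun x hx y hy => by
    have h1 : x * y ∈ J ^ (s + s) := by
      rw [pow_add]
      exact Submodule.mul_mem_mul hx hy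
    rw [h0, Submodule.mem_bot] at h1
    rw [h1, map_zero]
  omega

end Cfsg.Agent.Lib.LocalFive79.Base
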