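import Mathlib.LinearAlgebra.FiniteDimensional.Lemmas
import Mathlib.Data.Fin.VecNotation
import Mathlib.Tactic.LinearCombination
import Mathlib.Tactic.FinCases

/-!
# Ternary tensors whose slices lie in a space containing `x ⊗ y` and `y ⊗ z`

If `W = ⟨x y, y z, w⟩` with `w` not symmetric and the space `U` of the tensors with both slices in
`W` has no nonzero cyclic invariant, then the tensors of degree four with slices in `U` are at
most a line (`false_of_two`).
-/

set_option autoImplicit false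

namespace Cfsg.Agent.Lib.LocalFive79.Chains

open Module

variable {k : Type*} [Field k]

/-- A ternary tensor by coordinates. -/
abbrev A3 (k : Type*) := Fin 3 → Fin 3 → Fin 3 → k

/-- A tensor of degree four by coordinates. -/
abbrev A4 (k : Type*) := Fin 3 → Fin 3 → Fin 3 → Fin 3 → k

/-- The value of `x ⊗ y`. -/
def E01 (i j : Fin 3) : k := if i = 0 ∧ j = 1 then 1 else 0

/-- The value of `y ⊗ z`. -/
def E12 (i j : Fin 3) : k := if i = 1 ∧ j = 2 then 1 else 0

/-- The tensor `x ⊗ y ⊗ z`. -/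
def T0 : A3 k := fun i j g => if i = 0 ∧ j = 1 ∧ g = 2 then 1 else 0

/-- Both slices lie in `⟨x y, y z, w⟩`. -/
def Slices (w : Fin 3 → Fin 3 → k) (T : A3 k) : Prop :=
  (∃ p1 p2 s : Fin 3 → k, ∀ i j g, T i j g = p1 i * E01 j g + p2 i * E12 j g + s i * w j g) ∧
  ∃ q1 q2 l : Fin 3 → k, ∀ i j g, T i j g = q1 g * E01 i j + q2 g * E12 i j + l g * w i j

variable {w : Fin 3 → Fin 3 → k}

/-- What a tensor outside the line of `x y z` looks like. -/
theorem cases_of_slices (h01 : w 0 1 = 0) (h12 : w 1 2 = 0) (hns : w 0 2 ≠ w 2 0) {T : A3 k}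
    (hT : Slices w T) :
    (∀ i j g, ¬ (i = 0 ∧ j = 1 ∧ g = 2) → T i j g = 0) ∨
    (w 0 2 = 0 ∧ w 1 1 = 0 ∧ w 2 1 = 0 ∧ w 2 2 = 0 ∧
      ∃ l : k, ∀ i j g, ¬ (i = 0 ∧ j = 1 ∧ g = 2) →
        T i j g = if j = 0 ∧ g = 1 then l * w i 0 else 0) ∨
    (w 0 0 = 0 ∧ w 1 0 = 0 ∧ w 0 2 = 0 ∧ w 1 1 = 0 ∧
      ∃ s : k, ∀ i j g, ¬ (i = 0 ∧ j = 1 ∧ g = 2) →
        T i j g = if i = 1 ∧ j = 2 then s * w 2 g else 0) ∨
    (w 0 0 = 0 ∧ w 1 0 = 0 ∧ w 0 2 = 0 ∧ w 2 1 = 0 ∧ w 2 2 = 0 ∧
      ∃ s l : k, (w 1 1 = 0 ∨ s = l) ∧ ∀ i j g, ¬ (i = 0 ∧ j = 1 ∧ g = 2) →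
        T i j g = if i = 1 ∧ j = 2 ∧ g = 0 then s * w 2 0 else
          if i = 2 ∧ j = 0 ∧ g = 1 then l * w 2 0 else
          if i = 1 ∧ j = 1 ∧ g = 1 then s * w 1 1 else 0) := by
  obtain ⟨⟨p1, p2, s, hP⟩, q1, q2, l, hQ⟩ := hT
  have key : ∀ i j g, p1 i * E01 j g + p2 i * E12 j g + s i * w j g =
      q1 g * E01 i j + q2 g * E12 i j + l g * w i j := fun i j g => (hP i j g).symm.trans (hQ i j g)
  have e000 := key 0 0 0
  have e001 := key 0 0 1
  have e002 := key 0 0 2
  have e010 := key 0 1 0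
  have e011 := key 0 1 1
  have e020 := key 0 2 0
  have e021 := key 0 2 1
  have e022 := key 0 2 2
  have e100 := key 1 0 0
  have e101 := key 1 0 1
  have e102 := key 1 0 2
  have e110 := key 1 1 0
  have e111 := key 1 1 1
  have e112 := key 1 1 2
  have e120 := key 1 2 0
  have e121 := key 1 2 1
  have e122 := key 1 2 2
  have e200 := key 2 0 0
  have e201 := key 2 0 1
  have e202 := key 2 0 2
  have e210 := key 2 1 0
  have e211 := key 2 1 1
  have e212 := key 2 1 2
  have e220 := key 2 2 0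
  have e221 := key 2 2 1
  have e222 := key 2 2 2
  simp only [E01, E12, Fin.isValue, Fin.reduceEq, and_self, and_false, false_and, ↓reduceIte,
    mul_one, mul_zero, add_zero, zero_add, h01, h12] at e000 e001 e002 e010 e011 e020 e021 e022 e100 e101 e102 e110 e111 e112 e120 e121 e122 e200 e201 e202 e210 e211 e212 e220 e221 e222
  have hcd : w 0 2 - w 2 0 ≠ 0 := sub_ne_zero.mpr hns
  have val : ∀ i j g, T i j g = p1 i * E01 j g + p2 i * E12 j g + s i * w j g := hP
  by_cases hs : s 0 = 0 ∧ s 1 = 0 ∧ s 2 = 0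
  · obtain ⟨s0, s1, s2⟩ := hs
    simp only [s0, s1, s2, zero_mul, add_zero, zero_add] at e000 e001 e002 e010 e011 e020 e021 e022 e100 e101 e102 e110 e111 e112 e120 e121 e122 e200 e201 e202 e210 e211 e212 e220 e221 e222
    by_cases hl : l 1 = 0 ∨ w 0 2 ≠ 0
    · left
      have l1 : l 1 = 0 := by
        rcases hl with h | h
        · exact h
        · exact (mul_eq_zero.mp e021.symm).resolve_right h
      have h2 : p2 1 = 0 ∧ p2 2 = 0 := by
        by_cases hc : w 0 2 = 0
        · have hd : w 2 0 ≠ 0 := fun h => hcd (by rw [hc, h, sub_self])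
          have l2 : l 2 = 0 := (mul_eq_zero.mp e202.symm).resolve_right hd
          rw [l2, zero_mul] at e112 e212
          exact ⟨e112, e212⟩
        · have l2 : l 2 = 0 := (mul_eq_zero.mp e022.symm).resolve_right hc
          rw [l2, zero_mul] at e112 e212
          exact ⟨e112, e212⟩
      rw [l1, zero_mul] at e001 e101 e201
      intro i j g hne
      rw [val]
      fin_cases i <;> fin_cases j <;> fin_cases g <;>
        simp [E01, E12, s0, s1, s2, e001, e101, e201, h2.1, h2.2] at hne ⊢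
    push Not at hl
    obtain ⟨hl1, hc⟩ := hl
    have hd : w 2 0 ≠ 0 := fun h => hcd (by rw [hc, h, sub_self])
    have l2 : l 2 = 0 := (mul_eq_zero.mp e202.symm).resolve_right hd
    rw [l2, zero_mul] at e112 e212
    have he : w 1 1 = 0 := (mul_eq_zero.mp e111.symm).resolve_left hl1
    have hf : w 2 1 = 0 := (mul_eq_zero.mp e211.symm).resolve_left hl1
    have hg : w 2 2 = 0 := (mul_eq_zero.mp e221.symm).resolve_left hl1
    refine Or.inr (Or.inl ⟨hc, he, hf, hg, l 1, fun i j g hne => ?_⟩)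
    rw [val]
    fin_cases i <;> fin_cases j <;> fin_cases g <;>
      simp [E01, E12, s0, s1, s2, e001, e101, e201, e112, e212] at hne ⊢
  by_cases hl : l 0 = 0 ∧ l 1 = 0 ∧ l 2 = 0
  · obtain ⟨l0, l1, l2⟩ := hl
    simp only [l0, l1, l2, zero_mul, add_zero, zero_add] at e000 e001 e002 e010 e011 e020 e021 e022 e100 e101 e102 e110 e111 e112 e120 e121 e122 e200 e201 e202 e210 e211 e212 e220 e221 e222
    have ha : w 0 0 = 0 := by
      by_contra h
      exact hs ⟨(mul_eq_zero.mp e000).resolve_right h, (mul_eq_zero.mp e100).resolve_right h,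
        (mul_eq_zero.mp e200).resolve_right h⟩
    have hc : w 0 2 = 0 := by
      by_contra h
      exact hs ⟨(mul_eq_zero.mp e002).resolve_right h, (mul_eq_zero.mp e102).resolve_right h,
        (mul_eq_zero.mp e202).resolve_right h⟩
    have hd : w 2 0 ≠ 0 := fun h => hcd (by rw [hc, h, sub_self])
    have s0 : s 0 = 0 := (mul_eq_zero.mp e020).resolve_right hd
    have s2 : s 2 = 0 := (mul_eq_zero.mp e220).resolve_right hd
    have s1 : s 1 ≠ 0 := fun h => hs ⟨s0, h, s2⟩
    have hb : w 1 0 = 0 := (mul_eq_zero.mp e110).resolve_left s1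
    simp only [s0, s2, hc, zero_mul, mul_zero, add_zero, zero_add] at e001 e101 e201 e011 e111 e211 e112 e212
    have he : w 1 1 = 0 := (mul_eq_zero.mp e111).resolve_left s1
    refine Or.inr (Or.inr (Or.inl ⟨ha, hb, hc, he, s 1, fun i j g hne => ?_⟩))
    rw [val]
    fin_cases i <;> fin_cases j <;> fin_cases g <;>
      simp [E01, E12, s0, s2, ha, hb, hc, he, h01, h12, e001, e101, e201, e112, e212] at hne ⊢
  -- both nonzero
  have ha : w 0 0 = 0 := by
    by_contra h
    have h1 : s 0 = l 0 := mul_right_cancel₀ h e000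
    have h2 : l 0 = 0 := by
      have : s 0 * (w 0 2 - w 2 0) = 0 := by
        linear_combination -e020 + (w 0 2) * h1
      rcases mul_eq_zero.mp this with h3 | h3
      · rwa [← h1]
      · exact absurd h3 hcd
    have s0 : s 0 = 0 := by rw [h1, h2]
    rw [h2, zero_mul] at e100 e200
    exact hs ⟨s0, (mul_eq_zero.mp e100).resolve_right h, (mul_eq_zero.mp e200).resolve_right h⟩
  have hg : w 2 2 = 0 := by
    by_contra h
    have h1 : s 2 = l 2 := mul_right_cancel₀ h e222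
    have h2 : l 2 = 0 := by
      have : l 2 * (w 0 2 - w 2 0) = 0 := by
        linear_combination e202 - (w 0 2) * h1
      exact (mul_eq_zero.mp this).resolve_right hcd
    rw [h1, h2, zero_mul] at e220 e221
    exact hl ⟨(mul_eq_zero.mp e220.symm).resolve_right h,
      (mul_eq_zero.mp e221.symm).resolve_right h, h2⟩
  simp only [ha, hg, mul_zero, add_zero, zero_add] at e000 e001 e002 e010 e011 e020 e021 e022 e100 e101 e102 e110 e111 e112 e120 e121 e122 e200 e201 e202 e210 e211 e212 e220 e221 e222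
  have hc : w 0 2 = 0 := by
    by_contra h
    have s0 : s 0 = 0 := (mul_eq_zero.mp e002).resolve_right h
    have l2 : l 2 = 0 := (mul_eq_zero.mp e022.symm).resolve_right h
    rw [l2, zero_mul] at e102 e202
    exact hs ⟨s0, (mul_eq_zero.mp e102).resolve_right h, (mul_eq_zero.mp e202).resolve_right h⟩
  have hd : w 2 0 ≠ 0 := fun h => hcd (by rw [hc, h, sub_self])
  have l0 : l 0 = 0 := (mul_eq_zero.mp e200.symm).resolve_right hd
  have s2 : s 2 = 0 := (mul_eq_zero.mp e220).resolve_right hd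
  rw [hc, mul_zero] at e020 e202
  have s0 : s 0 = 0 := (mul_eq_zero.mp e020).resolve_right hd
  have l2 : l 2 = 0 := (mul_eq_zero.mp e202.symm).resolve_right hd
  have s1 : s 1 ≠ 0 := fun h => hs ⟨s0, h, s2⟩
  have l1 : l 1 ≠ 0 := fun h => hl ⟨l0, h, l2⟩
  simp only [s0, s2, l0, l2, hc, zero_mul, mul_zero, add_zero, zero_add] at e001 e101 e201 e110 e111 e112 e211 e212
  have hb : w 1 0 = 0 := (mul_eq_zero.mp e110).resolve_left s1
  have hf : w 2 1 = 0 := (mul_eq_zero.mp e211.symm).resolve_left l1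
  have hee : w 1 1 = 0 ∨ s 1 = l 1 := by
    rcases eq_or_ne (w 1 1) 0 with h | h
    · exact Or.inl h
    · exact Or.inr (mul_right_cancel₀ h e111)
  rw [hb, mul_zero] at e101
  refine Or.inr (Or.inr (Or.inr ⟨ha, hb, hc, hf, hg, s 1, l 1, hee, fun i j g hne => ?_⟩))
  rw [val]
  fin_cases i <;> fin_cases j <;> fin_cases g <;>
    simp [E01, E12, s0, s2, ha, hb, hc, hf, hg, h01, h12, e001, e101, e201, e112, e212] at hne ⊢

/-- A tensor vanishing away from `(0, 1, 2)` is a multiple of `x y z`. -/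
theorem eq_smul_T0 {T : A3 k} (h : ∀ i j g, ¬ (i = 0 ∧ j = 1 ∧ g = 2) → T i j g = 0) :
    T = T 0 1 2 • T0 := by
  funext i j g
  simp only [Pi.smul_apply, T0, smul_eq_mul]
  split_ifs with he
  · obtain ⟨rfl, rfl, rfl⟩ := he
    rw [mul_one]
  · rw [h i j g he, mul_zero]

/-- Everything is a multiple of one tensor. -/
theorem false_of_le {U4 : Submodule k (A4 k)} (h2 : 2 ≤ finrank k U4) (R : A4 k)
    (h : ∀ S ∈ U4, ∃ c : k, S = c • R) : False := by
  have hle : U4 ≤ k ∙ R := fun S hS => by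
    obtain ⟨c, rfl⟩ := h S hS
    exact Submodule.smul_mem _ _ (Submodule.mem_span_singleton_self R)
  have h1 := Submodule.finrank_mono hle
  have h3 : finrank k ↥(k ∙ R) ≤ 1 := by
    rcases eq_or_ne R 0 with rfl | hR
    · rw [Submodule.span_zero_singleton, finrank_bot]; omega
    · exact (finrank_span_singleton hR).le
  omega

variable {U : Submodule k (A3 k)} {U4 : Submodule k (A4 k)}

/-- The right chain. -/
theorem false_of_right
    (h4l : ∀ S ∈ U4, ∀ a, S a ∈ U) (h4r : ∀ S ∈ U4, ∀ d, (fun i j g => S i j g d) ∈ U)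
    (h2 : 2 ≤ finrank k U4)
    (hU : ∀ T ∈ U, ∃ s : k, ∀ i j g, ¬ (i = 0 ∧ j = 1 ∧ g = 2) →
      T i j g = if i = 1 ∧ j = 2 then s * w 2 g else 0) : False := by
  refine false_of_le h2 (fun a b c d => if a = 0 ∧ b = 1 ∧ c = 2 then w 2 d else 0) fun S hS => ?_
  obtain ⟨s, hs⟩ := hU (S 0) (h4l S hS 0)
  refine ⟨s, ?_⟩
  funext a b c d
  simp only [Pi.smul_apply, smul_eq_mul]
  split_ifs with he
  · obtain ⟨rfl, rfl, rfl⟩ := he
    have := hs 1 2 d (by simp)
    simpa using this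
  · rw [mul_zero]
    by_contra hne
    obtain ⟨s1, hs1⟩ := hU (S a) (h4l S hS a)
    obtain ⟨s2, hs2⟩ := hU _ (h4r S hS d)
    by_cases h1 : b = 0 ∧ c = 1 ∧ d = 2
    · obtain ⟨rfl, rfl, rfl⟩ := h1
      have := hs2 a 0 1 (by simp)
      rw [if_neg (by simp)] at this
      exact hne this
    have e1 := hs1 b c d h1
    have e2 := hs2 a b c he
    by_cases hbc : b = 1 ∧ c = 2
    · obtain ⟨rfl, rfl⟩ := hbc
      rw [if_neg (by simp)] at e2
      exact hne e2
    · rw [if_neg hbc] at e1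
      exact hne e1

/-- The left chain. -/
theorem false_of_left (h4l : ∀ S ∈ U4, ∀ a, S a ∈ U)
    (h4r : ∀ S ∈ U4, ∀ d, (fun i j g => S i j g d) ∈ U) (h2 : 2 ≤ finrank k U4)
    (hU : ∀ T ∈ U, ∃ l : k, ∀ i j g, ¬ (i = 0 ∧ j = 1 ∧ g = 2) →
      T i j g = if j = 0 ∧ g = 1 then l * w i 0 else 0) : False := by
  refine false_of_le h2 (fun a b c d => if b = 0 ∧ c = 1 ∧ d = 2 then w a 0 else 0) fun S hS => ?_
  obtain ⟨s, hs⟩ := hU _ (h4r S hS 2)
  refine ⟨s, ?_⟩
  funext a b c d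
  simp only [Pi.smul_apply, smul_eq_mul]
  split_ifs with he
  · obtain ⟨rfl, rfl, rfl⟩ := he
    have := hs a 0 1 (by simp)
    simpa using this
  · rw [mul_zero]
    by_contra hne
    obtain ⟨s1, hs1⟩ := hU (S a) (h4l S hS a)
    obtain ⟨s2, hs2⟩ := hU _ (h4r S hS d)
    by_cases h1 : a = 0 ∧ b = 1 ∧ c = 2
    · obtain ⟨rfl, rfl, rfl⟩ := h1
      have := hs1 1 2 d (by simp)
      rw [if_neg (by simp)] at this
      exact hne this
    have e1 := hs1 b c d he
    have e2 := hs2 a b c h1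
    by_cases hbc : b = 0 ∧ c = 1
    · obtain ⟨rfl, rfl⟩ := hbc
      rw [if_neg (by simp)] at e1
      exact hne e1
    · rw [if_neg hbc] at e2
      exact hne e2

/-- The cyclic shape. -/
theorem false_of_cyclic (hT0 : T0 ∈ U)
    (h4l : ∀ S ∈ U4, ∀ a, S a ∈ U) (h4r : ∀ S ∈ U4, ∀ d, (fun i j g => S i j g d) ∈ U)
    (h2 : 2 ≤ finrank k U4)
    (hinv : ∀ T ∈ U, (∀ i j g, T i j g = T j g i) → T = 0)
    (hU : ∀ T ∈ U, ∀ i j g, ¬ (i = 0 ∧ j = 1 ∧ g = 2) → ¬ (i = 1 ∧ j = 2 ∧ g = 0) →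
      ¬ (i = 2 ∧ j = 0 ∧ g = 1) → T i j g = 0) : False := by
  classical
  have hsupp : ∀ S ∈ U4, ∀ a b c d, S a b c d ≠ 0 →
      (a = 0 ∧ b = 1 ∧ c = 2 ∧ d = 0) ∨ (a = 1 ∧ b = 2 ∧ c = 0 ∧ d = 1) ∨
      (a = 2 ∧ b = 0 ∧ c = 1 ∧ d = 2) := by
    intro S hS a b c d hne
    have h1 := fun x y z => hne (hU _ (h4l S hS a) b c d x y z)
    have h2' := fun x y z => hne (hU _ (h4r S hS d) a b c x y z)
    by_contra hcon
    revert h1 h2' hcon
    fin_cases a <;> fin_cases b <;> fin_cases c <;> fin_cases d <;> simp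
  -- monomials
  let M1 : A3 k := fun i j g => if i = 1 ∧ j = 2 ∧ g = 0 then 1 else 0
  let M2 : A3 k := fun i j g => if i = 2 ∧ j = 0 ∧ g = 1 then 1 else 0
  have hne3 : ¬ (M1 ∈ U ∧ M2 ∈ U) := by
    rintro ⟨h1, h2'⟩
    have hsum := hinv _ (U.add_mem (U.add_mem hT0 h1) h2') (fun i j g => by
      fin_cases i <;> fin_cases j <;> fin_cases g <;> simp [T0, M1, M2])
    have := congrFun (congrFun (congrFun hsum 0) 1) 2
    simp [T0, M1, M2] at this
  have hA : ∀ S ∈ U4, S 0 1 2 0 ≠ 0 → M1 ∈ U := by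
    intro S hS hne
    have e : S 0 = S 0 1 2 0 • M1 := by
      funext i j g
      simp only [Pi.smul_apply, M1, smul_eq_mul]
      split_ifs with he
      · obtain ⟨rfl, rfl, rfl⟩ := he; rw [mul_one]
      · rw [mul_zero]
        by_contra h
        rcases hsupp S hS 0 i j g h with h' | h' | h'
        · exact he ⟨h'.2.1, h'.2.2.1, h'.2.2.2⟩
        · exact absurd h'.1 (by simp)
        · exact absurd h'.1 (by simp)
    have h1 := h4l S hS 0
    rw [e] at h1
    exact (U.smul_mem_iff hne).mp h1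
  have hC : ∀ S ∈ U4, S 2 0 1 2 ≠ 0 → M2 ∈ U := by
    intro S hS hne
    have e : (fun i j g => S i j g 2) = S 2 0 1 2 • M2 := by
      funext i j g
      simp only [Pi.smul_apply, M2, smul_eq_mul]
      split_ifs with he
      · obtain ⟨rfl, rfl, rfl⟩ := he; rw [mul_one]
      · rw [mul_zero]
        by_contra h
        rcases hsupp S hS i j g 2 h with h' | h' | h'
        · exact absurd h'.2.2.2 (by simp)
        · exact absurd h'.2.2.2 (by simp)
        · exact he ⟨h'.1, h'.2.1, h'.2.2.1⟩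
    have h1 := h4r S hS 2
    rw [e] at h1
    exact (U.smul_mem_iff hne).mp h1
  have hB : ∀ S ∈ U4, S 1 2 0 1 = 0 := by
    intro S hS
    by_contra hne
    refine hne3 ⟨?_, ?_⟩
    · have e : (fun i j g => S i j g 1) = S 1 2 0 1 • M1 := by
        funext i j g
        simp only [Pi.smul_apply, M1, smul_eq_mul]
        split_ifs with he
        · obtain ⟨rfl, rfl, rfl⟩ := he; rw [mul_one]
        · rw [mul_zero]
          by_contra h
          rcases hsupp S hS i j g 1 h with h' | h' | h'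
          · exact absurd h'.2.2.2 (by simp)
          · exact he ⟨h'.1, h'.2.1, h'.2.2.1⟩
          · exact absurd h'.2.2.2 (by simp)
      have h1 := h4r S hS 1
      rw [e] at h1
      exact (U.smul_mem_iff hne).mp h1
    · have e : S 1 = S 1 2 0 1 • M2 := by
        funext i j g
        simp only [Pi.smul_apply, M2, smul_eq_mul]
        split_ifs with he
        · obtain ⟨rfl, rfl, rfl⟩ := he; rw [mul_one]
        · rw [mul_zero]
          by_contra h
          rcases hsupp S hS 1 i j g h with h' | h' | h'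
          · exact absurd h'.1 (by simp)
          · exact he ⟨h'.2.1, h'.2.2.1, h'.2.2.2⟩
          · exact absurd h'.1 (by simp)
      have h1 := h4l S hS 1
      rw [e] at h1
      exact (U.smul_mem_iff hne).mp h1
  by_cases hAU : M1 ∈ U
  · refine false_of_le h2 (fun a b c d => if a = 0 ∧ b = 1 ∧ c = 2 ∧ d = 0 then 1 else 0)
      fun S hS => ⟨S 0 1 2 0, ?_⟩
    funext a b c d
    simp only [Pi.smul_apply, smul_eq_mul]
    split_ifs with he
    · obtain ⟨rfl, rfl, rfl, rfl⟩ := he; rw [mul_one]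
    · rw [mul_zero]
      by_contra h
      rcases hsupp S hS a b c d h with h' | ⟨rfl, rfl, rfl, rfl⟩ | ⟨rfl, rfl, rfl, rfl⟩
      · exact he h'
      · exact h (hB S hS)
      · exact hne3 ⟨hAU, hC S hS h⟩
  · refine false_of_le h2 (fun a b c d => if a = 2 ∧ b = 0 ∧ c = 1 ∧ d = 2 then 1 else 0)
      fun S hS => ⟨S 2 0 1 2, ?_⟩
    funext a b c d
    simp only [Pi.smul_apply, smul_eq_mul]
    split_ifs with he
    · obtain ⟨rfl, rfl, rfl, rfl⟩ := he; rw [mul_one]
    · rw [mul_zero]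
      by_contra h
      rcases hsupp S hS a b c d h with ⟨rfl, rfl, rfl, rfl⟩ | ⟨rfl, rfl, rfl, rfl⟩ | h'
      · exact hAU (hA S hS h)
      · exact h (hB S hS)
      · exact he h'

/-- **The tensors of degree four are at most a line.** -/
theorem false_of_two (h01 : w 0 1 = 0) (h12 : w 1 2 = 0) (hns : w 0 2 ≠ w 2 0)
    (hsl : ∀ T ∈ U, Slices w T) (hT0 : T0 ∈ U)
    (hinv : ∀ T ∈ U, (∀ i j g, T i j g = T j g i) → T = 0) (hU2 : 2 ≤ finrank k U)
    (h4l : ∀ S ∈ U4, ∀ a, S a ∈ U) (h4r : ∀ S ∈ U4, ∀ d, (fun i j g => S i j g d) ∈ U)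
    (h2 : 2 ≤ finrank k U4) : False := by
  -- some tensor is not a multiple of `x y z`
  obtain ⟨T, hT, hTne⟩ : ∃ T ∈ U, ¬ ∀ i j g, ¬ (i = 0 ∧ j = 1 ∧ g = 2) → T i j g = 0 := by
    by_contra hcon
    push Not at hcon
    have hle : U ≤ k ∙ T0 := fun T hT => by
      rw [eq_smul_T0 (T := T) fun i j g hne => hcon T hT i j g fun a b => fun c => hne ⟨a, b, c⟩]
      exact Submodule.smul_mem _ _ (Submodule.mem_span_singleton_self _)
    have h1 := Submodule.finrank_mono hle
    have h3 : finrank k ↥(k ∙ (T0 : A3 k)) ≤ 1 := by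
      rw [finrank_span_singleton fun h => by
        have := congrFun (congrFun (congrFun h 0) 1) 2
        simp [T0] at this]
    omega
  have hd : w 0 2 = 0 → w 2 0 ≠ 0 := fun hc h => hns (hc.trans h.symm)
  by_cases hcyc : w 0 0 = 0 ∧ w 1 0 = 0 ∧ w 0 2 = 0 ∧ w 2 1 = 0 ∧ w 2 2 = 0
  · obtain ⟨ha, hb, hc, hf, hg⟩ := hcyc
    have hform : ∀ T ∈ U, ∃ s l : k, (w 1 1 = 0 ∨ s = l) ∧
        ∀ i j g, ¬ (i = 0 ∧ j = 1 ∧ g = 2) →
        T i j g = if i = 1 ∧ j = 2 ∧ g = 0 then s * w 2 0 else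
          if i = 2 ∧ j = 0 ∧ g = 1 then l * w 2 0 else
          if i = 1 ∧ j = 1 ∧ g = 1 then s * w 1 1 else 0 := by
      intro T hT
      rcases cases_of_slices h01 h12 hns (hsl T hT) with h | ⟨-, he, -, -, l, h⟩ |
        ⟨-, -, -, he, s, h⟩ | ⟨-, -, -, -, -, h⟩
      · exact ⟨0, 0, Or.inr rfl, fun i j g hne => by simp [h i j g hne]⟩
      · refine ⟨0, l, Or.inl he, fun i j g hne => ?_⟩
        rw [h i j g hne]
        fin_cases i <;> fin_cases j <;> fin_cases g <;> simp [ha, hb] at hne ⊢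
      · refine ⟨s, 0, Or.inl he, fun i j g hne => ?_⟩
        rw [h i j g hne]
        fin_cases i <;> fin_cases j <;> fin_cases g <;> simp [hf, hg, he] at hne ⊢
      · exact h
    rcases eq_or_ne (w 1 1) 0 with he | he
    · refine false_of_cyclic hT0 h4l h4r h2 hinv fun T hT i j g n0 n1 n2 => ?_
      obtain ⟨s, l, -, hsl'⟩ := hform T hT
      rw [hsl' i j g n0, if_neg n1, if_neg n2, he, mul_zero]
      simp
    · obtain ⟨s, l, hsl0, hTf⟩ := hform T hT
      have hsl1 : s = l := hsl0.resolve_left he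
      subst hsl1
      have hT' : T + (s * w 2 0 - T 0 1 2) • T0 = 0 := by
        refine hinv _ (U.add_mem hT (U.smul_mem _ hT0)) fun i j g => ?_
        fin_cases i <;> fin_cases j <;> fin_cases g <;> simp [T0, hTf]
      refine hTne fun i j g hne => ?_
      have := congrFun (congrFun (congrFun hT' i) j) g
      simpa [T0, if_neg hne] using this
  · rcases cases_of_slices h01 h12 hns (hsl T hT) with h | ⟨hc, he, hf, hg, -⟩ |
      ⟨ha, hb, hc, he, -⟩ | ⟨ha, hb, hc, hf, hg, -⟩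
    · exact hTne h
    · -- left chain
      refine false_of_left (w := w) h4l h4r h2 fun T' hT' => ?_
      rcases cases_of_slices h01 h12 hns (hsl T' hT') with h | ⟨-, -, -, -, h⟩ |
        ⟨ha, hb, -, -, -⟩ | ⟨ha, hb, -, -, -, -⟩
      · exact ⟨0, fun i j g hne => by simp [h i j g hne]⟩
      · exact h
      · exact absurd ⟨ha, hb, hc, hf, hg⟩ hcyc
      · exact absurd ⟨ha, hb, hc, hf, hg⟩ hcyc
    · -- right chain
      refine false_of_right (w := w) h4l h4r h2 fun T' hT' => ?_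
      rcases cases_of_slices h01 h12 hns (hsl T' hT') with h | ⟨-, -, hf, hg, -⟩ |
        ⟨-, -, -, -, h⟩ | ⟨-, -, -, hf, hg, -⟩
      · exact ⟨0, fun i j g hne => by simp [h i j g hne]⟩
      · exact absurd ⟨ha, hb, hc, hf, hg⟩ hcyc
      · exact h
      · exact absurd ⟨ha, hb, hc, hf, hg⟩ hcyc
    · exact hcyc ⟨ha, hb, hc, hf, hg⟩

end Cfsg.Agent.Lib.LocalFive79.Chains
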