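import Cfsg.Agent.Lib.LocalFive79.Chains
import Mathlib.LinearAlgebra.Eigenspace.Triangularizable
import Mathlib.LinearAlgebra.Dual.Lemmas
import Mathlib.LinearAlgebra.FiniteDimensional.Lemmas

/-!
# Ternary tensors with slices in a space of bilinear forms without symmetric elements

Let `W` be a space of at most three bilinear forms on a three-dimensional space without symmetric
elements, `U` a space of trilinear forms with both slices in `W` and, if `dim W = 3`, without
cyclic invariants, `U4` a space of forms of degree four with both slices in `U`. Then `U` or `U4`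
has dimension at most one (`false_of_layers`).
-/

set_option autoImplicit false
set_option maxSynthPendingDepth 4

namespace Cfsg.Agent.Lib.LocalFive79.Tensor

open Module

variable {k : Type*} [Field k] {V : Type*} [AddCommGroup V] [Module k V]

variable (k V) in
/-- Bilinear forms. -/
abbrev B2 := V →ₗ[k] V →ₗ[k] k

variable (k V) in
/-- Trilinear forms. -/
abbrev B3 := V →ₗ[k] B2 k V

variable (k V) in
/-- Forms of degree four. -/
abbrev B4 := V →ₗ[k] B3 k V

/-- The transpose. -/
noncomputable def flip2 : B2 k V ≃ₗ[k] B2 k V := LinearMap.lflip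

@[simp] theorem flip2_apply (w : B2 k V) (e f : V) : flip2 w e f = w f e := rfl

/-- A nonzero linear map is nonzero somewhere. -/
theorem exists_map_ne {M N : Type*} [AddCommGroup M] [Module k M] [AddCommGroup N] [Module k N]
    {φ : M →ₗ[k] N} (hφ : φ ≠ 0) : ∃ x, φ x ≠ 0 := by
  by_contra h
  push Not at h
  exact hφ (LinearMap.ext h)

/-- The last slice of a trilinear form. -/
noncomputable def last3 (g : V) : B3 k V →ₗ[k] B2 k V where
  toFun T := LinearMap.mk₂ k (fun e f => T e f g) (fun _ _ _ => by simp) (fun _ _ _ => by simp)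
    (fun _ _ _ => by simp) (fun _ _ _ => by simp)
  map_add' _ _ := LinearMap.ext₂ fun _ _ => rfl
  map_smul' _ _ := LinearMap.ext₂ fun _ _ => rfl

@[simp] theorem last3_apply (g : V) (T : B3 k V) (e f : V) : last3 g T e f = T e f g := rfl

/-- The reversed trilinear form. -/
noncomputable def rev3 : B3 k V →ₗ[k] B3 k V where
  toFun T :=
    { toFun := fun a => (last3 a T).flip
      map_add' := fun a b => LinearMap.ext₂ fun _ _ => by simp
      map_smul' := fun c a => LinearMap.ext₂ fun _ _ => by simp }
  map_add' _ _ := LinearMap.ext fun _ => LinearMap.ext₂ fun _ _ => rfl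
  map_smul' _ _ := LinearMap.ext fun _ => LinearMap.ext₂ fun _ _ => rfl

@[simp] theorem rev3_apply (T : B3 k V) (a b c : V) : rev3 T a b c = T c b a := rfl

theorem rev3_rev3 (T : B3 k V) : rev3 (rev3 T) = T :=
  LinearMap.ext fun _ => LinearMap.ext₂ fun _ _ => rfl

/-- The last slice of a form of degree four. -/
noncomputable def last4 (d : V) : B4 k V →ₗ[k] B3 k V where
  toFun S :=
    { toFun := fun a => last3 d (S a)
      map_add' := fun a b => by rw [map_add, map_add]
      map_smul' := fun c a => by rw [map_smul, map_smul]; rfl }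
  map_add' _ _ := LinearMap.ext fun _ => LinearMap.ext₂ fun _ _ => rfl
  map_smul' _ _ := LinearMap.ext fun _ => LinearMap.ext₂ fun _ _ => rfl

@[simp] theorem last4_apply (d : V) (S : B4 k V) (a b c : V) : last4 d S a b c = S a b c d := rfl

/-- The reversed form of degree four. -/
noncomputable def rev4 : B4 k V →ₗ[k] B4 k V where
  toFun S :=
    { toFun := fun a => rev3 (last4 a S)
      map_add' := fun a b => LinearMap.ext fun _ => LinearMap.ext₂ fun _ _ => by simp
      map_smul' := fun c a => LinearMap.ext fun _ => LinearMap.ext₂ fun _ _ => by simp }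
  map_add' _ _ := LinearMap.ext fun _ => LinearMap.ext fun _ => LinearMap.ext₂ fun _ _ => rfl
  map_smul' _ _ := LinearMap.ext fun _ => LinearMap.ext fun _ => LinearMap.ext₂ fun _ _ => rfl

@[simp] theorem rev4_apply (S : B4 k V) (a b c d : V) : rev4 S a b c d = S d c b a := rfl

theorem rev4_rev4 (S : B4 k V) : rev4 (rev4 S) = S :=
  LinearMap.ext fun _ => LinearMap.ext fun _ => LinearMap.ext₂ fun _ _ => rfl

/-- The data. -/
structure Sys (W : Submodule k (B2 k V)) (U : Submodule k (B3 k V)) (U4 : Submodule k (B4 k V)) :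
    Prop where
  dim : finrank k W ≤ 3
  sym : ∀ w ∈ W, (∀ u v, w u v = w v u) → w = 0
  first : ∀ T ∈ U, ∀ e, T e ∈ W
  last : ∀ T ∈ U, ∀ g, last3 g T ∈ W
  inv : finrank k W = 3 → ∀ T ∈ U, (∀ a b c, T a b c = T b c a) → T = 0
  first4 : ∀ S ∈ U4, ∀ e, S e ∈ U
  last4 : ∀ S ∈ U4, ∀ d, last4 d S ∈ U

variable [FiniteDimensional k V] {W : Submodule k (B2 k V)} {U : Submodule k (B3 k V)}
  {U4 : Submodule k (B4 k V)}

/-- Reversal. -/
theorem Sys.rev (h : Sys W U U4) :
    Sys (W.map (flip2 (k := k) (V := V)).toLinearMap) (U.map rev3) (U4.map rev4) where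
  dim := by rw [LinearEquiv.finrank_map_eq]; exact h.dim
  sym := by
    rintro _ ⟨w, hw, rfl⟩ hs
    rw [h.sym w hw fun u v => (hs v u), map_zero]
  first := by
    rintro _ ⟨T, hT, rfl⟩ e
    exact ⟨_, h.last T hT e, rfl⟩
  last := by
    rintro _ ⟨T, hT, rfl⟩ g
    exact ⟨_, h.first T hT g, rfl⟩
  inv := by
    rw [LinearEquiv.finrank_map_eq]
    rintro h3 _ ⟨T, hT, rfl⟩ hs
    rw [h.inv h3 T hT fun a b c => ?_, map_zero]
    have h1 := hs a c b
    simp only [rev3_apply] at h1
    exact h1.symm
  first4 := by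
    rintro _ ⟨S, hS, rfl⟩ e
    exact ⟨_, h.last4 S hS e, rfl⟩
  last4 := by
    rintro _ ⟨S, hS, rfl⟩ d
    refine ⟨_, h.first4 S hS d, ?_⟩
    exact LinearMap.ext fun _ => LinearMap.ext₂ fun _ _ => rfl

theorem finrank_map_rev3 (U : Submodule k (B3 k V)) : finrank k (U.map rev3) = finrank k U :=
  (Submodule.equivMapOfInjective rev3
    (Function.Involutive.injective rev3_rev3) U).finrank_eq.symm

theorem finrank_map_rev4 (U4 : Submodule k (B4 k V)) : finrank k (U4.map rev4) = finrank k U4 :=
  (Submodule.equivMapOfInjective rev4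
    (Function.Involutive.injective rev4_rev4) U4).finrank_eq.symm

/-- All first slices are multiples of one form. -/
def Rank1 (T : B3 k V) : Prop := ∃ w, ∀ e, T e ∈ k ∙ w

omit [FiniteDimensional k V] in
/-- Three independent vectors from two. -/
theorem linearIndependent_triple {M : Type*} [AddCommGroup M] [Module k M] {x y z : M}
    (hxy : LinearIndependent k ![x, y]) (hz : z ∉ Submodule.span k {x, y}) :
    LinearIndependent k ![x, y, z] := by
  have h1 : LinearIndependent k (Fin.snoc ![x, y] z) := by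
    refine linearIndependent_finSnoc.mpr ⟨hxy, ?_⟩
    simpa [Matrix.range_cons, Matrix.range_empty, Set.pair_comm] using hz
  convert h1 using 1
  funext i
  fin_cases i <;> rfl

/-- A basis beginning with a given vector. -/
theorem exists_basis (hV : finrank k V = 3) {x : V} (hx : x ≠ 0) :
    ∃ b : Basis (Fin 3) k V, b 0 = x := by
  obtain ⟨y, hy⟩ : ∃ y, y ∉ k ∙ x := by
    by_contra hcon
    push Not at hcon
    have h1 := Submodule.finrank_mono (fun v _ => hcon v : (⊤ : Submodule k V) ≤ k ∙ x)
    rw [finrank_top, hV, finrank_span_singleton hx] at h1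
    omega
  have hxy : LinearIndependent k ![x, y] := by
    rw [LinearIndependent.pair_iff' hx]
    exact fun a e => hy (Submodule.mem_span_singleton.mpr ⟨a, e⟩)
  obtain ⟨z, hz⟩ := exists_linearIndependent_snoc_of_lt_finrank hxy (by rw [hV]; norm_num)
  refine ⟨basisOfLinearIndependentOfCardEqFinrank hz (by rw [hV]; rfl), ?_⟩
  simp [Fin.snoc]

/-- A space of forms of dimension at most one. -/
theorem exists_span_of_finrank_le {W' : Submodule k (B2 k V)} (h : finrank k W' ≤ 1) :
    ∃ v, W' ≤ k ∙ v := by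
  obtain ⟨v, hv⟩ := finrank_le_one_iff.mp h
  exact ⟨v, fun w hw => by
    obtain ⟨c, hc⟩ := hv ⟨w, hw⟩
    exact Submodule.mem_span_singleton.mpr ⟨c, congrArg Subtype.val hc⟩⟩

/-- The forms of `W` killing `e₀` on both sides form at most a line. -/
theorem exists_span_both (hV : finrank k V = 3) (h : Sys W U U4) {e₀ : V} (he : e₀ ≠ 0) :
    ∃ v, ∀ w ∈ W, w e₀ = 0 → (∀ e, w e e₀ = 0) → w ∈ k ∙ v := by
  obtain ⟨b, hb⟩ := exists_basis hV he
  let W' : Submodule k (B2 k V) :=
    W ⊓ (LinearMap.ker (LinearMap.applyₗ e₀ : B2 k V →ₗ[k] _) ⊓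
      LinearMap.ker ((LinearMap.applyₗ e₀ : B2 k V →ₗ[k] _) ∘ₗ
        (flip2 (k := k) (V := V)).toLinearMap))
  suffices hle : finrank k W' ≤ 1 by
    obtain ⟨v, hv⟩ := exists_span_of_finrank_le hle
    refine ⟨v, fun w hw h1 h2 => hv ⟨hw, ?_, ?_⟩⟩
    · exact h1
    · exact LinearMap.ext fun e => h2 e
  let A : B2 k V →ₗ[k] k :=
    { toFun := fun w => w (b 1) (b 2) - w (b 2) (b 1)
      map_add' := fun w w' => by simp only [LinearMap.add_apply]; ring
      map_smul' := fun c w => by simp only [LinearMap.smul_apply, smul_eq_mul, RingHom.id_apply]; ring }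
  have hinj : Function.Injective (A ∘ₗ W'.subtype) := by
    rw [injective_iff_map_eq_zero]
    rintro ⟨w, hw, h1, h2⟩ hA
    refine Subtype.ext (h.sym w hw fun u v => ?_)
    have h1' : ∀ f, w (b 0) f = 0 := fun f => by rw [hb]; exact LinearMap.congr_fun h1 f
    have h2' : ∀ e, w e (b 0) = 0 := fun e => by rw [hb]; exact LinearMap.congr_fun h2 e
    have hA' : w (b 1) (b 2) = w (b 2) (b 1) := sub_eq_zero.mp hA
    have : w = w.flip := b.ext fun i => b.ext fun j => by
      rw [LinearMap.flip_apply]
      fin_cases i <;> fin_cases j <;> simp [h1', h2', hA']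
    exact LinearMap.congr_fun₂ this u v
  have := LinearMap.finrank_le_finrank_of_injective hinj
  rwa [finrank_self] at this

/-- With all forms killing `e₀` on the left the last slices form at most a line. -/
theorem rank1_of_forall (hV : finrank k V = 3) (h : Sys W U U4) {e₀ : V} (he : e₀ ≠ 0)
    (hW : ∀ w ∈ W, w e₀ = 0) {T : B3 k V} (hT : T ∈ U) : Rank1 (rev3 T) := by
  obtain ⟨v, hv⟩ := exists_span_both hV h he
  refine ⟨flip2 v, fun g => ?_⟩
  have hg : last3 g T ∈ k ∙ v := by
    refine hv _ (h.last T hT g) (hW _ (h.last T hT g)) fun e => ?_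
    rw [last3_apply]
    exact LinearMap.congr_fun (hW _ (h.first T hT e)) g
  obtain ⟨c, hc⟩ := Submodule.mem_span_singleton.mp hg
  refine Submodule.mem_span_singleton.mpr ⟨c, ?_⟩
  rw [← map_smul, hc]
  rfl

/-- The trilinear forms of `U` killing `e₀`. -/
def killed (U : Submodule k (B3 k V)) (e₀ : V) : Submodule k (B3 k V) :=
  U ⊓ LinearMap.ker (LinearMap.applyₗ e₀ : B3 k V →ₗ[k] _)

omit [FiniteDimensional k V] in
theorem mem_killed {e₀ : V} {T : B3 k V} : T ∈ killed U e₀ ↔ T ∈ U ∧ T e₀ = 0 := Iff.rfl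

/-- The last slices of a killed form kill `e₀` on the left. -/
theorem last_killed (h : Sys W U U4) {e₀ : V} {T : B3 k V} (hT : T ∈ killed U e₀) (g : V) :
    last3 g T ∈ W ∧ last3 g T e₀ = 0 :=
  ⟨h.last T hT.1 g, LinearMap.ext fun f => by
    rw [last3_apply, (mem_killed.mp hT).2]
    rfl⟩

variable (hV : finrank k V = 3) (h : Sys W U U4)
  (hno : ∀ T ∈ U, T ≠ 0 → ¬ Rank1 T ∧ ¬ Rank1 (rev3 T))

include hV h hno

/-- What a killed form says about the space of forms. -/
theorem killed_data {e₀ : V} (he : e₀ ≠ 0) {T : B3 k V} (hT : T ∈ killed U e₀) (hT0 : T ≠ 0) :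
    (∃ ρ : V →ₗ[k] k, ρ ≠ 0 ∧ ∀ w ∈ W, w e₀ ∈ k ∙ ρ) ∧
    finrank k ↥(W ⊓ LinearMap.ker (LinearMap.applyₗ e₀ : B2 k V →ₗ[k] _)) ≤ 2 := by
  set W' := W ⊓ LinearMap.ker (LinearMap.applyₗ e₀ : B2 k V →ₗ[k] _) with hW'
  have hlt : ¬ W ≤ W' := fun hle =>
    (hno T hT.1 hT0).2 (rank1_of_forall hV h he (fun w hw => (hle hw).2) hT.1)
  have h2 : finrank k W' + 1 ≤ finrank k W :=
    Submodule.finrank_lt_finrank_of_lt (lt_of_le_not_ge inf_le_left hlt)
  have h2' : 2 ≤ finrank k W' := by
    by_contra hcon
    obtain ⟨v, hv⟩ := exists_span_of_finrank_le (k := k) (W' := W') (by omega)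
    refine (hno T hT.1 hT0).2 ⟨flip2 v, fun g => ?_⟩
    obtain ⟨c, hc⟩ := Submodule.mem_span_singleton.mp (hv (last_killed h hT g))
    refine Submodule.mem_span_singleton.mpr ⟨c, ?_⟩
    rw [← map_smul, hc]
    rfl
  have hdim := h.dim
  refine ⟨?_, by omega⟩
  obtain ⟨w₀, hw₀, hw₀'⟩ := SetLike.not_le_iff_exists.mp hlt
  refine ⟨w₀ e₀, fun e => hw₀' ⟨hw₀, e⟩, fun w hw => ?_⟩
  have heq : W' ⊔ k ∙ w₀ = W := by
    refine Submodule.eq_of_le_of_finrank_le
      (sup_le inf_le_left ((Submodule.span_singleton_le_iff_mem _ _).mpr hw₀)) ?_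
    have := Submodule.finrank_lt_finrank_of_lt (lt_of_le_of_ne (le_sup_left (b := k ∙ w₀) (a := W'))
      fun e => hw₀' (by rw [e]; exact le_sup_right (a := W') (Submodule.mem_span_singleton_self w₀)))
    omega
  obtain ⟨w1, hw1, w2, hw2, rfl⟩ := Submodule.mem_sup.mp (heq.ge hw)
  obtain ⟨c, rfl⟩ := Submodule.mem_span_singleton.mp hw2
  refine Submodule.mem_span_singleton.mpr ⟨c, ?_⟩
  rw [LinearMap.add_apply, show w1 e₀ = 0 from hw1.2, zero_add, LinearMap.smul_apply]

/-- At most a line of forms is killed by a vector. -/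
theorem finrank_killed_le {e₀ : V} (he : e₀ ≠ 0) : finrank k (killed U e₀) ≤ 1 := by
  by_contra hcon
  push Not at hcon
  obtain ⟨T₀, hT₀, hT₀0⟩ := Submodule.exists_mem_ne_zero_of_ne_bot (p := killed U e₀) fun e => by
    rw [e, finrank_bot] at hcon
    omega
  obtain ⟨⟨ρ, hρ, hW⟩, hW2⟩ := killed_data hV h hno he hT₀ hT₀0
  obtain ⟨g₀, hg₀⟩ := exists_map_ne hρ
  set W' := W ⊓ LinearMap.ker (LinearMap.applyₗ e₀ : B2 k V →ₗ[k] _) with hW'
  let col : W' →ₗ[k] Dual k V :=
    ((LinearMap.applyₗ e₀ : B2 k V →ₗ[k] _) ∘ₗ (flip2 (k := k) (V := V)).toLinearMap).comp W'.subtype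
  have hcol : ∀ (w : W') (e : V), col w e = (w : B2 k V) e e₀ := fun _ _ => rfl
  let sl : killed U e₀ →ₗ[k] W' := LinearMap.codRestrict W' ((last3 g₀).comp (killed U e₀).subtype)
    fun T => last_killed h T.2 g₀
  -- the row at the kernel vector
  have hrow : ∀ T ∈ killed U e₀, ∀ e g : V, ρ g₀ * T e e₀ g = ρ g * T e e₀ g₀ := by
    intro T hT e g
    obtain ⟨c, hc⟩ := Submodule.mem_span_singleton.mp (hW _ (h.first T hT.1 e))
    rw [← hc]
    simp only [LinearMap.smul_apply, smul_eq_mul]
    ring
  obtain ⟨v, hv⟩ := exists_span_both hV h he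
  have hinj : Function.Injective (col ∘ₗ sl) := by
    rw [injective_iff_map_eq_zero]
    rintro ⟨T, hT⟩ h0
    by_contra hne
    refine (hno T hT.1 fun e => hne (Subtype.ext e)).2 ⟨flip2 v,
      fun g => ?_⟩
    have hg : last3 g T ∈ k ∙ v := by
      refine hv _ (last_killed h hT g).1 (last_killed h hT g).2 fun e => ?_
      have h1 : T e e₀ g₀ = 0 := LinearMap.congr_fun h0 e
      have h2 := hrow T hT e g
      rw [h1, mul_zero, mul_eq_zero] at h2
      exact h2.resolve_left hg₀
    obtain ⟨c, hc⟩ := Submodule.mem_span_singleton.mp hg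
    refine Submodule.mem_span_singleton.mpr ⟨c, ?_⟩
    rw [← map_smul, hc]
    rfl
  have hr1 : 2 ≤ finrank k (LinearMap.range col) := by
    have := Submodule.finrank_mono (LinearMap.range_comp_le_range sl col)
    rw [LinearMap.finrank_range_of_inj hinj] at this
    omega
  have hcinj : Function.Injective col := by
    rw [← LinearMap.ker_eq_bot, ← Submodule.finrank_eq_zero]
    have := LinearMap.finrank_range_add_finrank_ker col
    omega
  refine (hno T₀ hT₀.1 hT₀0).2 ⟨flip2 (last3 g₀ T₀), fun g => ?_⟩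
  refine Submodule.mem_span_singleton.mpr ⟨ρ g / ρ g₀, ?_⟩
  have heq : (⟨last3 g T₀, last_killed h hT₀ g⟩ : W') =
      (ρ g / ρ g₀) • ⟨last3 g₀ T₀, last_killed h hT₀ g₀⟩ := by
    apply hcinj
    refine LinearMap.ext fun e => ?_
    rw [map_smul, LinearMap.smul_apply, hcol, hcol, smul_eq_mul]
    show T₀ e e₀ g = ρ g / ρ g₀ * T₀ e e₀ g₀
    field_simp
    linear_combination hrow T₀ hT₀ e g
  have h3 : last3 g T₀ = (ρ g / ρ g₀) • last3 g₀ T₀ := congrArg Subtype.val heq
  rw [← map_smul, ← h3]
  rfl

/-- There are few trilinear forms. -/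
theorem finrank_le_three : finrank k U ≤ 3 := by
  by_contra hcon
  push Not at hcon
  obtain ⟨e₀, he⟩ : ∃ e₀ : V, e₀ ≠ 0 := by
    haveI : Nontrivial V := Module.nontrivial_of_finrank_pos (R := k) (by omega)
    exact exists_ne 0
  let ev : U →ₗ[k] W := LinearMap.codRestrict W
    ((LinearMap.applyₗ e₀ : B3 k V →ₗ[k] _).comp U.subtype) fun T => h.first T T.2 e₀
  have hker : finrank k (LinearMap.ker ev) ≤ finrank k (killed U e₀) := by
    let F : LinearMap.ker ev →ₗ[k] killed U e₀ :=
      LinearMap.codRestrict _ (U.subtype.comp (LinearMap.ker ev).subtype) fun T =>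
        ⟨T.1.2, congrArg Subtype.val (LinearMap.mem_ker.mp T.2)⟩
    refine LinearMap.finrank_le_finrank_of_injective (f := F) fun a b e => ?_
    exact Subtype.ext (Subtype.ext (congrArg (fun x : killed U e₀ => (x : B3 k V)) e))
  have hk1 := finrank_killed_le hV h hno he
  have hrn := LinearMap.finrank_range_add_finrank_ker ev
  have hrW := Submodule.finrank_le (LinearMap.range ev)
  have hdim := h.dim
  -- a killed form exists
  obtain ⟨T, hT, hT0⟩ := Submodule.exists_mem_ne_zero_of_ne_bot (p := killed U e₀) fun e => by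
    rw [e, finrank_bot] at hker
    omega
  obtain ⟨⟨ρ, hρ, hW⟩, -⟩ := killed_data hV h hno he hT hT0
  obtain ⟨f₀, hf₀⟩ := exists_map_ne hρ
  -- the values at `e₀` are products
  have hprod : ∀ w ∈ LinearMap.range ev, ∀ f g : V,
      ρ f₀ * (w : B2 k V) f g = ρ f * (w : B2 k V) f₀ g := by
    rintro _ ⟨T', rfl⟩ f g
    obtain ⟨c, hc⟩ := Submodule.mem_span_singleton.mp (hW _ (h.last (T' : B3 k V) T'.2 g))
    have hc' : ∀ x, (T' : B3 k V) e₀ x g = c * ρ x := fun x => by
      rw [← last3_apply, ← hc]
      rfl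
    show ρ f₀ * (T' : B3 k V) e₀ f g = ρ f * (T' : B3 k V) e₀ f₀ g
    rw [hc', hc']
    ring
  have htop : LinearMap.range ev = ⊤ := Submodule.eq_top_of_finrank_eq (by omega)
  let τ : W →ₗ[k] Dual k V := (LinearMap.applyₗ f₀ : B2 k V →ₗ[k] _).comp W.subtype
  have hτ : Function.Injective τ := by
    rw [injective_iff_map_eq_zero]
    intro w hw
    refine Subtype.ext (LinearMap.ext₂ fun f g => ?_)
    have h1 := hprod w (htop ▸ Submodule.mem_top) f g
    rw [show (w : B2 k V) f₀ g = 0 from LinearMap.congr_fun hw g, mul_zero, mul_eq_zero] at h1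
    exact h1.resolve_left hf₀
  obtain ⟨w, hw⟩ := (LinearMap.injective_iff_surjective_of_finrank_eq_finrank (f := τ) (by
    rw [Subspace.dual_finrank_eq, hV]; omega)).mp hτ ρ
  have hw' : ∀ g, (w : B2 k V) f₀ g = ρ g := fun g => LinearMap.congr_fun hw g
  have hsym : (w : B2 k V) = 0 := h.sym w w.2 fun u v => by
    refine mul_left_cancel₀ hf₀ ?_
    rw [hprod w (htop ▸ Submodule.mem_top) u v, hprod w (htop ▸ Submodule.mem_top) v u, hw', hw']
    ring
  refine hρ ?_
  rw [← hw, show w = 0 from Subtype.ext hsym, map_zero]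

variable [IsAlgClosed k]

/-- Two dimensions in degree four need a form of rank one. -/
theorem false_of_no_rank1 (h4 : 2 ≤ finrank k U4) : False := by
  have hU3 := finrank_le_three hV h hno
  -- a singular form of degree four
  obtain ⟨S, hS, hS0, e₀, he, hSe⟩ :
      ∃ S ∈ U4, S ≠ 0 ∧ ∃ e₀ : V, e₀ ≠ 0 ∧ S e₀ = 0 := by
    by_contra hcon
    push Not at hcon
    have hinj : ∀ S ∈ U4, S ≠ 0 →
        ∀ hSU : S ∈ U4, Function.Injective (LinearMap.codRestrict U S (h.first4 S hSU)) := by
      intro S _ hS0 hS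
      rw [injective_iff_map_eq_zero]
      intro e he
      by_contra hne
      exact hcon S hS hS0 e hne (congrArg Subtype.val he)
    obtain ⟨S, hS, hS0⟩ := Submodule.exists_mem_ne_zero_of_ne_bot (p := U4) fun e => by
      rw [e, finrank_bot] at h4
      omega
    obtain ⟨S', hS', hS'0⟩ : ∃ S' ∈ U4, S' ∉ k ∙ S := by
      by_contra hcon2
      push Not at hcon2
      have h1 := Submodule.finrank_mono (fun x hx => hcon2 x hx : U4 ≤ k ∙ S)
      rw [finrank_span_singleton hS0] at h1
      omega
    have h3 := LinearMap.finrank_le_finrank_of_injective (hinj S hS hS0 hS)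
    let E : V ≃ₗ[k] U :=
      LinearEquiv.ofInjectiveOfFinrankEq _ (hinj S hS hS0 hS) (by omega)
    let Φ : Module.End k V := E.symm.toLinearMap ∘ₗ LinearMap.codRestrict U S' (h.first4 S' hS')
    haveI : Nontrivial V := Module.nontrivial_of_finrank_pos (R := k) (by omega)
    obtain ⟨μ, hμ⟩ := Module.End.exists_eigenvalue Φ
    obtain ⟨v, hv⟩ := hμ.exists_hasEigenvector
    have hv' : S' v = μ • S v := by
      have h1 := congrArg E hv.apply_eq_smul
      rw [LinearMap.comp_apply, LinearEquiv.coe_coe, LinearEquiv.apply_symm_apply, map_smul] at h1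
      exact congrArg Subtype.val h1
    refine hcon (S' - μ • S) (U4.sub_mem hS' (U4.smul_mem μ hS)) ?_ v hv.2 ?_
    · intro h0
      exact hS'0 (Submodule.mem_span_singleton.mpr ⟨μ, (sub_eq_zero.mp h0).symm⟩)
    · rw [LinearMap.sub_apply, LinearMap.smul_apply, hv', sub_self]
  have hk1 := finrank_killed_le hV h hno he
  have hmem : ∀ d, last4 d S ∈ killed U e₀ := fun d => ⟨h.last4 S hS d,
    LinearMap.ext₂ fun b c => by
      show S e₀ b c d = 0
      rw [hSe]
      rfl⟩
  obtain ⟨T, hT⟩ := finrank_le_one_iff.mp hk1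
  have hτ : ∀ d, ∃ c : k, last4 d S = c • (T : B3 k V) := fun d => by
    obtain ⟨c, hc⟩ := hT ⟨_, hmem d⟩
    exact ⟨c, (congrArg Subtype.val hc).symm⟩
  choose τ hτ using hτ
  have hval : ∀ a b c d, S a b c d = τ d * (T : B3 k V) a b c := fun a b c d => by
    rw [← last4_apply, hτ]
    rfl
  obtain ⟨a, ha⟩ : ∃ a, S a ≠ 0 := exists_map_ne hS0
  refine (hno (S a) (h.first4 S hS a) ha).2
    ⟨flip2 ((T : B3 k V) a), fun d => ?_⟩
  refine Submodule.mem_span_singleton.mpr ⟨τ d, LinearMap.ext₂ fun u v => ?_⟩
  show τ d * (T : B3 k V) a v u = S a v u d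
  rw [hval]

omit hno [IsAlgClosed k]

/-- A form of rank one. -/
theorem false_of_rank1 {T : B3 k V} (hT : T ∈ U) (hT0 : T ≠ 0) (hr : Rank1 T)
    (hU2 : 2 ≤ finrank k U) (h4 : 2 ≤ finrank k U4) : False := by
  obtain ⟨u, hu⟩ := hr
  obtain ⟨e₁, he₁⟩ : ∃ e, T e ≠ 0 := exists_map_ne hT0
  obtain ⟨c₁, hc₁⟩ := Submodule.mem_span_singleton.mp (hu e₁)
  have hc₁0 : c₁ ≠ 0 := by rintro rfl; exact he₁ (by rw [← hc₁, zero_smul])
  have hu0 : u ≠ 0 := fun e => he₁ (by rw [← hc₁, e, smul_zero])
  have huW : u ∈ W := (W.smul_mem_iff hc₁0).mp (hc₁ ▸ h.first T hT e₁)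
  obtain ⟨a, b, hab⟩ : ∃ a b, u a b ≠ 0 := by
    by_contra hcon
    push Not at hcon
    exact hu0 (LinearMap.ext₂ hcon)
  -- the functional
  let α : V →ₗ[k] k := (u a b)⁻¹ • (LinearMap.applyₗ b ∘ₗ (LinearMap.applyₗ a ∘ₗ T))
  have hα : ∀ e, T e = α e • u := fun e => by
    obtain ⟨c, hc⟩ := Submodule.mem_span_singleton.mp (hu e)
    have : α e = c := by
      show (u a b)⁻¹ * T e a b = c
      rw [← hc]
      show (u a b)⁻¹ * (c * u a b) = c
      field_simp
    rw [this, hc]
  have hα0 : α ≠ 0 := fun e => he₁ (by rw [hα, e, LinearMap.zero_apply, zero_smul])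
  have hTv : ∀ e f g, T e f g = α e * u f g := fun e f g => by rw [hα]; rfl
  clear_value α
  let prod : (V →ₗ[k] k) → (V →ₗ[k] k) → B2 k V := fun p q =>
    (LinearMap.smulRightₗ p) q
  have hprod : ∀ p q e f, prod p q e f = p e * q f := fun _ _ _ _ => rfl
  -- the columns
  let M0 : V →ₗ[k] Dual k V := u.flip
  have hM0 : ∀ g f, M0 g f = u f g := fun _ _ => rfl
  have hcolW : ∀ g, prod α (M0 g) ∈ W := fun g => by
    have e : prod α (M0 g) = last3 g T := LinearMap.ext₂ fun e f => by
      rw [hprod, last3_apply, hTv, hM0]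
    rw [e]
    exact h.last T hT g
  have hαM : ∀ g, M0 g = α → False := by
    intro g hg
    have h0 := h.sym _ (hcolW g) fun e f => by rw [hprod, hprod, hg]; ring
    obtain ⟨e, he⟩ := exists_map_ne hα0
    have := LinearMap.congr_fun₂ h0 e e
    rw [hprod, hg] at this
    exact he (mul_self_eq_zero.mp this)
  have hMind : ∀ g, M0 g ≠ 0 → LinearIndependent k ![α, M0 g] := by
    intro g hg
    rw [LinearIndependent.pair_iff' hα0]
    intro c hc
    rcases eq_or_ne c 0 with rfl | hc0
    · exact hg (by rw [← hc, zero_smul])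
    · refine hαM (c⁻¹ • g) ?_
      rw [map_smul, ← hc, smul_smul, inv_mul_cancel₀ hc0, one_smul]
  -- coordinates from three independent functionals
  have hbasis : ∀ φ : Fin 3 → Dual k V, LinearIndependent k φ →
      ∃ β : Basis (Fin 3) k V, ∀ i j, φ i (β j) = if i = j then 1 else 0 := by
    intro φ hφ
    let Φ : V →ₗ[k] (Fin 3 → k) := LinearMap.pi φ
    have htop := hφ.span_eq_top_of_card_eq_finrank (by
      rw [Subspace.dual_finrank_eq, hV]; rfl)
    have hinj : Function.Injective Φ := by
      rw [injective_iff_map_eq_zero]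
      intro v hv
      refine (Module.forall_dual_apply_eq_zero_iff k v).mp fun ψ => ?_
      have hψ : ψ ∈ Submodule.span k (Set.range φ) := htop ▸ Submodule.mem_top
      refine Submodule.span_induction (p := fun x _ => x v = 0) ?_ rfl
        (fun x y _ _ hx hy => by rw [LinearMap.add_apply, hx, hy, add_zero])
        (fun c x _ hx => by rw [LinearMap.smul_apply, hx, smul_zero]) hψ
      rintro _ ⟨i, rfl⟩
      exact congrFun hv i
    let E := LinearEquiv.ofInjectiveOfFinrankEq Φ hinj (by rw [hV, finrank_fin_fun])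
    refine ⟨Basis.ofEquivFun E, fun i j => ?_⟩
    have h1 : Φ ((Basis.ofEquivFun E) j) = Pi.single j 1 := by
      rw [Basis.coe_ofEquivFun]
      exact E.apply_symm_apply _
    have h2 := congrFun h1 i
    rw [LinearMap.pi_apply] at h2
    rw [h2, Pi.single_apply]
  obtain ⟨g₁, hg₁⟩ : ∃ g, M0 g ≠ 0 := ⟨b, fun e => hab (LinearMap.congr_fun e a)⟩
  by_cases hone : ∀ g, M0 g ∈ k ∙ M0 g₁
  · -- the form is a product
    set μ := M0 g₁ with hμ
    obtain ⟨f₁, hf₁⟩ := exists_map_ne hg₁
    let τ : V →ₗ[k] k := (μ f₁)⁻¹ • (LinearMap.applyₗ f₁ ∘ₗ M0)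
    have hu' : ∀ f g, u f g = μ f * τ g := fun f g => by
      obtain ⟨c, hc⟩ := Submodule.mem_span_singleton.mp (hone g)
      show u f g = μ f * ((μ f₁)⁻¹ * M0 g f₁)
      rw [← hM0, ← hc]
      simp only [LinearMap.smul_apply, smul_eq_mul]
      field_simp
    have hαμ : prod α μ ∈ W := hcolW g₁
    have hμτ : prod μ τ ∈ W := by
      rw [show prod μ τ = u from LinearMap.ext₂ fun f g => (hu' f g).symm]; exact huW
    have hind2 := hMind g₁ hg₁
    have hτ0 : τ ≠ 0 := fun e => hab (by rw [hu', e, LinearMap.zero_apply, mul_zero])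
    have hind3 : LinearIndependent k ![α, μ, τ] := by
      refine linearIndependent_triple hind2 fun hmem => ?_
      obtain ⟨c, d, hcd⟩ := Submodule.mem_span_pair.mp hmem
      have hz := h.sym (c • prod α μ + prod μ τ) (W.add_mem (W.smul_mem c hαμ) hμτ) fun e f => by
        simp only [LinearMap.add_apply, LinearMap.smul_apply, hprod, smul_eq_mul, ← hcd]
        ring
      -- evaluate
      obtain ⟨ψ, hψα, hψμ⟩ : ∃ v : V, α v = 0 ∧ μ v ≠ 0 := by
        by_contra hcon
        push Not at hcon
        have hker : LinearMap.ker α ≤ LinearMap.ker μ := fun v hv => hcon v hv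
        obtain ⟨e', he'⟩ := exists_map_ne hα0
        refine (LinearIndependent.pair_iff' hα0).mp hind2 (μ e' / α e') (LinearMap.ext fun v => ?_)
        have hv : μ (v - (α v / α e') • e') = 0 := hcon _ (by
          rw [map_sub, map_smul, smul_eq_mul, div_mul_cancel₀ _ he', sub_self])
        rw [map_sub, map_smul, smul_eq_mul, sub_eq_zero] at hv
        rw [LinearMap.smul_apply, smul_eq_mul, hv]
        ring
      have h1 := LinearMap.congr_fun₂ hz ψ ψ
      simp only [LinearMap.add_apply, LinearMap.smul_apply, hprod, smul_eq_mul, hψα, zero_mul,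
        mul_zero, zero_add, LinearMap.zero_apply, ← hcd, mul_eq_zero] at h1
      have hd : d = 0 := (h1.resolve_left hψμ).resolve_right hψμ
      obtain ⟨e', he'⟩ := exists_map_ne hα0
      have h2 := LinearMap.congr_fun₂ hz e' ψ
      simp only [LinearMap.add_apply, LinearMap.smul_apply, hprod, smul_eq_mul, hψα,
        mul_zero, LinearMap.zero_apply, ← hcd, hd, zero_smul, add_zero] at h2
      have hc : c = 0 := by
        have : c * (α e' * μ ψ) = 0 := by linear_combination h2
        exact (mul_eq_zero.mp this).resolve_right (mul_ne_zero he' hψμ)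
      exact hτ0 (by rw [← hcd, hc, hd, zero_smul, zero_smul, add_zero])
    obtain ⟨β, hβ⟩ := hbasis ![α, μ, τ] hind3
    have hβα : ∀ j, α (β j) = if j = 0 then 1 else 0 := fun j => by
      simpa [eq_comm] using hβ 0 j
    have hβμ : ∀ j, μ (β j) = if j = 1 then 1 else 0 := fun j => by
      simpa [eq_comm] using hβ 1 j
    have hβτ : ∀ j, τ (β j) = if j = 2 then 1 else 0 := fun j => by
      simpa [eq_comm] using hβ 2 j
    have e1 : ∀ i j, prod α μ (β i) (β j) = Chains.E01 i j := fun i j => by
      rw [hprod, hβα, hβμ, Chains.E01, ite_mul, one_mul, zero_mul, ← ite_and]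
    have e2 : ∀ i j, prod μ τ (β i) (β j) = Chains.E12 i j := fun i j => by
      rw [hprod, hβμ, hβτ, Chains.E12, ite_mul, one_mul, zero_mul, ← ite_and]
    have hindW : LinearIndependent k ![prod α μ, prod μ τ] := by
      rw [LinearIndependent.pair_iff]
      intro s t hst
      constructor
      · simpa [e1, e2, Chains.E01, Chains.E12] using LinearMap.congr_fun₂ hst (β 0) (β 1)
      · simpa [e1, e2, Chains.E01, Chains.E12] using LinearMap.congr_fun₂ hst (β 1) (β 2)
    let arr3 : B3 k V →ₗ[k] Chains.A3 k :=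
      { toFun := fun S i j g => S (β i) (β j) (β g)
        map_add' := fun _ _ => rfl
        map_smul' := fun _ _ => rfl }
    let arr4 : B4 k V →ₗ[k] Chains.A4 k :=
      { toFun := fun S a b c d => S (β a) (β b) (β c) (β d)
        map_add' := fun _ _ => rfl
        map_smul' := fun _ _ => rfl }
    have h3inj : Function.Injective arr3 := fun S S' e => β.ext fun i => β.ext fun j => β.ext
      fun g => congrFun (congrFun (congrFun e i) j) g
    have h4inj : Function.Injective arr4 := fun S S' e => β.ext fun a => β.ext fun b => β.ext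
      fun c => β.ext fun d => congrFun (congrFun (congrFun (congrFun e a) b) c) d
    have hT0' : arr3 T = Chains.T0 := by
      funext i j g
      show T (β i) (β j) (β g) = _
      rw [hTv, hu', hβα, hβμ, hβτ, Chains.T0]
      fin_cases i <;> fin_cases j <;> fin_cases g <;> simp
    -- the third form
    obtain ⟨w, hwW, hspan, h01, h12, hw0⟩ : ∃ w ∈ W,
        (∀ x ∈ W, ∃ s t r : k, x = s • prod α μ + t • prod μ τ + r • w) ∧
        w (β 0) (β 1) = 0 ∧ w (β 1) (β 2) = 0 ∧ (finrank k W = 3 → w ≠ 0) := by
      have hpair : finrank k ↥(k ∙ prod α μ ⊔ k ∙ prod μ τ) = 2 := by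
        rw [← Submodule.span_union, Set.singleton_union]
        have := finrank_span_eq_card hindW
        rwa [Matrix.range_cons, Matrix.range_cons, Matrix.range_empty, Set.union_empty,
          Set.singleton_union, Fintype.card_fin] at this
      have hpW : k ∙ prod α μ ⊔ k ∙ prod μ τ ≤ W := sup_le
        ((Submodule.span_singleton_le_iff_mem _ _).mpr hαμ)
        ((Submodule.span_singleton_le_iff_mem _ _).mpr hμτ)
      by_cases h2 : W ≤ k ∙ prod α μ ⊔ k ∙ prod μ τ
      · refine ⟨0, W.zero_mem, fun x hx => ?_, rfl, rfl, fun h3 => ?_⟩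
        · obtain ⟨y, hy, z, hz, rfl⟩ := Submodule.mem_sup.mp (h2 hx)
          obtain ⟨s, rfl⟩ := Submodule.mem_span_singleton.mp hy
          obtain ⟨t, rfl⟩ := Submodule.mem_span_singleton.mp hz
          exact ⟨s, t, 0, by simp⟩
        · have := Submodule.finrank_mono h2
          omega
      obtain ⟨w, hw, hwn⟩ := SetLike.not_le_iff_exists.mp h2
      have hwn' : w - w (β 0) (β 1) • prod α μ - w (β 1) (β 2) • prod μ τ ∉
          k ∙ prod α μ ⊔ k ∙ prod μ τ := fun hm => hwn (by
        rw [sub_sub] at hm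
        exact (Submodule.sub_mem_iff_left _ (Submodule.add_mem _
          (Submodule.mem_sup_left (Submodule.smul_mem _ _ (Submodule.mem_span_singleton_self _)))
          (Submodule.mem_sup_right (Submodule.smul_mem _ _
            (Submodule.mem_span_singleton_self _))))).mp hm)
      set w' := w - w (β 0) (β 1) • prod α μ - w (β 1) (β 2) • prod μ τ with hw'
      have hw'W : w' ∈ W := W.sub_mem (W.sub_mem hw (W.smul_mem _ hαμ)) (W.smul_mem _ hμτ)
      refine ⟨w', hw'W, fun x hx => ?_, ?_, ?_, fun _ e0 => hwn' (e0 ▸ Submodule.zero_mem _)⟩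
      · have heq : k ∙ prod α μ ⊔ k ∙ prod μ τ ⊔ k ∙ w' = W := by
          refine Submodule.eq_of_le_of_finrank_le
            (sup_le hpW ((Submodule.span_singleton_le_iff_mem _ _).mpr hw'W)) ?_
          have := Submodule.finrank_lt_finrank_of_lt (lt_of_le_of_ne
            (le_sup_left (a := k ∙ prod α μ ⊔ k ∙ prod μ τ) (b := k ∙ w')) fun e => hwn' (by
              rw [e]
              exact le_sup_right (a := k ∙ prod α μ ⊔ k ∙ prod μ τ)
                (Submodule.mem_span_singleton_self w')))
          have hdim := h.dim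
          omega
        obtain ⟨y, hy, z, hz, rfl⟩ := Submodule.mem_sup.mp (heq.ge hx)
        obtain ⟨r, rfl⟩ := Submodule.mem_span_singleton.mp hz
        obtain ⟨y1, hy1, y2, hy2, rfl⟩ := Submodule.mem_sup.mp hy
        obtain ⟨s, rfl⟩ := Submodule.mem_span_singleton.mp hy1
        obtain ⟨t, rfl⟩ := Submodule.mem_span_singleton.mp hy2
        exact ⟨s, t, r, rfl⟩
      · simp [w', e1, e2, Chains.E01, Chains.E12]
      · simp [w', e1, e2, Chains.E01, Chains.E12]
    set wa : Fin 3 → Fin 3 → k := fun i j => w (β i) (β j) with hwa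
    have hslices : ∀ S ∈ U, Chains.Slices wa (arr3 S) := by
      intro S hS
      constructor
      · choose s t r hs using fun i => hspan _ (h.first S hS (β i))
        refine ⟨s, t, r, fun i j g => ?_⟩
        show S (β i) (β j) (β g) = _
        rw [hs i]
        simp only [LinearMap.add_apply, LinearMap.smul_apply, smul_eq_mul, e1, e2]
        rfl
      · choose s t r hs using fun g => hspan _ (h.last S hS (β g))
        refine ⟨s, t, r, fun i j g => ?_⟩
        have := LinearMap.congr_fun₂ (hs g) (β i) (β j)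
        simp only [last3_apply, LinearMap.add_apply, LinearMap.smul_apply, smul_eq_mul, e1, e2]
          at this
        exact this
    by_cases hns : wa 0 2 = wa 2 0
    · -- only two forms
      have hw : w = 0 := by
        refine Classical.byContradiction fun hw => ?_
        have hs := h.sym (w + wa 1 0 • prod α μ + wa 2 1 • prod μ τ)
          (W.add_mem (W.add_mem hwW (W.smul_mem _ hαμ)) (W.smul_mem _ hμτ)) (fun x y => ?_)
        · refine hw ?_
          have h10 : wa 1 0 = 0 := by
            have := LinearMap.congr_fun₂ hs (β 1) (β 0)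
            simpa [e1, e2, Chains.E01, Chains.E12, wa] using this
          have h21 : wa 2 1 = 0 := by
            have := LinearMap.congr_fun₂ hs (β 2) (β 1)
            simpa [e1, e2, Chains.E01, Chains.E12, wa] using this
          rwa [h10, h21, zero_smul, zero_smul, add_zero, add_zero] at hs
        · have hsy : ∀ i j, (w + wa 1 0 • prod α μ + wa 2 1 • prod μ τ) (β i) (β j) =
              (w + wa 1 0 • prod α μ + wa 2 1 • prod μ τ) (β j) (β i) := by
            intro i j
            simp only [LinearMap.add_apply, LinearMap.smul_apply, smul_eq_mul, e1, e2]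
            fin_cases i <;> fin_cases j <;>
              simp [Chains.E01, Chains.E12, wa, h01, h12] at hns ⊢ <;> simp [hns]
          have : (w + wa 1 0 • prod α μ + wa 2 1 • prod μ τ) =
              (w + wa 1 0 • prod α μ + wa 2 1 • prod μ τ).flip :=
            β.ext fun i => β.ext fun j => hsy i j
          exact LinearMap.congr_fun₂ this x y
      have hsl : ∀ S ∈ U, ∀ i j g, ¬ (i = 0 ∧ j = 1 ∧ g = 2) → arr3 S i j g = 0 := by
        intro S hS i j g hne
        obtain ⟨⟨p1, p2, s, hP⟩, q1, q2, l, hQ⟩ := hslices S hS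
        have hwa0 : ∀ i j, wa i j = 0 := fun i j => by simp [wa, hw]
        have hp := hP i j g
        rw [hwa0, mul_zero, add_zero] at hp
        have hq := hQ i j g
        rw [hwa0, mul_zero, add_zero] at hq
        fin_cases i <;> fin_cases j <;> fin_cases g <;>
          simp [Chains.E01, Chains.E12] at hne hp hq ⊢ <;> first | exact hp | exact hq
      have hle : U ≤ k ∙ T := fun S hS => by
        refine Submodule.mem_span_singleton.mpr ⟨arr3 S 0 1 2, h3inj ?_⟩
        rw [map_smul, hT0']
        exact (Chains.eq_smul_T0 (hsl S hS)).symm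
      have := Submodule.finrank_mono hle
      rw [finrank_span_singleton hT0] at this
      omega
    have hW3 : finrank k W = 3 := by
      refine le_antisymm h.dim (not_lt.mp fun hlt => hns ?_)
      have hpair : finrank k ↥(k ∙ prod α μ ⊔ k ∙ prod μ τ) = 2 := by
        rw [← Submodule.span_union, Set.singleton_union]
        have := finrank_span_eq_card hindW
        rwa [Matrix.range_cons, Matrix.range_cons, Matrix.range_empty, Set.union_empty,
          Set.singleton_union, Fintype.card_fin] at this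
      have heq : k ∙ prod α μ ⊔ k ∙ prod μ τ = W := Submodule.eq_of_le_of_finrank_le
        (sup_le ((Submodule.span_singleton_le_iff_mem _ _).mpr hαμ)
          ((Submodule.span_singleton_le_iff_mem _ _).mpr hμτ)) (by omega)
      obtain ⟨y, hy, z, hz, e⟩ := Submodule.mem_sup.mp (heq.ge hwW)
      obtain ⟨s, rfl⟩ := Submodule.mem_span_singleton.mp hy
      obtain ⟨t, rfl⟩ := Submodule.mem_span_singleton.mp hz
      simp [wa, ← e, e1, e2, Chains.E01, Chains.E12]
    refine Chains.false_of_two (w := wa) (U := U.map arr3) (U4 := U4.map arr4) h01 h12 hns ?_ ?_ ?_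
      ?_ ?_ ?_ ?_
    · rintro _ ⟨S, hS, rfl⟩
      exact hslices S hS
    · exact ⟨T, hT, hT0'⟩
    · rintro _ ⟨S, hS, rfl⟩ hs
      rw [h.inv hW3 S hS ?_, map_zero]
      intro x y z
      have key : ∀ i j g, S (β i) (β j) (β g) = S (β j) (β g) (β i) := hs
      let S' : B3 k V :=
        { toFun := fun a => last3 a S
          map_add' := fun a b => LinearMap.ext₂ fun _ _ => by simp
          map_smul' := fun c a => LinearMap.ext₂ fun _ _ => by simp }
      have heq : S = S' := β.ext fun i => β.ext fun j => β.ext fun g => key i j g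
      exact LinearMap.congr_fun (LinearMap.congr_fun₂ heq x y) z
    · rw [← (Submodule.equivMapOfInjective arr3 h3inj U).finrank_eq]; exact hU2
    · rintro _ ⟨S, hS, rfl⟩ i
      exact ⟨_, h.first4 S hS (β i), rfl⟩
    · rintro _ ⟨S, hS, rfl⟩ d
      exact ⟨_, h.last4 S hS (β d), rfl⟩
    · rw [← (Submodule.equivMapOfInjective arr4 h4inj U4).finrank_eq]; exact h4
  · -- two independent columns
    push Not at hone
    obtain ⟨g₂, hg₂⟩ := hone
    have hcols : LinearIndependent k ![α, M0 g₁, M0 g₂] := by
      refine linearIndependent_triple (hMind g₁ hg₁) fun hmem => ?_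
      obtain ⟨c, d, hcd⟩ := Submodule.mem_span_pair.mp hmem
      rcases eq_or_ne c 0 with rfl | hc
      · exact hg₂ (Submodule.mem_span_singleton.mpr ⟨d, by rw [← hcd, zero_smul, zero_add]⟩)
      · refine hαM (c⁻¹ • g₂ - (c⁻¹ * d) • g₁) ?_
        rw [map_sub, map_smul, map_smul, ← hcd, smul_add, smul_smul, smul_smul,
          inv_mul_cancel₀ hc, one_smul, add_sub_cancel_right]
    obtain ⟨β, hβ⟩ := hbasis ![α, M0 g₁, M0 g₂] hcols
    have hβα : ∀ j, α (β j) = if j = 0 then 1 else 0 := fun j => by
      simpa [eq_comm] using hβ 0 j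
    have hβ1 : ∀ j, M0 g₁ (β j) = if j = 1 then 1 else 0 := fun j => by
      simpa [eq_comm] using hβ 1 j
    have hβ2 : ∀ j, M0 g₂ (β j) = if j = 2 then 1 else 0 := fun j => by
      simpa [eq_comm] using hβ 2 j
    have hp1 := hcolW g₁
    have hp2 := hcolW g₂
    set P1 := prod α (M0 g₁) with hP1
    set P2 := prod α (M0 g₂) with hP2
    have ind3 : LinearIndependent k ![P1, P2, u] := by
      rw [Fintype.linearIndependent_iff]
      intro cf hcf
      simp only [Fin.sum_univ_three, Matrix.cons_val_zero, Matrix.cons_val_one,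
        Matrix.cons_val] at hcf
      have hev : ∀ e f, cf 0 * (α e * M0 g₁ f) + cf 1 * (α e * M0 g₂ f) + cf 2 * u e f = 0 := by
        intro e f
        have := LinearMap.congr_fun₂ hcf e f
        simpa [P1, P2, hprod] using this
      have h2z : cf 2 = 0 := by
        have := hev (β 1) g₁
        rw [hβα, if_neg (by decide), zero_mul, zero_mul, mul_zero, mul_zero, zero_add, zero_add,
          ← hM0, hβ1, if_pos rfl, mul_one] at this
        exact this
      have e01 := hev (β 0) (β 1)
      have e02 := hev (β 0) (β 2)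
      rw [h2z, zero_mul, hβα, hβ1, hβ2] at e01 e02
      simp at e01 e02
      intro i
      fin_cases i
      exacts [e01, e02, h2z]
    have hW3 : Submodule.span k (Set.range ![P1, P2, u]) = W := by
      refine Submodule.eq_of_le_of_finrank_le (Submodule.span_le.mpr ?_) ?_
      · rintro _ ⟨i, rfl⟩
        fin_cases i
        exacts [hp1, hp2, huW]
      · rw [finrank_span_eq_card ind3, Fintype.card_fin]; exact h.dim
    have hspan : ∀ x ∈ W, ∃ p q r : k, x = p • P1 + q • P2 + r • u := by
      intro x hx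
      obtain ⟨cf, hcf⟩ := (Submodule.mem_span_range_iff_exists_fun k).mp (hW3.ge hx)
      exact ⟨cf 0, cf 1, cf 2, by simpa [Fin.sum_univ_three] using hcf.symm⟩
    -- the first row of `u` vanishes
    have hu00 : ∀ g, u (β 0) g = 0 := by
      intro g
      obtain ⟨p, q, r, hx⟩ := hspan _ (hcolW g)
      have key : ∀ e f, α e * M0 g f = p * (α e * M0 g₁ f) + q * (α e * M0 g₂ f) + r * u e f := by
        intro e f
        have := LinearMap.congr_fun₂ hx e f
        simpa [P1, P2, hprod] using this
      have hr : r = 0 := by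
        have := key (β 1) g₁
        rw [hβα, if_neg (by decide), zero_mul, zero_mul, zero_mul, mul_zero, mul_zero, zero_add,
          zero_add, ← hM0, hβ1, if_pos rfl, mul_one] at this
        exact this.symm
      have := key (β 0) (β 0)
      rw [hr, hβα, hβ1, hβ2] at this
      simpa [← hM0] using this
    have hle : U ≤ k ∙ T := by
      intro S hS
      obtain ⟨p, q, r, hx⟩ := hspan _ (h.first S hS (β 0))
      have hpq : ∀ g, p * M0 g₁ g + q * M0 g₂ g = 0 := by
        intro g
        obtain ⟨p', q', r', hy⟩ := hspan _ (h.last S hS g)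
        have h1 := LinearMap.congr_fun₂ hy (β 0) (β 0)
        have h2 := LinearMap.congr_fun₂ hx (β 0) g
        rw [last3_apply] at h1
        simp [P1, P2, hprod, hβα, hβ1, hβ2, hu00] at h1 h2
        linear_combination h1 - h2
      have hp : p = 0 := by
        have := hpq (β 1); simpa [hβ1, hβ2] using this
      have hq : q = 0 := by
        have := hpq (β 2); simpa [hβ1, hβ2] using this
      set R := S - r • T with hR
      have hRU : R ∈ U := U.sub_mem hS (U.smul_mem _ hT)
      have hR0 : R (β 0) = 0 := by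
        rw [hR, LinearMap.sub_apply, LinearMap.smul_apply, hα, hβα, if_pos rfl, one_smul, hx, hp, hq,
          zero_smul, zero_smul, zero_add, zero_add, sub_self]
      have hlast : ∀ g, ∃ c : k, last3 g R = c • u := by
        intro g
        obtain ⟨p', q', r', hy⟩ := hspan _ (h.last R hRU g)
        refine ⟨r', ?_⟩
        have hv : ∀ f, p' * M0 g₁ f + q' * M0 g₂ f = 0 := fun f => by
          have h1 := LinearMap.congr_fun₂ hy (β 0) f
          rw [last3_apply, hR0] at h1
          simp [P1, P2, hprod, hβα, hu00] at h1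
          linear_combination -h1
        have hp' : p' = 0 := by
          have := hv (β 1); simpa [hβ1, hβ2] using this
        have hq' : q' = 0 := by
          have := hv (β 2); simpa [hβ1, hβ2] using this
        rw [hy, hp', hq', zero_smul, zero_smul, zero_add, zero_add]
      choose τ hτ using hlast
      have hRv : ∀ e f g, R e f g = τ g * u e f := fun e f g => by
        rw [← last3_apply, hτ]; rfl
      have hR0' : R = 0 := by
        by_contra hne
        obtain ⟨g₃, hg₃⟩ : ∃ g, τ g ≠ 0 := by
          by_contra hcon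
          push Not at hcon
          exact hne (LinearMap.ext fun e => LinearMap.ext₂ fun f g => by
            rw [hRv, hcon, zero_mul]; rfl)
        have hrow : ∀ e f, u e f = u e (β 0) * α f := by
          intro e f
          obtain ⟨p', q', r', hy⟩ := hspan _ (h.first R hRU e)
          have key : ∀ f g, τ g * u e f =
              p' * (α f * M0 g₁ g) + q' * (α f * M0 g₂ g) + r' * u f g := fun f g => by
            have := LinearMap.congr_fun₂ hy f g
            rw [hRv] at this
            simpa [P1, P2, hprod] using this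
          -- the column at `β 0`
          have k0 : ∀ g, τ g * u e (β 0) = p' * M0 g₁ g + q' * M0 g₂ g := fun g => by
            have := key (β 0) g
            rw [hβα, if_pos rfl, hu00, mul_zero, add_zero, one_mul, one_mul] at this
            exact this
          have k1 : ∀ f g, τ g * (u e f - u e (β 0) * α f) = r' * u f g := fun f g => by
            linear_combination key f g - α f * k0 g
          have hr' : r' = 0 := by
            by_contra hr
            -- then `u` would be a product
            refine hg₂ (Submodule.mem_span_singleton.mpr ?_)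
            have hg1τ : τ g₁ ≠ 0 := fun h0 => hg₁ (LinearMap.ext fun f => by
              have := k1 f g₁
              rw [h0, zero_mul, ← hM0, eq_comm, mul_eq_zero] at this
              exact this.resolve_left hr)
            refine ⟨τ g₂ / τ g₁, LinearMap.ext fun f => mul_left_cancel₀ hr ?_⟩
            rw [LinearMap.smul_apply, smul_eq_mul, hM0, hM0, ← k1 f g₂]
            field_simp
            linear_combination (-τ g₂) * k1 f g₁
          have := k1 f g₃
          rw [hr', zero_mul, mul_eq_zero] at this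
          exact sub_eq_zero.mp (this.resolve_left hg₃)
        -- `u` is a product
        have h1 : M0 g₁ (β 1) = u (β 1) (β 0) * α g₁ := by rw [hM0]; exact hrow _ _
        have h2 : M0 g₁ (β 2) = u (β 2) (β 0) * α g₁ := by rw [hM0]; exact hrow _ _
        have h3 : M0 g₂ (β 1) = u (β 1) (β 0) * α g₂ := by rw [hM0]; exact hrow _ _
        have h4' : M0 g₂ (β 2) = u (β 2) (β 0) * α g₂ := by rw [hM0]; exact hrow _ _
        simp [hβ1, hβ2] at h1 h2 h3 h4'
        rcases h2 with h2 | h2
        · rw [h2, zero_mul] at h4'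
          exact one_ne_zero h4'
        · rw [h2, mul_zero] at h1
          exact one_ne_zero h1
      rw [sub_eq_zero] at hR0'
      exact Submodule.mem_span_singleton.mpr ⟨r, hR0'.symm⟩
    have := Submodule.finrank_mono hle
    rw [finrank_span_singleton hT0] at this
    omega

omit h
variable [IsAlgClosed k]

/-- **Two dimensions in degree three and in degree four are impossible.** -/
theorem false_of_layers (h : Sys W U U4) (hU2 : 2 ≤ finrank k U) (h4 : 2 ≤ finrank k U4) :
    False := by
  by_cases hr : ∀ T ∈ U, T ≠ 0 → ¬ Rank1 T ∧ ¬ Rank1 (rev3 T)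
  · exact false_of_no_rank1 hV h hr h4
  push Not at hr
  obtain ⟨T, hT, hT0, hT1⟩ := hr
  by_cases h1 : Rank1 T
  · exact false_of_rank1 hV h hT hT0 h1 hU2 h4
  · refine false_of_rank1 hV h.rev (T := rev3 T) ⟨T, hT, rfl⟩ (fun e => hT0 ?_) (hT1 h1) ?_ ?_
    · rw [← rev3_rev3 T, e, map_zero]
    · rwa [finrank_map_rev3]
    · rwa [finrank_map_rev4]

end Cfsg.Agent.Lib.LocalFive79.Tensor
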