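import Cfsg.Agent.Lib.LocalFive79.Two
import Cfsg.Agent.Lib.LocalFive79.Tensor

/-!
# Local symmetric algebras whose commutators have codimension at most five

Such an algebra has dimension at most `14` (`finrank_le`).
-/

set_option autoImplicit false
set_option maxSynthPendingDepth 4

namespace Cfsg.Agent.Lib.LocalFive79.Main

open Module Cfsg.Agent.Lib.BrauerPairs.CornerLocal Cfsg.Agent.Lib.LocalFive79.Base
open Cfsg.Agent.Lib.LocalFive79.Tensor (B2 B3 B4 Sys)

variable {k : Type*} [Field k] {A : Type*} [Ring A] [Algebra k A]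
variable {C J : Submodule k A} {f : A} {lam : A →ₗ[k] k}

/-- The coordinate space. -/
abbrev V3 (k : Type*) := Fin 3 → k

variable (ι : V3 k →ₗ[k] A)

/-- Values on products of two generators. -/
noncomputable def psi2 : Dual k A →ₗ[k] B2 k (V3 k) where
  toFun φ := ((LinearMap.mul k A).compr₂ φ).compl₁₂ ι ι
  map_add' _ _ := LinearMap.ext₂ fun _ _ => rfl
  map_smul' _ _ := LinearMap.ext₂ fun _ _ => rfl

theorem psi2_apply (φ : Dual k A) (u v : V3 k) : psi2 ι φ u v = φ (ι u * ι v) := rfl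

/-- Values on products of three generators. -/
noncomputable def psi3 : Dual k A →ₗ[k] B3 k (V3 k) where
  toFun φ :=
    { toFun := fun u => psi2 ι (φ.comp (LinearMap.mulLeft k (ι u)))
      map_add' := fun u v => LinearMap.ext₂ fun _ _ => by simp [psi2_apply, add_mul]
      map_smul' := fun c u => LinearMap.ext₂ fun _ _ => by simp [psi2_apply] }
  map_add' _ _ := LinearMap.ext fun _ => LinearMap.ext₂ fun _ _ => rfl
  map_smul' _ _ := LinearMap.ext fun _ => LinearMap.ext₂ fun _ _ => rfl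

theorem psi3_apply (φ : Dual k A) (u : V3 k) :
    psi3 ι φ u = psi2 ι (φ.comp (LinearMap.mulLeft k (ι u))) := rfl

/-- Values on products of four generators. -/
noncomputable def psi4 : Dual k A →ₗ[k] B4 k (V3 k) where
  toFun φ :=
    { toFun := fun u => psi3 ι (φ.comp (LinearMap.mulLeft k (ι u)))
      map_add' := fun u v => LinearMap.ext fun _ => LinearMap.ext₂ fun _ _ => by
        simp [psi3_apply, psi2_apply, add_mul]
      map_smul' := fun c u => LinearMap.ext fun _ => LinearMap.ext₂ fun _ _ => by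
        simp [psi3_apply, psi2_apply] }
  map_add' _ _ := LinearMap.ext fun _ => LinearMap.ext fun _ => LinearMap.ext₂ fun _ _ => rfl
  map_smul' _ _ := LinearMap.ext fun _ => LinearMap.ext fun _ => LinearMap.ext₂ fun _ _ => rfl

theorem psi4_apply (φ : Dual k A) (u : V3 k) :
    psi4 ι φ u = psi3 ι (φ.comp (LinearMap.mulLeft k (ι u))) := rfl

variable {ι}

theorem comp_left_mem (hι : ∀ u, ι u ∈ J) {t : ℕ} {φ : Dual k A}
    (hφ : φ ∈ (J ^ (t + 1)).dualAnnihilator) (u : V3 k) :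
    φ.comp (LinearMap.mulLeft k (ι u)) ∈ (J ^ t).dualAnnihilator := by
  rw [Submodule.mem_dualAnnihilator] at hφ ⊢
  intro w hw
  exact hφ _ (Two.mul_left_mem (hι u) hw)

theorem comp_right_mem (hι : ∀ u, ι u ∈ J) {t : ℕ} {φ : Dual k A}
    (hφ : φ ∈ (J ^ (t + 1)).dualAnnihilator) (u : V3 k) :
    φ.comp (LinearMap.mulRight k (ι u)) ∈ (J ^ t).dualAnnihilator := by
  rw [Submodule.mem_dualAnnihilator] at hφ ⊢
  intro w hw
  exact hφ _ (Two.mul_right_mem hw (hι u))

/-- Functionals killing all products by generators kill the power. -/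
theorem mem_of_left (hι : ∀ u, ι u ∈ J) (hgen : J ≤ LinearMap.range ι ⊔ J ^ 2) {t : ℕ}
    {φ : Dual k A} (hφ : φ ∈ (J ^ (t + 2)).dualAnnihilator)
    (h0 : ∀ u, φ.comp (LinearMap.mulLeft k (ι u)) ∈ (J ^ t).dualAnnihilator) :
    φ ∈ (J ^ (t + 1)).dualAnnihilator := by
  rw [Submodule.mem_dualAnnihilator] at hφ ⊢
  intro w hw
  have hle : J ^ (t + 1) ≤ LinearMap.ker φ := by
    rw [pow_succ' J t]
    refine Submodule.mul_le.mpr fun a ha b hb => ?_
    obtain ⟨a1, ha1, a2, ha2, rfl⟩ := Submodule.mem_sup.mp (hgen ha)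
    obtain ⟨u, rfl⟩ := ha1
    rw [LinearMap.mem_ker, add_mul, map_add]
    have h1 := (Submodule.mem_dualAnnihilator _).mp (h0 u) b hb
    rw [LinearMap.comp_apply, LinearMap.mulLeft_apply] at h1
    rw [h1, zero_add]
    exact hφ _ (by rw [Nat.add_comm t 2]; exact Two.mul_mem_add ha2 hb)
  exact hle hw

theorem mem_of_psi2 (hι : ∀ u, ι u ∈ J) (hgen : J ≤ LinearMap.range ι ⊔ J ^ 2) {φ : Dual k A}
    (hφ : φ ∈ (J ^ 3).dualAnnihilator) (h0 : psi2 ι φ = 0) : φ ∈ (J ^ 2).dualAnnihilator := by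
  refine mem_of_left hι hgen (t := 1) hφ fun u => ?_
  rw [pow_one, Submodule.mem_dualAnnihilator]
  intro b hb
  obtain ⟨b1, hb1, b2, hb2, rfl⟩ := Submodule.mem_sup.mp (hgen hb)
  obtain ⟨v, rfl⟩ := hb1
  rw [LinearMap.comp_apply, LinearMap.mulLeft_apply, mul_add, map_add, ← psi2_apply, h0,
    LinearMap.zero_apply, LinearMap.zero_apply, zero_add]
  exact (Submodule.mem_dualAnnihilator _).mp hφ _ (Two.mul_left_mem (hι u) hb2)

theorem mem_of_psi3 (hι : ∀ u, ι u ∈ J) (hgen : J ≤ LinearMap.range ι ⊔ J ^ 2) {φ : Dual k A}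
    (hφ : φ ∈ (J ^ 4).dualAnnihilator) (h0 : psi3 ι φ = 0) : φ ∈ (J ^ 3).dualAnnihilator :=
  mem_of_left hι hgen (t := 2) hφ fun u => mem_of_psi2 hι hgen (comp_left_mem hι hφ u)
    (by rw [← psi3_apply, h0, LinearMap.zero_apply])

theorem mem_of_psi4 (hι : ∀ u, ι u ∈ J) (hgen : J ≤ LinearMap.range ι ⊔ J ^ 2) {φ : Dual k A}
    (hφ : φ ∈ (J ^ 5).dualAnnihilator) (h0 : psi4 ι φ = 0) : φ ∈ (J ^ 4).dualAnnihilator :=
  mem_of_left hι hgen (t := 3) hφ fun u => mem_of_psi3 hι hgen (comp_left_mem hι hφ u)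
    (by rw [← psi4_apply, h0, LinearMap.zero_apply])

variable [FiniteDimensional k A]

/-- The values on products see a whole layer. -/
theorem layer_le {B : Type*} [AddCommGroup B] [Module k B] [FiniteDimensional k B]
    (ψ : Dual k A →ₗ[k] B) {X Y : Submodule k A}
    (h0 : ∀ φ ∈ X.dualAnnihilator, ψ φ = 0 → φ ∈ Y.dualAnnihilator) :
    finrank k Y ≤ finrank k X + finrank k (X.dualAnnihilator.map ψ) := by
  have h1 := LinearMap.finrank_range_add_finrank_ker (ψ.comp X.dualAnnihilator.subtype)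
  rw [LinearMap.range_comp, Submodule.range_subtype] at h1
  have h2 : finrank k (LinearMap.ker (ψ.comp X.dualAnnihilator.subtype)) ≤
      finrank k Y.dualAnnihilator := by
    let F : LinearMap.ker (ψ.comp X.dualAnnihilator.subtype) →ₗ[k] Y.dualAnnihilator :=
      LinearMap.codRestrict _ (X.dualAnnihilator.subtype.comp (Submodule.subtype _))
        fun φ => h0 _ φ.1.2 φ.2
    refine LinearMap.finrank_le_finrank_of_injective (f := F) fun a b e => ?_
    exact Subtype.ext (Subtype.ext (congrArg (fun φ : Y.dualAnnihilator => (φ : Dual k A)) e))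
  have h3 := Subspace.finrank_add_finrank_dualAnnihilator_eq X
  have h4 := Subspace.finrank_add_finrank_dualAnnihilator_eq Y
  omega

variable (ι) in
/-- The three commutators of the generators. -/
noncomputable def com3 (i : Fin 3) : A :=
  ι (Pi.single i 1) * ι (Pi.single (i + 1) 1) - ι (Pi.single (i + 1) 1) * ι (Pi.single i 1)

variable (ι) in
/-- Their span. -/
noncomputable def C2 : Submodule k A := Submodule.span k (Set.range (com3 ι))

theorem bracket_mem_C2 (u v : V3 k) : ι u * ι v - ι v * ι u ∈ C2 ι := by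
  have hc : ∀ i j : Fin 3, ι (Pi.single i 1) * ι (Pi.single j 1) -
      ι (Pi.single j 1) * ι (Pi.single i 1) ∈ C2 ι := by
    intro i j
    have hm : ∀ i, com3 ι i ∈ C2 ι := fun i => Submodule.subset_span ⟨i, rfl⟩
    fin_cases i <;> fin_cases j
    · simp
    · exact hm 0
    · rw [← neg_sub]; exact (C2 ι).neg_mem (hm 2)
    · rw [← neg_sub]; exact (C2 ι).neg_mem (hm 0)
    · simp
    · exact hm 1
    · exact hm 2
    · rw [← neg_sub]; exact (C2 ι).neg_mem (hm 1)
    · simp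
  have hexp : ∀ w : V3 k, ι w = ∑ i, w i • ι (Pi.single i 1) := fun w => by
    conv_lhs => rw [pi_eq_sum_univ' w]
    rw [map_sum]
    simp only [map_smul]
  rw [hexp u, hexp v, Finset.sum_mul_sum, Finset.sum_mul_sum, Finset.sum_comm,
    ← Finset.sum_sub_distrib]
  refine Submodule.sum_mem _ fun i _ => ?_
  rw [← Finset.sum_sub_distrib]
  refine Submodule.sum_mem _ fun j _ => ?_
  rw [smul_mul_smul_comm, smul_mul_smul_comm, mul_comm (v i), ← smul_sub]
  exact Submodule.smul_mem _ _ (hc j i)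

theorem comms_le (h : Loc C J f lam) (hι : ∀ u, ι u ∈ J) (hgen : J ≤ LinearMap.range ι ⊔ J ^ 2) :
    comms k C ≤ C2 ι ⊔ Submodule.span k
      {w | ∃ u v v', w = ι u * (ι v * ι v') - ι v * ι v' * ι u} ⊔ J ^ 4 := by
  set T := C2 ι ⊔ Submodule.span k
    {w | ∃ u v v', w = ι u * (ι v * ι v') - ι v * ι v' * ι u} ⊔ J ^ 4 with hT
  let br : A → A →ₗ[k] A := fun u => LinearMap.mulLeft k u - LinearMap.mulRight k u
  have hbr : ∀ u v, br u v = u * v - v * u := fun u v => rfl
  have h4 : ∀ {a b : A} {s t : ℕ}, 4 ≤ s + t → a ∈ J ^ s → b ∈ J ^ t → a * b - b * a ∈ T :=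
    fun {a b s t} hst ha hb => Submodule.mem_sup_right (Submodule.sub_mem _
      (h.pow_anti (by norm_num) hst (Two.mul_mem_add ha hb))
      (h.pow_anti (by norm_num) (by omega) (Two.mul_mem_add hb ha)))
  have hι1 : ∀ u, ι u ∈ J ^ 1 := fun u => by rw [pow_one]; exact hι u
  have hi2 : ∀ u, J ^ 2 ≤ T.comap (br (ι u)) := by
    intro u
    rw [pow_two]
    refine Submodule.mul_le.mpr fun a ha b hb => ?_
    obtain ⟨a1, ha1, a2, ha2, rfl⟩ := Submodule.mem_sup.mp (hgen ha)
    obtain ⟨b1, hb1, b2, hb2, rfl⟩ := Submodule.mem_sup.mp (hgen hb)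
    obtain ⟨v, rfl⟩ := ha1
    obtain ⟨v', rfl⟩ := hb1
    rw [Submodule.mem_comap, hbr]
    have e1 : ι u * (ι v * b2) - ι v * b2 * ι u ∈ T :=
      h4 (s := 1) (t := 3) le_rfl (hι1 u) (Two.mul_left_mem (hι v) hb2)
    have e2 : ι u * (a2 * (ι v' + b2)) - a2 * (ι v' + b2) * ι u ∈ T :=
      h4 (s := 1) (t := 3) le_rfl (hι1 u) (Two.mul_right_mem ha2 hb)
    have e3 : ι u * (ι v * ι v') - ι v * ι v' * ι u ∈ T :=
      Submodule.mem_sup_left (Submodule.mem_sup_right (Submodule.subset_span ⟨u, v, v', rfl⟩))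
    have := T.add_mem (T.add_mem e3 e1) e2
    refine (congrArg (· ∈ T) ?_).mp this
    simp only [mul_add, add_mul]
    abel
  refine Submodule.span_le.mpr ?_
  rintro w ⟨a, ha, b, hb, rfl⟩
  obtain ⟨a', ha', b', hb', e⟩ := h.sub_eq ha hb
  rw [SetLike.mem_coe, e]
  obtain ⟨a1, ha1, a2, ha2, rfl⟩ := Submodule.mem_sup.mp (hgen ha')
  obtain ⟨b1, hb1, b2, hb2, rfl⟩ := Submodule.mem_sup.mp (hgen hb')
  obtain ⟨u, rfl⟩ := ha1
  obtain ⟨v, rfl⟩ := hb1
  have := T.add_mem (T.add_mem (T.sub_mem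
    (Submodule.mem_sup_left (Submodule.mem_sup_left (bracket_mem_C2 u v)) :
      ι u * ι v - ι v * ι u ∈ T) (hi2 v ha2)) (hi2 u hb2))
    (h4 (s := 2) (t := 2) le_rfl ha2 hb2)
  refine (congrArg (· ∈ T) ?_).mp this
  simp only [hbr, mul_add, add_mul]
  abel

/-- **Three generators: the sixth power of the radical vanishes.** -/
theorem pow_six_eq_bot [IsAlgClosed k] (h : Loc C J f lam) (hι : ∀ u, ι u ∈ J)
    (hgen : J ≤ LinearMap.range ι ⊔ J ^ 2) {z : A} (hz : Soc C J z)
    (hzmem : ∀ t, 1 ≤ t → J ^ t ≠ ⊥ → z ∈ J ^ t)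
    (hJ2 : J ^ 2 ≤ comms k C ⊔ k ∙ z) : J ^ 6 = ⊥ := by
  by_contra h6
  have hne : ∀ t, 1 ≤ t → t ≤ 6 → J ^ t ≠ ⊥ := fun t h1 h2 e =>
    h6 (eq_bot_iff.mpr ((h.pow_anti h1 h2).trans e.le))
  have hz3 := hzmem 3 (by norm_num) (hne 3 (by norm_num) (by norm_num))
  have hz4 := hzmem 4 (by norm_num) (hne 4 (by norm_num) (by norm_num))
  have hd3 : ¬ finrank k ↥(J ^ 3) ≤ finrank k ↥(J ^ 4) + 1 := fun hd =>
    hne 5 (by norm_num) (by norm_num) (pow_eq_bot_of_flat h (by norm_num) hd hz hJ2)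
  have hd4 : ¬ finrank k ↥(J ^ 4) ≤ finrank k ↥(J ^ 5) + 1 := fun hd =>
    h6 (pow_eq_bot_of_flat h (by norm_num) hd hz hJ2)
  have hK := comms_le h hι hgen
  set C3 := Submodule.span k {w | ∃ u v v', w = ι u * (ι v * ι v') - ι v * ι v' * ι u} with hC3
  have hC2J : C2 ι ≤ J ^ 2 := Submodule.span_le.mpr (by
    rintro _ ⟨i, rfl⟩
    rw [SetLike.mem_coe, pow_two]
    exact Submodule.sub_mem _ (Submodule.mul_mem_mul (hι _) (hι _))
      (Submodule.mul_mem_mul (hι _) (hι _)))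
  have hC3J : C3 ≤ J ^ 3 := Submodule.span_le.mpr (by
    rintro _ ⟨u, v, v', rfl⟩
    exact Submodule.sub_mem _ (by rw [← mul_assoc]; exact Two.mul3_mem (hι _) (hι _) (hι _))
      (Two.mul3_mem (hι _) (hι _) (hι _)))
  have hJ2' : J ^ 2 ≤ C2 ι ⊔ J ^ 3 := hJ2.trans (sup_le (hK.trans (sup_le (sup_le le_sup_left
    (hC3J.trans le_sup_right)) ((h.pow_anti (by norm_num) (by norm_num)).trans le_sup_right)))
    ((Submodule.span_singleton_le_iff_mem _ _).mpr (Submodule.mem_sup_right hz3)))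
  let asym : B2 k (V3 k) →ₗ[k] (Fin 3 → k) :=
    { toFun := fun w i => w (Pi.single i 1) (Pi.single (i + 1) 1) -
        w (Pi.single (i + 1) 1) (Pi.single i 1)
      map_add' := fun w w' => funext fun i => by
        simp only [LinearMap.add_apply, Pi.add_apply]; ring
      map_smul' := fun c w => funext fun i => by
        simp only [LinearMap.smul_apply, Pi.smul_apply, smul_eq_mul, RingHom.id_apply]; ring }
  have hasym : ∀ φ : Dual k A, ∀ i, asym (psi2 ι φ) i = φ (com3 ι i) := fun φ i => by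
    show psi2 ι φ _ _ - psi2 ι φ _ _ = _
    rw [psi2_apply, psi2_apply, ← map_sub]
    rfl
  have hker : ∀ φ ∈ (J ^ 3).dualAnnihilator, asym (psi2 ι φ) = 0 → psi2 ι φ = 0 := by
    intro φ hφ h0
    have hle : J ^ 2 ≤ LinearMap.ker φ := hJ2'.trans (sup_le
      (Submodule.span_le.mpr (by
        rintro _ ⟨i, rfl⟩
        rw [SetLike.mem_coe, LinearMap.mem_ker, ← hasym, h0, Pi.zero_apply]))
      fun w hw => (Submodule.mem_dualAnnihilator _).mp hφ w hw)
    exact LinearMap.ext₂ fun u v => LinearMap.mem_ker.mp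
      (hle (by rw [pow_two]; exact Submodule.mul_mem_mul (hι u) (hι v)))
  set W := (J ^ 3).dualAnnihilator.map (psi2 ι)
  have hinjW : Function.Injective (asym.comp W.subtype) := by
    rw [injective_iff_map_eq_zero]
    rintro ⟨_, φ, hφ, rfl⟩ h0
    exact Subtype.ext (hker φ hφ h0)
  have hsys : Sys W ((J ^ 4).dualAnnihilator.map (psi3 ι)) ((J ^ 5).dualAnnihilator.map (psi4 ι)) := by
    constructor
    · have := LinearMap.finrank_le_finrank_of_injective hinjW
      rwa [finrank_fin_fun] at this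
    · rintro _ ⟨φ, hφ, rfl⟩ hs
      refine hker φ hφ (funext fun i => ?_)
      show psi2 ι φ _ _ - psi2 ι φ _ _ = 0
      rw [hs, sub_self]
    · rintro _ ⟨φ, hφ, rfl⟩ u
      exact ⟨_, comp_left_mem hι hφ u, (psi3_apply ι φ u).symm⟩
    · rintro _ ⟨φ, hφ, rfl⟩ u
      refine ⟨_, comp_right_mem hι hφ u, LinearMap.ext₂ fun a b => ?_⟩
      show φ (ι a * ι b * ι u) = φ (ι a * (ι b * ι u))
      rw [mul_assoc]
    · rintro hW3 _ ⟨φ, hφ, rfl⟩ hs
      have hsurj := (LinearMap.injective_iff_surjective_of_finrank_eq_finrank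
        (f := asym.comp W.subtype) (by rw [hW3, finrank_fin_fun])).mp hinjW
      -- the commutators are independent
      have hind : ∀ w ∈ C2 ι, w ∈ J ^ 3 → w = 0 := by
        intro w hw hw3
        obtain ⟨cf, rfl⟩ := (Submodule.mem_span_range_iff_exists_fun k).mp hw
        refine Finset.sum_eq_zero fun j _ => ?_
        obtain ⟨⟨_, ψ, hψ, rfl⟩, hψj⟩ := hsurj (Pi.single j 1)
        have h1 := (Submodule.mem_dualAnnihilator _).mp hψ _ hw3
        have h2 : ∀ i, ψ (com3 ι i) = (Pi.single j 1 : Fin 3 → k) i := fun i => by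
          rw [← hasym]; exact congrFun hψj i
        rw [map_sum] at h1
        simp only [map_smul, h2, Pi.single_apply, smul_eq_mul, mul_ite, mul_one, mul_zero,
          Finset.sum_ite_eq', Finset.mem_univ, if_true] at h1
        rw [h1, zero_smul]
      have h4 : ∀ w ∈ J ^ 4, φ w = 0 := fun w hw => (Submodule.mem_dualAnnihilator _).mp hφ w hw
      have hC3φ : ∀ w ∈ C3, φ w = 0 := fun w hw => by
        have hle : C3 ≤ LinearMap.ker φ := Submodule.span_le.mpr (by
          rintro _ ⟨u, v, v', rfl⟩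
          rw [SetLike.mem_coe, LinearMap.mem_ker, map_sub, mul_assoc, sub_eq_zero]
          exact hs u v v')
        exact hle hw
      have hφ3 : ∀ w ∈ J ^ 3, φ w = 0 := by
        intro w hw
        obtain ⟨κ, hκ, zz, hzz, rfl⟩ := Submodule.mem_sup.mp
          (hJ2 (h.pow_anti (by norm_num) (by norm_num) hw))
        obtain ⟨cz, rfl⟩ := Submodule.mem_span_singleton.mp hzz
        obtain ⟨κ', hκ', r, hr, rfl⟩ := Submodule.mem_sup.mp (hK hκ)
        obtain ⟨c2, hc2, c3, hc3, rfl⟩ := Submodule.mem_sup.mp hκ'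
        have h43 : J ^ 4 ≤ J ^ 3 := h.pow_anti (by norm_num) (by norm_num)
        have hc2' : c2 = 0 := hind c2 hc2 (by
          have := Submodule.sub_mem _ hw (Submodule.add_mem _ (Submodule.add_mem _ (hC3J hc3)
            (h43 hr)) (Submodule.smul_mem _ cz hz3))
          refine (congrArg (· ∈ J ^ 3) ?_).mp this
          abel)
        rw [hc2', map_add, map_add, map_add, map_zero, hC3φ c3 hc3, h4 r hr, map_smul, h4 z hz4,
          smul_zero]
        simp
      exact LinearMap.ext fun u => LinearMap.ext₂ fun v v' => hφ3 _ (by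
        show ι u * (ι v * ι v') ∈ J ^ 3
        rw [← mul_assoc]; exact Two.mul3_mem (hι _) (hι _) (hι _))
    · rintro _ ⟨φ, hφ, rfl⟩ u
      exact ⟨_, comp_left_mem hι hφ u, (psi4_apply ι φ u).symm⟩
    · rintro _ ⟨φ, hφ, rfl⟩ u
      refine ⟨_, comp_right_mem hι hφ u, LinearMap.ext fun a => LinearMap.ext₂ fun b c => ?_⟩
      show φ (ι a * (ι b * ι c) * ι u) = φ (ι a * (ι b * (ι c * ι u)))
      simp only [mul_assoc]
  have h3 := layer_le (psi3 ι) (X := J ^ 4) (Y := J ^ 3) fun φ hφ h0 => mem_of_psi3 hι hgen hφ h0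
  have h4 := layer_le (psi4 ι) (X := J ^ 5) (Y := J ^ 4) fun φ hφ h0 => mem_of_psi4 hι hgen hφ h0
  exact Tensor.false_of_layers (by rw [finrank_fin_fun]) hsys (by omega) (by omega)

/-- The square of the radical modulo its cube. -/
theorem finrank_sq_le (h : Loc C J f lam) (hι : ∀ u, ι u ∈ J)
    (hgen : J ≤ LinearMap.range ι ⊔ J ^ 2) {z : A} (hz3 : z ∈ J ^ 3)
    (hJ2 : J ^ 2 ≤ comms k C ⊔ k ∙ z) : finrank k ↥(J ^ 2) ≤ finrank k ↥(J ^ 3) + 3 := by
  have hC3 : Submodule.span k {w | ∃ u v v', w = ι u * (ι v * ι v') - ι v * ι v' * ι u} ≤ J ^ 3 :=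
    Submodule.span_le.mpr (by
      rintro _ ⟨u, v, v', rfl⟩
      exact Submodule.sub_mem _ (by rw [← mul_assoc]; exact Two.mul3_mem (hι _) (hι _) (hι _))
        (Two.mul3_mem (hι _) (hι _) (hι _)))
  have hle : J ^ 2 ≤ C2 ι ⊔ J ^ 3 := hJ2.trans (sup_le ((comms_le h hι hgen).trans
    (sup_le (sup_le le_sup_left (hC3.trans le_sup_right))
      ((h.pow_anti (by norm_num) (by norm_num)).trans le_sup_right)))
    ((Submodule.span_singleton_le_iff_mem _ _).mpr (Submodule.mem_sup_right hz3)))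
  have h1 := Submodule.finrank_mono hle
  have h2 := Submodule.finrank_add_le_finrank_add_finrank (C2 ι) (J ^ 3)
  have h3 : finrank k (C2 ι) ≤ 3 :=
    (finrank_range_le_card (R := k) (com3 ι)).trans (by rw [Fintype.card_fin])
  omega

/-- **The dimension bound.** -/
theorem finrank_le [IsAlgClosed k] (h : Loc C J f lam)
    (h5 : finrank k C ≤ finrank k (comms k C) + 5) : finrank k C ≤ 14 := by
  set K := comms k C with hK
  have hnC := finrank_C h
  by_cases hone : ∃ x ∈ J, J ≤ k ∙ x ⊔ J ^ 2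
  · obtain ⟨x, hx, hJx⟩ := hone
    have hK0 : K = ⊥ := h.comms_eq_bot_of_one hx hJx
    rw [hK0, finrank_bot] at h5
    omega
  push Not at hone
  by_cases hJ2 : J ^ 2 = ⊥
  · have hK0 : K = ⊥ := eq_bot_iff.mpr (h.comms_le_sq.trans hJ2.le)
    rw [hK0, finrank_bot] at h5
    omega
  have hJne : J ≠ ⊥ := fun e => hJ2 (by rw [e, pow_two, Submodule.mul_bot])
  obtain ⟨z, hz0, hzs, hzK, hzmem⟩ := exists_socle h hJne
  have hz2 := hzmem 2 (by norm_num) hJ2
  have hKz : finrank k K + 1 ≤ finrank k ↥(K ⊔ k ∙ z) :=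
    Submodule.finrank_lt_finrank_of_lt (lt_of_le_of_ne le_sup_left fun e => hzK (by
      rw [← hK, e]; exact le_sup_right (a := K) (Submodule.mem_span_singleton_self z)))
  have hKz2 : K ⊔ k ∙ z ≤ J ^ 2 :=
    sup_le h.comms_le_sq ((Submodule.span_singleton_le_iff_mem _ _).mpr hz2)
  have hKz2' := Submodule.finrank_mono hKz2
  have h2J : J ^ 2 ≤ J := h.pow_le 1
  have h2J' := Submodule.finrank_mono h2J
  -- two generators
  obtain ⟨x, hx, hx2⟩ := SetLike.not_le_iff_exists.mp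
    (fun e : J ≤ J ^ 2 => hone 0 J.zero_mem (e.trans le_sup_right))
  obtain ⟨y, hy, hy2⟩ := SetLike.not_le_iff_exists.mp (hone x hx)
  by_cases htwo : J ≤ k ∙ x ⊔ k ∙ y ⊔ J ^ 2
  · exact (Two.finrank_le_of_two h h5 hx hy htwo hx2 hy2).trans (by norm_num)
  -- three generators
  obtain ⟨w, hw, hw2⟩ := SetLike.not_le_iff_exists.mp htwo
  have hstep : ∀ {X : Submodule k A} {v : A}, v ∉ X →
      finrank k X + 1 ≤ finrank k ↥(k ∙ v ⊔ X) := fun {X v} hv =>
    Submodule.finrank_lt_finrank_of_lt (lt_of_le_of_ne le_sup_right fun e => hv (by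
      rw [e]; exact le_sup_left (b := X) (Submodule.mem_span_singleton_self v)))
  have a1 := hstep hx2
  have a2 := hstep hy2
  have hw2' : w ∉ k ∙ y ⊔ (k ∙ x ⊔ J ^ 2) := by
    rwa [← sup_assoc, sup_comm (k ∙ y) (k ∙ x)]
  have a3 := hstep hw2'
  have hsub : k ∙ w ⊔ (k ∙ y ⊔ (k ∙ x ⊔ J ^ 2)) ≤ J :=
    sup_le ((Submodule.span_singleton_le_iff_mem _ _).mpr hw)
      (sup_le ((Submodule.span_singleton_le_iff_mem _ _).mpr hy)
        (sup_le ((Submodule.span_singleton_le_iff_mem _ _).mpr hx) h2J))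
  have hsub' := Submodule.finrank_mono hsub
  have hJeq : k ∙ w ⊔ (k ∙ y ⊔ (k ∙ x ⊔ J ^ 2)) = J :=
    Submodule.eq_of_le_of_finrank_le hsub (by omega)
  have hJ2K : J ^ 2 ≤ K ⊔ k ∙ z := (Submodule.eq_of_le_of_finrank_le hKz2 (by omega)).ge
  let ι : V3 k →ₗ[k] A := Fintype.linearCombination k ![x, y, w]
  have hι : ∀ u, ι u ∈ J := fun u => by
    rw [Fintype.linearCombination_apply]
    refine Submodule.sum_mem _ fun i _ => J.smul_mem _ ?_
    fin_cases i
    exacts [hx, hy, hw]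
  have hgen : J ≤ LinearMap.range ι ⊔ J ^ 2 := by
    have hr : ∀ i, ![x, y, w] i ∈ LinearMap.range ι := fun i => ⟨Pi.single i 1, by
      rw [Fintype.linearCombination_apply_single, one_smul]⟩
    refine hJeq.ge.trans (sup_le ?_ (sup_le ?_ (sup_le ?_ le_sup_right))) <;>
      refine (Submodule.span_singleton_le_iff_mem _ _).mpr (Submodule.mem_sup_left ?_)
    exacts [hr 2, hr 1, hr 0]
  by_cases hJ3 : J ^ 3 = ⊥
  · have hJ2soc : J ^ 2 ≤ k ∙ z := fun v hv => h.soc_mem_span ⟨pow_le_C h (by norm_num) hv,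
      fun j hj => by
        have h1 := Two.mul_left_mem hj hv
        rwa [hJ3, Submodule.mem_bot] at h1,
      fun j hj => by
        have h1 := Two.mul_right_mem hv hj
        rwa [hJ3, Submodule.mem_bot] at h1⟩ hzs hz0
    have := Submodule.finrank_mono hJ2soc
    rw [finrank_span_singleton hz0] at this
    omega
  have h6 := pow_six_eq_bot h hι hgen hzs hzmem hJ2K
  have hhalf := two_mul_finrank_le h (s := 3) (by norm_num) h6
  have hsq := finrank_sq_le h hι hgen (hzmem 3 (by norm_num) hJ3) hJ2K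
  have hup : finrank k J ≤ finrank k ↥(J ^ 2) + 3 := by
    have := Submodule.finrank_mono hgen
    have := Submodule.finrank_add_le_finrank_add_finrank (LinearMap.range ι) (J ^ 2)
    have hr := LinearMap.finrank_range_le ι
    rw [finrank_fin_fun] at hr
    omega
  omega

end Cfsg.Agent.Lib.LocalFive79.Main
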