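import Cfsg.Agent.Lib.BrauerPairs.CornerSmall
import Cfsg.Agent.Lib.LocalFive79.Main

/-!
# Corners of a summand with at most five trace forms

If the summand is symmetric and has at most five trace forms, the corner has dimension at most `14`
(`finrank_corner_le`).
-/

set_option autoImplicit false
set_option linter.unusedSectionVars false

namespace Cfsg.Agent.Lib.LocalFive79.Corner

open Module Cfsg.Agent.Lib Cfsg.Agent.Lib.BrauerPairs.CornerAlgebra

variable {k : Type*} [Field k] [IsAlgClosed k] {A : Type*} [Ring A] [Algebra k A]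
  [FiniteDimensional k A] {n : ℕ}
  {π : A →ₐ[k] Matrix (Fin n) (Fin n) k} {e : A} (he : e * e = e) (hc : ∀ x : A, e * x = x * e)
  (hπe : π e = 1) {N : ℕ} (hN : kerPart π e ^ (N + 1) = ⊥)

include he hc hπe hN

/-- With a symmetrising form and at most five trace forms the corner has dimension at most `14`. -/
theorem finrank_corner_le {i₀ : Fin n} (U : Units π e i₀) (lam : A →ₗ[k] k)
    (hlam : ∀ x y : A, lam (x * y) = lam (y * x))
    (hnd : ∀ x : A, (∀ y : A, lam (x * y) = 0) → x = 0)
    (h5 : finrank k (traceForms k e) ≤ 5) :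
    finrank k (corner k U.f) ≤ 14 := by
  classical
  set C := corner k U.f with hC
  set J := C ⊓ kerPart π e with hJ
  have hfC : U.f ∈ C := mem_corner.mpr ⟨U.f_idem, U.f_idem⟩
  have hmulC : ∀ {x y : A}, x ∈ C → y ∈ C → x * y ∈ C := fun {x y} hx hy =>
    mem_corner.mpr ⟨by rw [← mul_assoc, (mem_corner.mp hx).1],
      by rw [mul_assoc, (mem_corner.mp hy).2]⟩
  have heC : ∀ {x : A}, x ∈ C → e * x = x := fun {x} hx => by
    rw [← (mem_corner.mp hx).1, ← mul_assoc, U.e_f]
  have hdec : ∀ x ∈ C, x - π x i₀ i₀ • U.f ∈ J := by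
    intro x hx
    refine ⟨C.sub_mem hx (C.smul_mem _ hfC), mem_kerPart.mpr ⟨?_, ?_⟩⟩
    · rw [mul_sub, mul_smul_comm, U.e_f, heC hx]
    · obtain ⟨h1, h2⟩ := mem_corner.mp hx
      have : π x = Matrix.single i₀ i₀ 1 * π x * Matrix.single i₀ i₀ 1 := by
        rw [← U.pi_f, ← map_mul, ← map_mul, h1, h2]
      rw [map_sub, map_smul, U.pi_f]
      nth_rw 1 [this]
      ext i j
      simp [Matrix.mul_apply, Matrix.single_apply, Finset.sum_ite_eq, ite_and]
  have hJJ : J * J ≤ J := Submodule.mul_le.mpr fun x hx y hy =>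
    ⟨hmulC hx.1 hy.1, mem_kerPart.mpr ⟨by rw [← mul_assoc, heC hx.1],
      by rw [map_mul, (mem_kerPart.mp hy.2).2, mul_zero]⟩⟩
  have hτmem : ∀ (x : A) (i : Fin n), U.b i * x * U.a i ∈ C := fun x i =>
    mem_corner.mpr ⟨by rw [← mul_assoc, ← mul_assoc, U.f_b], by rw [mul_assoc, U.a_f]⟩
  let τ : A →ₗ[k] C := LinearMap.codRestrict C
    (∑ i, (LinearMap.mulRight k (U.a i)).comp (LinearMap.mulLeft k (U.b i))) fun x => by
      simpa using Submodule.sum_mem _ fun i _ => hτmem x i
  have hτ : ∀ x, τ x = ∑ i, (⟨U.b i * x * U.a i, hτmem x i⟩ : C) := fun x => by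
    apply Subtype.ext
    simp [τ]
  have hbe : ∀ i, U.b i * e = U.b i := fun i => by
    rw [← hc, ← U.f_b, ← mul_assoc, U.e_f]
  -- the space of symmetric functionals on the corner
  let S : Submodule k (Dual k C) :=
    { carrier := {ψ | ∀ x y : C,
        ψ ⟨(x : A) * y, hmulC x.2 y.2⟩ = ψ ⟨(y : A) * x, hmulC y.2 x.2⟩}
      zero_mem' := fun _ _ => rfl
      add_mem' := fun ha hb x y => by simp [ha x y, hb x y]
      smul_mem' := fun c a ha x y => by simp [ha x y] }
  let P : Dual k C →ₗ[k] Dual k A := τ.dualMap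
  have hP : ∀ ψ ∈ S, P ψ ∈ traceForms k e := by
    intro ψ hψ
    refine ⟨fun x => ?_, fun x y => ?_⟩
    · show ψ (τ (e * x)) = ψ (τ x)
      congr 1
      rw [hτ, hτ]
      refine Finset.sum_congr rfl fun i _ => Subtype.ext ?_
      show U.b i * (e * x) * U.a i = U.b i * x * U.a i
      rw [← mul_assoc, hbe]
    · show ψ (τ (x * y)) = ψ (τ (y * x))
      have hsplit : ∀ u v : A, τ (u * v) = ∑ i, ∑ j, (⟨(U.b i * u * U.a j) * (U.b j * v * U.a i),
          hmulC (mem_corner.mpr ⟨by rw [← mul_assoc, ← mul_assoc, U.f_b],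
            by rw [mul_assoc, U.a_f]⟩) (mem_corner.mpr ⟨by rw [← mul_assoc, ← mul_assoc, U.f_b],
            by rw [mul_assoc, U.a_f]⟩)⟩ : C) := by
        intro u v
        rw [hτ]
        refine Finset.sum_congr rfl fun i _ => Subtype.ext ?_
        show U.b i * (u * v) * U.a i = _
        rw [Submodule.coe_sum]
        have : U.b i * u * e = U.b i * u := by
          rw [mul_assoc, ← hc, ← mul_assoc, hbe]
        calc U.b i * (u * v) * U.a i = U.b i * u * e * v * U.a i := by
              rw [this, ← mul_assoc (U.b i) u v]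
          _ = _ := by
              rw [show U.b i * u * e = U.b i * u * ∑ j, U.a j * U.b j by rw [U.sum_eq],
                Finset.mul_sum, Finset.sum_mul, Finset.sum_mul]
              simp [mul_assoc]
      rw [hsplit, hsplit, map_sum, map_sum]
      simp only [map_sum]
      rw [Finset.sum_comm]
      exact Finset.sum_congr rfl fun i _ => Finset.sum_congr rfl fun j _ =>
        hψ ⟨_, mem_corner.mpr ⟨by rw [← mul_assoc, ← mul_assoc, U.f_b],
          by rw [mul_assoc, U.a_f]⟩⟩ ⟨_, mem_corner.mpr ⟨by rw [← mul_assoc, ← mul_assoc, U.f_b],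
          by rw [mul_assoc, U.a_f]⟩⟩
  have hPsec : ∀ ψ ∈ S, ∀ c : C, P ψ c = ψ c := by
    intro ψ hψ c
    show ψ (τ c) = ψ c
    obtain ⟨hc1, hc2⟩ := mem_corner.mp c.2
    have hb : ∀ i, U.b i * U.f ∈ C := fun i =>
      mem_corner.mpr ⟨by rw [← mul_assoc, U.f_b], by rw [mul_assoc, U.f_idem]⟩
    have ha : ∀ i, (c : A) * U.a i ∈ C := fun i =>
      mem_corner.mpr ⟨by rw [← mul_assoc, hc1], by rw [mul_assoc, U.a_f]⟩
    rw [hτ, map_sum]
    have e1 : ∀ i, ψ ⟨U.b i * c * U.a i, hτmem c i⟩ =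
        ψ ⟨((c : A) * U.a i) * (U.b i * U.f), hmulC (ha i) (hb i)⟩ := fun i => by
      rw [← hψ ⟨_, hb i⟩ ⟨_, ha i⟩]
      congr 1
      apply Subtype.ext
      show U.b i * c * U.a i = U.b i * U.f * ((c : A) * U.a i)
      rw [mul_assoc (U.b i) U.f, ← mul_assoc U.f, hc1, mul_assoc]
    rw [Finset.sum_congr rfl fun i _ => e1 i, ← map_sum]
    congr 1
    apply Subtype.ext
    rw [Submodule.coe_sum]
    show ∑ i, (c : A) * U.a i * (U.b i * U.f) = c
    calc ∑ i, (c : A) * U.a i * (U.b i * U.f) = (c : A) * (∑ i, U.a i * U.b i) * U.f := by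
          rw [Finset.mul_sum, Finset.sum_mul]; simp [mul_assoc]
      _ = c := by rw [U.sum_eq, mul_assoc, U.e_f, hc2]
  have hle : finrank k S ≤ finrank k (traceForms k e) := by
    let Q : S →ₗ[k] traceForms k e :=
      LinearMap.codRestrict _ (P.comp S.subtype) fun ψ => hP ψ ψ.2
    refine LinearMap.finrank_le_finrank_of_injective (f := Q) ?_
    intro ψ φ h
    apply Subtype.ext
    refine LinearMap.ext fun c => ?_
    have := congrFun (congrArg DFunLike.coe (congrArg Subtype.val h)) (c : A)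
    rw [← hPsec ψ ψ.2 c, ← hPsec φ φ.2 c]
    exact this
  have hloc : BrauerPairs.CornerLocal.Loc C J U.f lam :=
    { f_mem := hfC
      f_notMem := fun h => by
        have h1 := (mem_kerPart.mp h.2).2
        rw [U.pi_f] at h1
        simpa using congrFun (congrFun h1 i₀) i₀
      f_mul := fun x hx => (mem_corner.mp hx).1
      mul_f := fun x hx => (mem_corner.mp hx).2
      le := inf_le_left
      mul_le := hJJ
      dec := fun x hx => ⟨_, hdec x hx⟩
      nil := ⟨N, eq_bot_iff.mpr ((pow_le_pow_left' inf_le_right _).trans hN.le)⟩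
      symm := hlam
      nondeg := fun x hx h => hnd x fun y => by
        obtain ⟨h1, h2⟩ := mem_corner.mp hx
        have hy : U.f * y * U.f ∈ C := mem_corner.mpr
          ⟨by rw [← mul_assoc, ← mul_assoc, U.f_idem], by rw [mul_assoc, U.f_idem]⟩
        have h3 := h _ hy
        rw [← mul_assoc, ← mul_assoc, h2, hlam, ← mul_assoc, h1] at h3
        exact h3 }
  set K := BrauerPairs.CornerLocal.comms k C with hK
  have hKC : K ≤ C := Submodule.span_le.mpr (by
    rintro w ⟨u, hu, v, hv, rfl⟩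
    exact C.sub_mem (hmulC hu hv) (hmulC hv hu))
  have hann : (K.comap C.subtype).dualAnnihilator ≤ S := fun ψ hψ x y => by
    rw [← sub_eq_zero, ← map_sub]
    exact (Submodule.mem_dualAnnihilator ψ).mp hψ _
      (Submodule.subset_span ⟨_, x.2, _, y.2, rfl⟩)
  refine Main.finrank_le hloc ?_
  show _ ≤ finrank k K + 5
  have h1 := Subspace.finrank_add_finrank_dualAnnihilator_eq (K.comap C.subtype)
  have h2 := (Submodule.comapSubtypeEquivOfLe hKC).finrank_eq
  have h3 := Submodule.finrank_mono hann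
  omega

end Cfsg.Agent.Lib.LocalFive79.Corner
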