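import Cfsg.Agent.Lib.StarChar.AbelianSection
import Cfsg.Agent.Lib.FreeAbelian.Block
import Cfsg.Agent.S4633
import Mathlib.GroupTheory.FiniteAbelian.Duality

/-!
# Blocks with abelian defect groups of order eight

Such a block never has one modular and five ordinary characters (`false_of_eight`).
-/

set_option autoImplicit false
set_option linter.style.haveILetI false
set_option linter.unusedSectionVars false

namespace Cfsg.Agent.Lib.LocalFive79.Eight

open MonoidAlgebra
open scoped ComplexConjugate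
open Cfsg.Agent.Lib.Blocks Cfsg.Agent.Lib.Blocks.Contrib
open Cfsg.Agent.Lib.BrauerPairs.Center Cfsg.Agent.Lib.BrauerPairs.Conj
open Cfsg.Agent.Lib.BrauerPairs.Pairs Cfsg.Agent.Lib.BrauerPairs.Transport
open Cfsg.Agent.Lib.BrauerPairs.Maximal Cfsg.Agent.Lib.BrauerPairs.Bridge
open Cfsg.Agent.Lib.BrauerPairs.Fusion Cfsg.Agent.Lib.BrauerPairs.Local
open Cfsg.Agent.Lib.BrauerPairs.SubsectionCount Cfsg.Agent.Lib.BrauerPairs.Abelian
open Cfsg.Agent.Lib.BrauerPairs.LocalAbelian Cfsg.Agent.Lib.BrauerPairs.Trunc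
open Cfsg.Agent.Lib.StarChar.AbelianPairing Cfsg.Agent.Lib.StarChar.AbelianSection
open Cfsg.Agent.Lib.Characters.Basic

universe u

/-! ### Odd automorphism groups of abelian groups of order eight -/

section Aut

variable {D : Type*} [CommGroup D] [Finite D]

/-- An automorphism group of odd order fixing a nontrivial element. -/
theorem fix_shape (h8 : Nat.card D = 8) (A : Subgroup (MulAut D)) (hA : Odd (Nat.card A))
    (hA1 : A ≠ ⊥) {u : D} (hu : u ≠ 1) (hfix : ∀ α ∈ A, α u = u) :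
    Nat.card A = 3 ∧ (∀ x : D, x * x = 1) ∧
      ∀ α ∈ A, α ≠ 1 → ∀ v : D, α v = v → v = 1 ∨ v = u := by
  classical
  haveI := Fintype.ofFinite D
  -- odd automorphisms fixing a subgroup of index two are trivial
  have key : ∀ α ∈ A, ∀ v : D, v ≠ 1 → v ≠ u → α v = v → α = 1 := by
    intro α hα v hv1 hvu hv
    let F : Subgroup D :=
      { carrier := {x | α x = x}
        one_mem' := map_one α
        mul_mem' := fun {a b} ha hb => by
          simp only [Set.mem_ofPred_eq] at *
          rw [map_mul, ha, hb]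
        inv_mem' := fun {a} ha => by
          simp only [Set.mem_ofPred_eq] at *
          rw [map_inv, ha] }
    have hF3 : 3 ≤ Nat.card F := by
      have h3 : ({⟨1, F.one_mem⟩, ⟨u, hfix α hα⟩, ⟨v, hv⟩} : Finset F).card = 3 := by
        rw [Finset.card_insert_of_notMem, Finset.card_pair]
        · exact fun e => hvu (congrArg Subtype.val e).symm
        · simp only [Finset.mem_insert, Finset.mem_singleton, not_or]
          exact ⟨fun e => hu (congrArg Subtype.val e).symm, fun e => hv1 (congrArg Subtype.val e).symm⟩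
      rw [Nat.card_eq_fintype_card, ← h3]
      exact Finset.card_le_univ _
    have hdvd : Nat.card F ∣ 8 := h8 ▸ Subgroup.card_subgroup_dvd_card F
    have hmul := Subgroup.card_mul_index F
    rw [h8] at hmul
    have hidx : F.index = 1 ∨ F.index = 2 := by
      have hle : F.index ≤ 2 := by
        by_contra hgt
        push Not at hgt
        have := Nat.mul_le_mul hF3 hgt
        omega
      have h0 : F.index ≠ 0 := fun e => by rw [e, mul_zero] at hmul; omega
      omega
    obtain ⟨n, hn, hn1⟩ : ∃ n, Odd n ∧ α ^ n = 1 :=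
      ⟨Nat.card A, hA, by
        simpa only [SubgroupClass.coe_pow, OneMemClass.coe_one] using
          congrArg Subtype.val (pow_card_eq_one' (G := A) (x := ⟨α, hα⟩))⟩
    refine MulEquiv.ext fun x => ?_
    rw [MulAut.one_apply]
    rcases hidx with h1 | h2
    · exact (Subgroup.index_eq_one.mp h1).ge (Subgroup.mem_top x)
    -- the displacement
    have hd : ∀ y : D, y⁻¹ * α y ∈ F → ∀ m : ℕ, (α ^ m) y = y * (y⁻¹ * α y) ^ m := by
      intro y hy m
      induction m with
      | zero => simp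
      | succ m ih =>
        rw [pow_succ', MulAut.mul_apply, ih, map_mul, map_pow,
          show α (y⁻¹ * α y) = y⁻¹ * α y from hy, pow_succ', ← mul_assoc, mul_inv_cancel_left]
    have hx : x⁻¹ * α x ∈ F := by
      by_cases hxF : x ∈ F
      · have : x⁻¹ * α x = 1 := by rw [show α x = x from hxF, inv_mul_cancel]
        rw [this]
        exact F.one_mem
      · have hαx : α x ∉ F := fun h => hxF (α.injective (show α (α x) = α x from h))
        have := Subgroup.mul_mem_iff_of_index_two h2 (a := x⁻¹) (b := α x)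
        rw [this]
        simp [hxF, hαx]
    set f := x⁻¹ * α x with hf
    have h1 := hd x hx n
    rw [hn1, MulAut.one_apply] at h1
    have hfn : f ^ n = 1 := mul_left_cancel (a := x) (h1.symm.trans (mul_one x).symm)
    have hf8 : f ^ 8 = 1 := h8 ▸ pow_card_eq_one' (G := D) (x := f)
    have hcop : Nat.Coprime n 8 := by
      have : Nat.Coprime n (2 ^ 3) := (Nat.coprime_two_right.mpr hn).pow_right 3
      simpa using this
    have hf1 : f = 1 := by
      rw [← orderOf_eq_one_iff]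
      exact Nat.eq_one_of_dvd_coprimes hcop (orderOf_dvd_of_pow_eq_one hfn)
        (orderOf_dvd_of_pow_eq_one hf8)
    rw [hf, inv_mul_eq_one] at hf1
    exact hf1.symm
  have hfree : ∀ α ∈ A, α ≠ 1 → ∀ v : D, α v = v → v = 1 ∨ v = u := by
    intro α hα hne v hv
    by_contra hcon
    push Not at hcon
    exact hne (key α hα v hcon.1 hcon.2 hv)
  -- six moved elements
  let X := {x : D // x ≠ 1 ∧ x ≠ u}
  have hX : Nat.card X = 6 := by
    rw [Nat.card_eq_fintype_card, Fintype.card_subtype]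
    have e : (Finset.univ.filter fun x : D => x ≠ 1 ∧ x ≠ u) = (Finset.univ.erase 1).erase u := by
      ext x
      simp [and_comm]
    rw [e, Finset.card_erase_of_mem (by simp [hu]), Finset.card_erase_of_mem (Finset.mem_univ _),
      Finset.card_univ, ← Nat.card_eq_fintype_card, h8]
  haveI : Nonempty X := (Nat.card_pos_iff.mp (by omega)).1
  obtain ⟨x₀⟩ := (inferInstance : Nonempty X)
  have hmem : ∀ α ∈ A, ∀ x : X, α x.1 ≠ 1 ∧ α x.1 ≠ u := fun α hα x =>
    ⟨fun e => x.2.1 (α.map_eq_one_iff.mp e),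
      fun e => x.2.2 (α.injective (e.trans (hfix α hα).symm))⟩
  have hinj : ∀ x : X, Function.Injective
      (fun α : A => (⟨α.1 x.1, hmem α.1 α.2 x⟩ : X)) := by
    intro x α β e
    by_contra hne
    have e' : α.1 x.1 = β.1 x.1 := congrArg Subtype.val e
    have hfx : (β.1⁻¹ * α.1) x.1 = x.1 := by
      rw [MulAut.mul_apply, e']
      exact MulEquiv.symm_apply_apply _ _
    rcases hfree _ (mul_mem (inv_mem β.2) α.2) (fun h => hne (Subtype.ext (inv_mul_eq_one.mp h).symm))
      x.1 hfx with h | h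
    exacts [x.2.1 h, x.2.2 h]
  have hle : Nat.card A ≤ 6 := hX ▸ Nat.card_le_card_of_injective _ (hinj x₀)
  have hA1' : 1 < Nat.card A := by
    rw [Finite.one_lt_card_iff_nontrivial]
    exact (Subgroup.nontrivial_iff_ne_bot A).mpr hA1
  have h35 : Nat.card A = 3 := by
    obtain ⟨j, hj⟩ := hA
    rcases (show Nat.card A = 3 ∨ Nat.card A = 5 by omega) with h | h
    · exact h
    exfalso
    haveI : Fact (Nat.Prime 5) := ⟨by norm_num⟩
    have hP : IsPGroup 5 A := IsPGroup.of_card (n := 1) (by rw [h, pow_one])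
    letI : MulAction A X :=
      { smul := fun α x => ⟨α.1 x.1, hmem α.1 α.2 x⟩
        one_smul := fun x => Subtype.ext rfl
        mul_smul := fun α β x => Subtype.ext rfl }
    have h0 := hP.card_modEq_card_fixedPoints X
    haveI : IsEmpty (MulAction.fixedPoints A X) := ⟨fun x => by
      haveI : Nontrivial A := (Subgroup.nontrivial_iff_ne_bot A).mpr hA1
      obtain ⟨α, hα⟩ := exists_ne (1 : A)
      refine hα (hinj x.1 ?_)
      have h1 : α • x.1 = x.1 := x.2 α
      exact h1⟩
    rw [hX, Nat.card_of_isEmpty] at h0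
    exact absurd h0 (by decide)
  refine ⟨h35, fun x => ?_, hfree⟩
  -- the exponent
  obtain ⟨α, hα, hα1⟩ : ∃ α ∈ A, α ≠ 1 := by
    by_contra hcon
    push Not at hcon
    exact hA1 ((Subgroup.eq_bot_iff_forall A).mpr hcon)
  have hα3 : α ^ 3 = 1 := by
    simpa only [h35, SubgroupClass.coe_pow, OneMemClass.coe_one] using
      congrArg Subtype.val (pow_card_eq_one' (G := A) (x := ⟨α, hα⟩))
  have hu2 : u * u = 1 := by
    rcases hfree α hα hα1 (u * u) (by rw [map_mul, hfix α hα]) with h | h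
    · exact h
    · exact absurd (mul_eq_left.mp h) hu
  -- the displacement map
  let δ : D →* D := (MonoidHom.id D)⁻¹ * α.toMonoidHom
  have hδ : ∀ y, δ y = y⁻¹ * α y := fun _ => rfl
  set I := δ.range with hI
  have hker : ∀ y, δ y = 1 ↔ y = 1 ∨ y = u := by
    intro y
    rw [hδ, inv_mul_eq_one, eq_comm]
    refine ⟨hfree α hα hα1 y, ?_⟩
    rintro (rfl | rfl)
    exacts [map_one α, hfix α hα]
  have hI4 : Nat.card I = 4 := by
    have h1 := Subgroup.card_mul_index δ.ker
    rw [Subgroup.index_ker, h8] at h1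
    have hk2 : Nat.card δ.ker = 2 := by
      have e : (δ.ker : Set D) = {1, u} := by
        ext y
        simpa using hker y
      rw [← SetLike.coe_sort_coe, e, Nat.card_coe_set_eq, Set.ncard_pair (Ne.symm hu)]
    rw [hk2] at h1
    change 2 * Nat.card I = 8 at h1
    omega
  have hαI : ∀ y ∈ I, α y ∈ I := by
    rintro _ ⟨y, rfl⟩
    exact ⟨α y, by rw [hδ, hδ, map_mul, map_inv]⟩
  have hαj : ∀ (j : ℕ) (y : D), y ∈ I → (α ^ j) y ∈ I := by
    intro j
    induction j with
    | zero => exact fun y hy => hy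
    | succ j ih => exact fun y hy => by rw [pow_succ, MulAut.mul_apply]; exact ih _ (hαI y hy)
  have horb : ∀ y ∈ I, y ≠ 1 → y ≠ u → ∀ z ∈ I, z ≠ 1 → ∃ j, (α ^ j) y = z := by
    intro y hy hy1 hyu z hz hz1
    by_contra hcon
    push Not at hcon
    have hd : ∀ j, 0 < j → j < 3 → (α ^ j) y ≠ y := fun j hj hj3 e => by
      rcases hfree (α ^ j) (pow_mem hα j) (fun h => hα1 (by
        interval_cases j
        · simpa using h
        · calc α = α ^ 3 * (α ^ 2)⁻¹ := by group
            _ = 1 := by rw [hα3, h, _root_.inv_one, mul_one])) y e with h | h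
      exacts [hy1 h, hyu h]
    let S : Finset I := {1, ⟨z, hz⟩, ⟨(α ^ 0) y, hαj 0 y hy⟩, ⟨(α ^ 1) y, hαj 1 y hy⟩,
      ⟨(α ^ 2) y, hαj 2 y hy⟩}
    have h5 : S.card = 5 := by
      have e1 : ∀ j, (α ^ j) y ≠ 1 := fun j e => hy1 ((α ^ j).map_eq_one_iff.mp e)
      have e01 : (α ^ 0) y ≠ (α ^ 1) y := fun e => hd 1 one_pos (by norm_num) (by simpa using e.symm)
      have e02 : (α ^ 0) y ≠ (α ^ 2) y := fun e => hd 2 two_pos (by norm_num) (by simpa using e.symm)
      have e12 : (α ^ 1) y ≠ (α ^ 2) y := fun e => hd 1 one_pos (by norm_num) (by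
        apply (α ^ 1).injective
        rw [← MulAut.mul_apply, ← pow_add, e])
      simp only [S]
      rw [Finset.card_insert_of_notMem, Finset.card_insert_of_notMem,
        Finset.card_insert_of_notMem, Finset.card_pair]
      · simpa [Subtype.ext_iff] using e12
      · simp only [Finset.mem_insert, Finset.mem_singleton, Subtype.ext_iff, not_or]
        exact ⟨e01, e02⟩
      · simp only [Finset.mem_insert, Finset.mem_singleton, Subtype.ext_iff, not_or]
        exact ⟨(hcon 0).symm, (hcon 1).symm, (hcon 2).symm⟩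
      · simp only [Finset.mem_insert, Finset.mem_singleton, Subtype.ext_iff, not_or,
          OneMemClass.coe_one]
        exact ⟨hz1.symm, (e1 0).symm, (e1 1).symm, (e1 2).symm⟩
    haveI := Fintype.ofFinite I
    have := Finset.card_le_univ S
    rw [← Nat.card_eq_fintype_card, hI4, h5] at this
    omega
  have huI : u ∉ I := by
    intro huI
    obtain ⟨y, hy, hy1, hyu⟩ : ∃ y ∈ I, y ≠ 1 ∧ y ≠ u := by
      by_contra hcon
      push Not at hcon
      have hsub : (I : Set D) ⊆ {1, u} := fun y hy => by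
        by_cases h : y = 1
        · exact Or.inl h
        · exact Or.inr (hcon y hy h)
      have := Set.ncard_le_ncard hsub (Set.toFinite _)
      rw [Set.ncard_pair (Ne.symm hu), ← Nat.card_coe_set_eq, SetLike.coe_sort_coe, hI4] at this
      omega
    obtain ⟨j, hj⟩ := horb y hy hy1 hyu u huI hu
    exact hyu ((α ^ j).injective (hj.trans (hfix _ (pow_mem hα j)).symm))
  have hsq : ∀ y ∈ I, y * y = 1 := by
    intro y hy
    by_contra hne
    have hy1 : y ≠ 1 := fun e => hne (by rw [e, mul_one])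
    have hyu : y ≠ u := fun e => huI (e ▸ hy)
    obtain ⟨j, hj⟩ := horb y hy hy1 hyu (y * y) (I.mul_mem hy hy) hne
    have ho : orderOf (y * y) = orderOf y := by rw [← hj, MulEquiv.orderOf_eq]
    have hpw : y * y = y ^ 2 := (pow_two y).symm
    rw [hpw, orderOf_pow' y two_ne_zero] at ho
    have h8' : orderOf y ∣ 8 := h8 ▸ orderOf_dvd_natCard y
    have hyo : 1 < orderOf y := lt_of_le_of_ne (orderOf_pos y)
      (fun e => hy1 (orderOf_eq_one_iff.mp e.symm))
    have h2y : 2 ∣ orderOf y := by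
      obtain ⟨i, hi, hi'⟩ := (Nat.dvd_prime_pow Nat.prime_two (m := 3)).mp (by simpa using h8')
      rcases Nat.eq_zero_or_pos i with rfl | hi0
      · rw [pow_zero] at hi'; omega
      · rw [hi']; exact dvd_pow_self 2 hi0.ne'
    have h2 : Nat.gcd (orderOf y) 2 = 2 := Nat.gcd_eq_right h2y
    rw [h2] at ho
    omega
  -- everything is a square root of one
  obtain ⟨w, hw⟩ : ∃ w, δ x = w := ⟨_, rfl⟩
  have hδinj : ∀ a b : I, δ a = δ b → a = b := by
    intro a b e
    have h1 : δ (a.1⁻¹ * b.1) = 1 := by rw [map_mul, map_inv, e, inv_mul_cancel]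
    rcases (hker _).mp h1 with h | h
    · exact Subtype.ext (inv_mul_eq_one.mp h)
    · exact absurd (h ▸ I.mul_mem (I.inv_mem a.2) b.2) huI
  obtain ⟨i, hi⟩ := (Finite.injective_iff_surjective
    (f := fun a : I => (⟨δ a, ⟨a.1, rfl⟩⟩ : I))).mp
      (fun a b e => hδinj a b (congrArg Subtype.val e)) ⟨δ x, ⟨x, rfl⟩⟩
  have hi' : δ (i : D) = δ x := congrArg Subtype.val hi
  have hxi : x = i.1 ∨ x = i.1 * u := by
    have h1 : δ (i.1⁻¹ * x) = 1 := by rw [map_mul, map_inv, hi', inv_mul_cancel]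
    rcases (hker _).mp h1 with h | h
    · exact Or.inl (inv_mul_eq_one.mp h).symm
    · exact Or.inr (by rw [← h, mul_inv_cancel_left])
  rcases hxi with h | h
  · rw [h]; exact hsq _ i.2
  · rw [h, mul_mul_mul_comm, hsq _ i.2, hu2, one_mul]

end Aut

/-! ### The contributions -/

attribute [local instance] Ideal.Quotient.field

variable {M : Ideal Cfsg.AlgInt} [M.IsMaximal] {p : ℕ} [Fact p.Prime] [CharP (Res M) p]
  {G : Type u} [Group G] [Fintype G]

local notation "C[" P "]" => Subgroup.centralizer ((P : Subgroup G) : Set G)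

/-- An elementary abelian defect group of order eight with inertial quotient of order three. -/
theorem card_of_fixed {b : Idx (Res M) G} {ψ : Blk (Res M) G} (hM : Cfsg.IsPModular p M)
    (hb : Top p b) (hψ : PairOf p ψ b) (hab : ∀ x ∈ b.1, ∀ y ∈ b.1, x * y = y * x)
    (h8 : Nat.card b.1 = 8) (h2 : ∀ x : b.1, x * x = 1)
    (h3 : Nat.card (autHom b).range = 3) (r : b.1)
    (hfree : ∀ v : b.1, v ≠ 1 → v ≠ r → ∀ α ∈ (autHom b).range, α v = v → α = 1) :
    Nat.card (toSet ψ) ≤ 8 ∧ Nat.card (toSet ψ) ≠ 5 := by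
  classical
  letI : CommGroup b.1 :=
    { (inferInstance : Group b.1) with mul_comm := fun x y => Subtype.ext (hab x x.2 y y.2) }
  haveI := Fintype.ofFinite b.1
  haveI := Fintype.ofFinite (b.1 →* ℂˣ)
  have hn : Fintype.card b.1 = 8 := by rw [← Nat.card_eq_fintype_card, h8]
  -- all values are integers of one parity
  have hint : ∀ {χ : Cfsg.IrrCharacter G}, χ ∈ toSet ψ → ∀ χ' : Cfsg.IrrCharacter G,
      ∃ z : b.1 → ℤ, (∀ u, gram hb χ χ' u = (z u : ℂ)) ∧ ∀ u v, Even (z u) ↔ Even (z v) := by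
    intro χ hχ χ'
    choose n hn' using fun l : b.1 →* ℂˣ =>
      exists_coeff hb hψ hab hM (mem_toSet.mp hχ) χ' l
    have hsign : ∀ (l : b.1 →* ℂˣ) (u : b.1), ∃ s : ℤ, Odd s ∧ ((l u : ℂˣ) : ℂ) = s := by
      intro l u
      have h1 : ((l u : ℂˣ) : ℂ) * ((l u : ℂˣ) : ℂ) = 1 := by
        rw [← Units.val_mul, ← map_mul, h2 u, map_one, Units.val_one]
      rcases mul_self_eq_one_iff.mp h1 with h | h
      · exact ⟨1, odd_one, by rw [h]; simp⟩
      · exact ⟨-1, odd_neg_one, by rw [h]; simp⟩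
    choose s hs hs' using hsign
    refine ⟨fun u => ∑ l, n l * s l u, fun v => ?_, fun u v => ?_⟩
    · have horth : ∀ w : b.1, ∑ l : b.1 →* ℂˣ, ((l w : ℂˣ) : ℂ) = if w = 1 then 8 else 0 := by
        intro w
        split_ifs with hw
        · subst hw
          simp only [map_one, Units.val_one, Finset.sum_const, Finset.card_univ, nsmul_eq_mul,
            mul_one]
          rw [← Nat.card_eq_fintype_card,
            CommGroup.card_monoidHom_of_hasEnoughRootsOfUnity (G := b.1) (M := ℂ), h8]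
          norm_num
        · obtain ⟨φ, hφ⟩ := CommGroup.exists_apply_ne_one_of_hasEnoughRootsOfUnity b.1 ℂ hw
          have h1 : ∑ l : b.1 →* ℂˣ, ((l w : ℂˣ) : ℂ) =
              ((φ w : ℂˣ) : ℂ) * ∑ l : b.1 →* ℂˣ, ((l w : ℂˣ) : ℂ) := by
            rw [Finset.mul_sum]
            refine (Fintype.sum_equiv (Equiv.mulLeft φ) _ _ fun l => ?_).symm
            simp
          have h2' : (((φ w : ℂˣ) : ℂ) - 1) * ∑ l : b.1 →* ℂˣ, ((l w : ℂˣ) : ℂ) = 0 := by
            rw [sub_mul, one_mul, ← h1, sub_self]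
          exact (mul_eq_zero.mp h2').resolve_left
            (sub_ne_zero.mpr fun e => hφ (Units.ext e))
      have key : (8 : ℂ) * gram hb χ χ' v = 8 * ∑ l, (n l : ℂ) * ((l v : ℂˣ) : ℂ) := by
        have e : ∀ l : b.1 →* ℂˣ, (8 : ℂ) * ((n l : ℂ) * ((l v : ℂˣ) : ℂ)) =
            ∑ u, gram hb χ χ' u * ((l (u * v) : ℂˣ) : ℂ) := by
          intro l
          rw [← mul_assoc, show (8 : ℂ) = (Nat.card b.1 : ℂ) by rw [h8]; norm_num, ← hn' l,
            Finset.sum_mul]
          exact Finset.sum_congr rfl fun u _ => by rw [map_mul, Units.val_mul, mul_assoc]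
        rw [Finset.mul_sum, Finset.sum_congr rfl fun l _ => e l, Finset.sum_comm]
        simp only [← Finset.mul_sum, horth]
        rw [Finset.sum_eq_single v]
        · rw [if_pos (h2 v)]; ring
        · intro u _ hu
          rw [if_neg fun e => hu ?_, mul_zero]
          rw [← mul_one u, ← h2 v, ← mul_assoc, e, one_mul]
        · intro h
          exact absurd (Finset.mem_univ v) h
      rw [mul_left_cancel₀ (by norm_num) key]
      push_cast
      exact Finset.sum_congr rfl fun l _ => by rw [hs' l v]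
    · have e : ∀ w, Even (∑ l, n l * s l w) ↔ Even (∑ l, n l) := by
        intro w
        rw [← Int.even_sub, ← Finset.sum_sub_distrib]
        refine Finset.even_sum _ fun l _ => ?_
        rw [← mul_sub_one]
        exact Even.mul_left ((hs l w).sub_odd odd_one) _
      rw [e u, e v]
  choose z hz hpar using @hint
  -- a free element
  obtain ⟨v, hv1, hvr⟩ : ∃ v : b.1, v ≠ 1 ∧ v ≠ r := by
    by_contra hcon
    push Not at hcon
    have : (Finset.univ : Finset b.1) ⊆ {1, r} := fun x _ => by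
      by_cases hx : x = 1
      · simp [hx]
      · simp [hcon x hx]
    have := (Finset.card_le_card this).trans Finset.card_le_two
    rw [Finset.card_univ, hn] at this
    omega
  let zz : toSet ψ → b.1 → ℤ := fun χ u => z χ.2 χ.1 u
  haveI := Fintype.ofFinite (toSet ψ)
  have hpos : ∀ (χ : toSet ψ) u, 1 ≤ zz χ u := by
    intro χ u
    obtain ⟨x, hx, hx'⟩ := exists_pos hb hψ hab hM (mem_toSet.mp χ.2) u
    rw [hz χ.2 χ.1 u] at hx'
    have h1 : ((z χ.2 χ.1 u : ℤ) : ℝ) = x := by exact_mod_cast hx'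
    rw [← h1] at hx
    have : 0 < z χ.2 χ.1 u := by exact_mod_cast hx
    show 1 ≤ z χ.2 χ.1 u
    omega
  have hcol : ∀ u : b.1, u ≠ 1 → u ≠ r → ∑ χ : toSet ψ, zz χ u = 8 := by
    intro u hu1 hur
    have h1 := sum_gram hb hψ hab hM u (hfree u hu1 hur)
    rw [Finset.sum_subtype (bset (toSet ψ)) (fun χ => mem_bset) (fun χ => gram hb χ χ u), h8] at h1
    simp only [zz]
    have h2' : ((∑ χ : toSet ψ, z χ.2 χ.1 u : ℤ) : ℂ) = ((8 : ℤ) : ℂ) := by
      push_cast
      rw [Finset.sum_congr rfl fun χ _ => (hz χ.2 χ.1 u).symm]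
      exact_mod_cast h1
    exact_mod_cast h2'
  constructor
  · rw [Nat.card_eq_fintype_card]
    have h1 : (Fintype.card (toSet ψ) : ℤ) ≤ ∑ χ : toSet ψ, zz χ v := by
      rw [← Finset.card_univ, Finset.card_eq_sum_ones, Nat.cast_sum, Nat.cast_one]
      exact Finset.sum_le_sum fun χ _ => hpos χ v
    rw [hcol v hv1 hvr] at h1
    omega
  intro h5
  rw [Nat.card_eq_fintype_card] at h5
  -- squares
  have hsq : ∀ (χ χ' : toSet ψ) u, u ≠ 1 → u ≠ r → ∃ c : ℤ, c * c = zz χ u * zz χ' u := by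
    intro χ χ' u hu1 hur
    refine ⟨z χ.2 χ'.1 u, ?_⟩
    have h1 := gram_mul_gram hb hψ hab hM (mem_toSet.mp χ.2) χ'.1 u (hfree u hu1 hur)
    rw [hz χ.2 χ'.1 u, hz χ.2 χ.1 u, hz χ'.2 χ'.1 u, map_intCast] at h1
    exact_mod_cast h1
  have hshape : ∀ u : b.1, u ≠ 1 → u ≠ r → ∀ χ : toSet ψ, zz χ u = 1 ∨ zz χ u = 4 := by
    intro u hu1 hur χ
    obtain ⟨χ₁, hχ₁⟩ : ∃ χ₁, zz χ₁ u = 1 := by
      by_contra hcon
      push Not at hcon
      have h1 : ∑ _χ : toSet ψ, (2 : ℤ) ≤ ∑ χ : toSet ψ, zz χ u := Finset.sum_le_sum fun χ _ => by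
        have := hpos χ u
        have := hcon χ
        omega
      rw [hcol u hu1 hur, Finset.sum_const, Finset.card_univ, h5] at h1
      norm_num at h1
    obtain ⟨c, hc⟩ := hsq χ χ₁ u hu1 hur
    rw [hχ₁, mul_one] at hc
    have hle : zz χ u ≤ 4 := by
      have h1 : zz χ u + ∑ χ' ∈ Finset.univ.erase χ, zz χ' u = 8 := by
        exact (Finset.add_sum_erase Finset.univ (fun χ' => zz χ' u) (Finset.mem_univ χ)).trans
          (hcol u hu1 hur)
      have h2' : ∑ _χ' ∈ Finset.univ.erase χ, (1 : ℤ) ≤ ∑ χ' ∈ Finset.univ.erase χ, zz χ' u :=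
        Finset.sum_le_sum fun χ' _ => hpos χ' u
      have h4 : ∑ _χ' ∈ Finset.univ.erase χ, (1 : ℤ) = 4 := by
        rw [Finset.sum_const, Finset.card_erase_of_mem (Finset.mem_univ χ), Finset.card_univ, h5]
        norm_num
      linarith [h1, h2', h4]
    have := hpos χ u
    have hc2 : -2 ≤ c ∧ c ≤ 2 := ⟨by nlinarith, by nlinarith⟩
    obtain ⟨hc2a, hc2b⟩ := hc2
    interval_cases c <;> omega
  obtain ⟨χ₀, hχ₀⟩ : ∃ χ, zz χ v = 4 := by
    by_contra hcon
    push Not at hcon
    have h1 := hcol v hv1 hvr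
    rw [Finset.sum_congr rfl fun χ _ => (hshape v hv1 hvr χ).resolve_right (hcon χ),
      Finset.sum_const, Finset.card_univ, h5] at h1
    norm_num at h1
  have hall : ∀ u, u ≠ 1 → u ≠ r → zz χ₀ u = 4 := fun u hu1 hur => by
    rcases hshape u hu1 hur χ₀ with h | h
    · exfalso
      have h1 := (hpar χ₀.2 χ₀.1 v u).mp (show Even (zz χ₀ v) by rw [hχ₀]; decide)
      rw [show z χ₀.2 χ₀.1 u = 1 from h] at h1
      exact absurd h1 (by decide)
    · exact h
  have htot : ∑ u, zz χ₀ u = 24 := by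
    have h1 := sum_gram_eq hb hψ hab hM (mem_toSet.mp χ₀.2) χ₀.1
    rw [classInner_self_irr, h3, h8, Finset.sum_congr rfl fun u _ => hz χ₀.2 χ₀.1 u] at h1
    have h2' : ((∑ u, zz χ₀ u : ℤ) : ℂ) = ((24 : ℤ) : ℂ) := by
      push_cast
      refine h1.trans ?_
      norm_num
    exact_mod_cast h2'
  set S := ((Finset.univ : Finset b.1).erase 1).erase r with hS
  have hScard : 6 ≤ S.card := by
    have h1 := Finset.card_erase_of_mem (Finset.mem_univ (1 : b.1))
    have h2' := Finset.pred_card_le_card_erase (s := (Finset.univ : Finset b.1).erase 1) (a := r)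
    rw [h1, Finset.card_univ, hn] at h2'
    omega
  have h1S : (1 : b.1) ∉ S := by simp [hS]
  have h1 : ∑ u ∈ insert 1 S, zz χ₀ u ≤ 24 := htot ▸
    Finset.sum_le_sum_of_subset_of_nonneg (Finset.subset_univ _)
      fun u _ _ => le_trans zero_le_one (hpos χ₀ u)
  rw [Finset.sum_insert h1S, Finset.sum_congr rfl fun u hu =>
    hall u (Finset.mem_erase.mp (Finset.mem_erase.mp hu).2).1 (Finset.mem_erase.mp hu).1,
    Finset.sum_const, nsmul_eq_mul] at h1
  have := hpos χ₀ 1
  have : (6 : ℤ) ≤ S.card := by exact_mod_cast hScard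
  linarith

/-! ### The local block of a central element -/

omit [Fintype G] in
/-- The local block of a central element has the rank of the block. -/
theorem blockRank_localBlk_top [Finite G] (hM : Cfsg.IsPModular p M) {P : Subgroup G}
    {c : Blk (Res M) C[P]} {ψ : Blk (Res M) G} (htop : Top p (⟨P, c⟩ : Idx (Res M) G))
    (hψ : PairOf p ψ (⟨P, c⟩ : Idx (Res M) G)) (hab : ∀ x ∈ P, ∀ y ∈ P, x * y = y * x) {u : G}
    (hu : u ∈ P) (hcen : ∀ g : G, g ∈ C[Subgroup.zpowers u]) :
    Cfsg.blockRank p (toSet (localBlk c htop.1 hab hu)) = Cfsg.blockRank p (toSet ψ) := by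
  classical
  let θ : C[Subgroup.zpowers u] ≃* G :=
    { toFun := fun h => h
      invFun := fun g => ⟨g, hcen g⟩
      left_inv := fun _ => rfl
      right_inv := fun _ => rfl
      map_mul' := fun _ _ => rfl }
  set w := localBlk c htop.1 hab hu with hw
  have hind := isInducedBlock_localBlk hM htop.1 hψ hab hu
  rw [← blockRank_transport θ w]
  refine congrArg (fun φ => Cfsg.blockRank p (toSet φ)) ?_
  obtain ⟨ξ, hξ⟩ := Cfsg.Agent.Lib.Blocks.isPBlock_nonempty hind.1
  obtain ⟨χ, hχ⟩ := Cfsg.Agent.Lib.Blocks.isPBlock_nonempty hind.2.1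
  have hsame : Cfsg.SameBlock M (pushIrr θ ξ : G → ℂ) (χ : G → ℂ) := fun g => by
    have hv : ∀ k : C[Subgroup.zpowers u],
        (ξ : _ → ℂ) k = (pushIrr θ ξ : G → ℂ) (k : G) := fun _ => rfl
    have e : Cfsg.inducedCentralChar C[Subgroup.zpowers u] (ξ : _ → ℂ) g =
        Cfsg.centralChar (pushIrr θ ξ : G → ℂ) g := by
      rw [Cfsg.inducedCentralChar, Cfsg.centralChar,
        finsum_mem_eq_finite_toFinset_sum _ (Set.toFinite _)]
      have hcls : ∀ k ∈ (Set.toFinite
          {k : C[Subgroup.zpowers u] | IsConj g (k : G)}).toFinset,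
          (ξ : C[Subgroup.zpowers u] → ℂ) k / (ξ : C[Subgroup.zpowers u] → ℂ) 1 =
            (pushIrr θ ξ : G → ℂ) g / (pushIrr θ ξ : G → ℂ) 1 := by
        intro k hk
        obtain ⟨t, ht⟩ := isConj_iff.mp (show IsConj g (k : G) by simpa using hk)
        rw [hv, hv, OneMemClass.coe_one, ← ht, Cfsg.Agent.Lib.Blocks.char_conj_apply]
      rw [Finset.sum_congr rfl hcls, Finset.sum_const, nsmul_eq_mul, mul_div_assoc]
      congr 2
      rw [← BrauerMap.ClassSum.card_isConj, ← Set.ncard_eq_toFinset_card _ (Set.toFinite _),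
        ← Nat.card_coe_set_eq]
      exact Nat.card_congr (θ.toEquiv.subtypeEquiv fun k => Iff.rfl)
    rw [← e]
    exact hind.2.2 ξ hξ χ hχ g
  calc w.comp (zMap θ.symm) = blkOf M (pushIrr θ ξ) := by
        rw [blkOf_pushIrr, mem_toSet.mp hξ]
    _ = blkOf M χ := Cfsg.Agent.Lib.Blocks.sameBlock_iff_omegaBar.mp hsame
    _ = ψ := mem_toSet.mp hχ

/-- A local block of a fixed element has at most three modular characters. -/
theorem blockRank_le_three (hM : Cfsg.IsPModular p M) {P : Subgroup G} {c : Blk (Res M) C[P]}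
    {ψ : Blk (Res M) G} (htop : Top p (⟨P, c⟩ : Idx (Res M) G))
    (hψ : PairOf p ψ (⟨P, c⟩ : Idx (Res M) G)) (hab : ∀ x ∈ P, ∀ y ∈ P, x * y = y * x)
    (h8 : Nat.card P = 8) (hodd : Odd (Nat.card (autHom (⟨P, c⟩ : Idx (Res M) G)).range)) {r : P}
    (hr : r ≠ 1) {α : MulAut P} (hα : α ∈ (autHom (⟨P, c⟩ : Idx (Res M) G)).range) (hα1 : α ≠ 1)
    (hαr : α r = r) :
    Cfsg.blockRank p (toSet (localBlk c htop.1 hab r.2)) ≤ 3 := by
  classical
  set H := C[Subgroup.zpowers (r : G)] with hH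
  have hPH := le_centralizer_zpowers hab r.2
  have hCH : C[P] ≤ H := centralizer_anti (Subgroup.zpowers_le.mpr r.2)
  set b' := localPair c hab r.2 with hb'
  have hb'top : Top p b' := top_localPair htop hab r.2
  have hb'pair := pairOf_localBlk (c := c) htop.1 hab r.2
  have hab' : ∀ x ∈ b'.1, ∀ y ∈ b'.1, x * y = y * x := fun x hx y hy =>
    Subtype.ext (hab _ hx _ hy)
  have h8' : Nat.card b'.1 = 8 := by
    exact (Nat.card_congr (Subgroup.subgroupOfEquivOfLe hPH).toEquiv).trans h8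
  -- the fixed element
  let r' : b'.1 := ⟨⟨r, hPH r.2⟩, r.2⟩
  have hr' : r' ≠ 1 := fun e => hr (Subtype.ext (congrArg (fun x : b'.1 => ((x : H) : G)) e))
  have hfix : ∀ β ∈ (autHom b').range, β r' = r' := by
    rintro _ ⟨t, rfl⟩
    refine Subtype.ext (Subtype.ext ?_)
    rw [autHom_apply]
    have h1 := Subgroup.mem_centralizer_iff.mp (t : H).2 (r : G) (Subgroup.mem_zpowers _)
    show ((t : H) : G) * r * ((t : H) : G)⁻¹ = r
    rw [← h1, mul_inv_cancel_right]
  have hodd' : Odd (Nat.card (autHom b').range) := by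
    -- the local inertial quotient embeds
    let ι : P ≃* b'.1 := (Subgroup.subgroupOfEquivOfLe hPH).symm
    let Φ : MulAut b'.1 →* MulAut P := (MulAut.congr ι.symm).toMonoidHom
    have hle : (autHom b').range.map Φ ≤ (autHom (⟨P, c⟩ : Idx (Res M) G)).range := by
      rintro _ ⟨_, ⟨t, rfl⟩, rfl⟩
      refine ⟨⟨((t : H) : G), (mem_stab_down_iff hPH hCH c (t : H)).mp t.2⟩, ?_⟩
      exact MulEquiv.ext fun x => Subtype.ext rfl
    have hdvd := Subgroup.card_dvd_of_le hle
    rw [Subgroup.card_map_of_injective (MulAut.congr ι.symm).injective] at hdvd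
    exact hodd.of_dvd_nat hdvd
  have hne : (autHom b').range ≠ ⊥ := by
    obtain ⟨t, ht⟩ := hα
    have htH : (t : G) ∈ H := by
      have h1 := congrArg Subtype.val (show autHom (⟨P, c⟩ : Idx (Res M) G) t r = r by rw [ht, hαr])
      rw [autHom_apply] at h1
      rw [hH, Subgroup.mem_centralizer_iff]
      intro x hx
      obtain ⟨i, rfl⟩ := Subgroup.mem_zpowers_iff.mp hx
      have hc : Commute (t : G) (r : G) := mul_inv_eq_iff_eq_mul.mp h1
      exact (hc.zpow_right i).symm.eq
    intro hbot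
    refine hα1 ?_
    have h0 : autHom b' ⟨⟨(t : G), htH⟩, (mem_stab_down_iff hPH hCH c _).mpr t.2⟩ = 1 :=
      Subgroup.mem_bot.mp (hbot ▸ (⟨_, rfl⟩ :
        autHom b' ⟨⟨(t : G), htH⟩, (mem_stab_down_iff hPH hCH c _).mpr t.2⟩ ∈ (autHom b').range))
    rw [← ht]
    refine MulEquiv.ext fun x => Subtype.ext ?_
    have h2 := congrArg (fun γ : MulAut b'.1 => (((γ ⟨⟨x, hPH x.2⟩, x.2⟩ : b'.1) : H) : G)) h0
    exact h2
  letI : CommGroup b'.1 :=
    { (inferInstance : Group b'.1) with mul_comm := fun x y => Subtype.ext (hab' x x.2 y y.2) }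
  obtain ⟨h3, h2, hfree⟩ := fix_shape h8' (autHom b').range hodd' hne hr' hfix
  haveI := Fintype.ofFinite H
  have hfree' : ∀ v : b'.1, v ≠ 1 → v ≠ r' → ∀ β ∈ (autHom b').range, β v = v → β = 1 := by
    intro v hv1 hvr β hβ hβv
    by_contra hne'
    rcases hfree β hβ hne' v hβv with h | h
    exacts [hv1 h, hvr h]
  obtain ⟨hk8, -⟩ := card_of_fixed hM hb'top hb'pair hab' h8' h2 h3 r' hfree'
  -- count the subsections
  obtain ⟨R, hR⟩ := exists_orbitReps (p := p) (⟨b'.1, b'.2⟩ : Idx (Res M) H)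
  have hcount := card_eq hM (P := b'.1) (c := b'.2) hb'top hb'pair hab' hR
  rw [hcount] at hk8
  -- the representative of the fixed element
  have hrR : (r' : H) ∈ R := by
    obtain ⟨s, hs, t, ht, hts⟩ := hR.exists_conj (r' : H) r'.2 (fun e => hr' (Subtype.ext e))
    have h1 : autHom b' ⟨t, ht⟩ r' = r' := hfix _ ⟨_, rfl⟩
    have h2' : t * (r' : H) * t⁻¹ = r' := congrArg Subtype.val h1
    rw [h2'] at hts
    exact hts ▸ hs
  have hR2 : 3 ≤ R.card := by
    haveI := Fintype.ofFinite b'.1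
    let f : b'.1 → H := fun x => if hx : x = 1 then 1 else
      (hR.exists_conj (x : H) x.2 (fun e => hx (Subtype.ext e))).choose
    have hf : ∀ x : b'.1, x ≠ 1 → f x ∈ R ∧ ∃ t ∈ stab b', t * (x : H) * t⁻¹ = f x := by
      intro x hx
      simp only [f, dif_neg hx]
      exact (hR.exists_conj (x : H) x.2 (fun e => hx (Subtype.ext e))).choose_spec
    set S := ((Finset.univ : Finset b'.1).erase 1).erase r' with hS
    have hScard : S.card = 6 := by
      rw [hS, Finset.card_erase_of_mem (by simp [hr']),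
        Finset.card_erase_of_mem (Finset.mem_univ _), Finset.card_univ,
        ← Nat.card_eq_fintype_card, h8']
    have hmaps : ∀ x ∈ S, f x ∈ R.erase (r' : H) := by
      intro x hx
      obtain ⟨hxr, hx'⟩ := Finset.mem_erase.mp hx
      obtain ⟨hfx, t, ht, htx⟩ := hf x (Finset.mem_erase.mp hx').1
      refine Finset.mem_erase.mpr ⟨fun e => hxr ?_, hfx⟩
      have h1 : autHom b' ⟨t, ht⟩ x = r' := Subtype.ext (htx.trans e)
      exact (autHom b' ⟨t, ht⟩).injective (h1.trans (hfix _ ⟨_, rfl⟩).symm)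
    have hfib : ∀ y ∈ R.erase (r' : H), (S.filter fun x => f x = y).card ≤ 3 := by
      intro y _
      by_cases hne' : (S.filter fun x => f x = y).Nonempty
      · obtain ⟨x₁, hx₁⟩ := hne'
        obtain ⟨hx₁S, hx₁y⟩ := Finset.mem_filter.mp hx₁
        obtain ⟨-, t₁, ht₁, htx₁⟩ :=
          hf x₁ (Finset.mem_erase.mp (Finset.mem_erase.mp hx₁S).2).1
        haveI := Fintype.ofFinite (autHom b').range
        have hsub : (S.filter fun x => f x = y) ⊆
            (Finset.univ : Finset (autHom b').range).image (fun β => β.1 x₁) := by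
          intro x hx
          obtain ⟨hxS, hxy⟩ := Finset.mem_filter.mp hx
          obtain ⟨-, t, ht, htx⟩ := hf x (Finset.mem_erase.mp (Finset.mem_erase.mp hxS).2).1
          refine Finset.mem_image.mpr ⟨⟨autHom b' (⟨t, ht⟩⁻¹ * ⟨t₁, ht₁⟩), ⟨_, rfl⟩⟩,
            Finset.mem_univ _, Subtype.ext ?_⟩
          show (((autHom b' (⟨t, ht⟩⁻¹ * ⟨t₁, ht₁⟩)) x₁ : b'.1) : H) = (x : H)
          rw [autHom_apply]
          show t⁻¹ * t₁ * (x₁ : H) * (t⁻¹ * t₁)⁻¹ = (x : H)
          rw [show t⁻¹ * t₁ * (x₁ : H) * (t⁻¹ * t₁)⁻¹ = t⁻¹ * (t₁ * (x₁ : H) * t₁⁻¹) * t by group,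
            htx₁, hx₁y, ← hxy, ← htx]
          group
        refine (Finset.card_le_card hsub).trans (Finset.card_image_le.trans ?_)
        rw [Finset.card_univ, ← Nat.card_eq_fintype_card, h3]
      · rw [Finset.not_nonempty_iff_eq_empty.mp hne']; simp
    have h6 := Finset.card_le_mul_card_image (s := S) (f := f) 3 fun y hy => hfib y (by
      obtain ⟨x, hx, rfl⟩ := Finset.mem_image.mp hy
      exact hmaps x hx)
    have himg : (S.image f).card ≤ (R.erase (r' : H)).card :=
      Finset.card_le_card fun y hy => by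
        obtain ⟨x, hx, rfl⟩ := Finset.mem_image.mp hy
        exact hmaps x hx
    rw [Finset.card_erase_of_mem hrR] at himg
    omega
  have hone : ∀ s ∈ R.attach, 1 ≤ Cfsg.blockRank p
      (toSet (localBlk b'.2 hb'top.1 hab' (hR.mem s.1 s.2))) :=
    fun s _ => Cfsg.Agent.Lib.BrauerPairs.RankAbelian.one_le_blockRank hM (isPBlock_toSet _)
  have heq := blockRank_localBlk_top hM (P := b'.1) (c := b'.2) hb'top hb'pair hab'
    (u := (r' : H)) r'.2 fun g => by
      rw [Subgroup.mem_centralizer_iff]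
      intro x hx
      obtain ⟨i, rfl⟩ := Subgroup.mem_zpowers_iff.mp hx
      have hc : Commute g (r' : H) := Subtype.ext
        ((Subgroup.mem_centralizer_iff.mp g.2 (r : G) (Subgroup.mem_zpowers _)).symm)
      exact (hc.zpow_right i).symm.eq
  rw [← Finset.add_sum_erase R.attach _ (Finset.mem_attach R ⟨(r' : H), hrR⟩)] at hk8
  have hrest := Finset.sum_le_sum (fun s hs => hone s (Finset.mem_of_mem_erase hs))
    (s := R.attach.erase ⟨(r' : H), hrR⟩)
  rw [Finset.sum_const, Finset.card_erase_of_mem (Finset.mem_attach _ _), Finset.card_attach,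
    smul_eq_mul, mul_one] at hrest
  simp only [heq] at hk8
  omega

/-- **No block with an abelian defect group of order eight, one modular and five ordinary
characters.** -/
theorem false_of_eight (hM : Cfsg.IsPModular p M) (hp2 : p = 2) {P : Subgroup G}
    {c : Blk (Res M) C[P]} {ψ : Blk (Res M) G} (htop : Top p (⟨P, c⟩ : Idx (Res M) G))
    (hψ : PairOf p ψ (⟨P, c⟩ : Idx (Res M) G)) (hab : ∀ x ∈ P, ∀ y ∈ P, x * y = y * x)
    (h8 : Nat.card P = 8) (hl : Cfsg.blockRank p (toSet ψ) = 1)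
    (hk : Nat.card (toSet ψ) = 5) : False := by
  classical
  subst hp2
  set b : Idx (Res M) G := ⟨P, c⟩ with hb
  set A := (autHom b).range with hA
  have hodd : Odd (Nat.card A) := by
    have h := Cfsg.Agent.S4633.range_not_dvd (p := 2) (a := b) htop
      (fun x hx => Subgroup.mem_centralizer_iff.mpr fun y hy => hab y hy x hx) (stab b)
      (stab_le_normalizer b) (fun x hx => (mem_stab_iff.mp hx).2)
    exact Nat.odd_iff.mpr (Nat.two_dvd_ne_zero.mp h)
  by_cases hfree : ∀ α ∈ A, α ≠ 1 → ∀ v : P, α v = v → v = 1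
  · have hfr : ∀ x ∈ stab b, ∀ u ∈ P, u ≠ 1 → x * u = u * x → x ∈ C[P] := by
      intro x hx u hu hu1 hxu
      by_contra hxC
      refine hu1 (congrArg Subtype.val (hfree (autHom b ⟨x, hx⟩) ⟨_, rfl⟩ (fun h => hxC ?_)
        ⟨u, hu⟩ (Subtype.ext ?_)))
      · have hk' : (⟨x, hx⟩ : stab b) ∈ (autHom b).ker := h
        rw [autHom_ker, Subgroup.mem_subgroupOf] at hk'
        exact hk'
      · rw [autHom_apply]
        show x * u * x⁻¹ = u
        rw [hxu, mul_inv_cancel_right]
    obtain ⟨m, hm0, hm, hkl, -⟩ := FreeAbelian.Block.counts hM htop hψ hab hfr (by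
      intro h0
      rw [h0] at h8
      simp at h8)
    have hm4 : m = 4 := by omega
    change Nat.card A * m + 1 = Nat.card P at hm
    rw [hm4, h8] at hm
    omega
  push Not at hfree
  obtain ⟨α, hα, hα1, u, hαu, hu⟩ := hfree
  letI : CommGroup P :=
    { (inferInstance : Group P) with mul_comm := fun x y => Subtype.ext (hab x x.2 y y.2) }
  haveI := Fintype.ofFinite P
  let Au : Subgroup (MulAut P) :=
    { carrier := {β | β ∈ A ∧ β u = u}
      one_mem' := ⟨one_mem A, rfl⟩
      mul_mem' := fun {x y} hx hy => ⟨mul_mem hx.1 hy.1, by rw [MulAut.mul_apply, hy.2, hx.2]⟩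
      inv_mem' := fun {x} hx => ⟨inv_mem hx.1, by
        conv_lhs => rw [← hx.2]
        exact MulEquiv.symm_apply_apply x u⟩ }
  have hAu : Au ≤ A := fun β hβ => hβ.1
  have hAuodd : Odd (Nat.card Au) := hodd.of_dvd_nat (Subgroup.card_dvd_of_le hAu)
  obtain ⟨h3, h2, hfreeu⟩ := fix_shape h8 Au hAuodd
    (fun e => hα1 (Subgroup.mem_bot.mp (e ▸ (⟨hα, hαu⟩ : α ∈ Au)))) hu fun β hβ => hβ.2
  by_cases hAA : A ≤ Au
  · -- the fixed case
    have hAeq : A = Au := le_antisymm hAA hAu
    have h3' : Nat.card A = 3 := by rw [hAeq]; exact h3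
    exact (card_of_fixed hM htop hψ hab h8 h2 h3' u fun v hv1 hvu β hβ hβv => by
      by_contra hne
      rcases hfreeu β (hAA hβ) hne v hβv with h | h
      exacts [hv1 h, hvu h]).2 hk
  -- the transitive case
  obtain ⟨β₀, hβ₀, hβ₀u⟩ : ∃ β ∈ A, β u ≠ u := by
    by_contra hcon
    push Not at hcon
    exact hAA fun β hβ => ⟨hβ, hcon β hβ⟩
  -- every element is conjugate to `u`
  have htrans : ∀ v : P, v ≠ 1 → ∃ β ∈ A, β u = v := by
    let O : Set P := {v | ∃ β ∈ A, β u = v}
    have hcard : Nat.card Au * Nat.card O = Nat.card A := by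
      letI : MulAction A P :=
        { smul := fun β x => β.1 x
          one_smul := fun x => rfl
          mul_smul := fun β γ x => rfl }
      have e1 : MulAction.orbit A u = O := by
        ext v
        exact ⟨fun ⟨β, hβ⟩ => ⟨β.1, β.2, hβ⟩, fun ⟨β, hβ, hv⟩ => ⟨⟨β, hβ⟩, hv⟩⟩
      have e2 : MulAction.stabilizer A u = Au.subgroupOf A := by
        ext β
        exact ⟨fun h => ⟨β.2, h⟩, fun h => h.2⟩
      have h1 := Subgroup.card_mul_index (MulAction.stabilizer A u)
      rw [MulAction.index_stabilizer, e1, e2,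
        Nat.card_congr (Subgroup.subgroupOfEquivOfLe hAu).toEquiv,
        ← Nat.card_coe_set_eq] at h1
      exact h1
    have hOodd : Odd (Nat.card O) := hodd.of_dvd_nat (Dvd.intro_left _ hcard)
    -- the other conjugates fall into free orbits
    let X := {v : P // (∃ β ∈ A, β u = v) ∧ v ≠ u}
    have hX : Nat.card X + 1 = Nat.card O := by
      have hu' : u ∈ O := ⟨1, one_mem A, rfl⟩
      have e : Set.ncard (O \ {u}) + 1 = Set.ncard O :=
        Set.ncard_sdiff_singleton_add_one hu' (Set.toFinite _)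
      rw [← Nat.card_coe_set_eq, ← Nat.card_coe_set_eq] at e
      exact e
    have hmem : ∀ γ ∈ Au, ∀ x : X, (∃ β ∈ A, β u = γ x.1) ∧ γ x.1 ≠ u := by
      intro γ hγ x
      obtain ⟨β, hβ, hβx⟩ := x.2.1
      exact ⟨⟨γ * β, mul_mem hγ.1 hβ, by rw [MulAut.mul_apply, hβx]⟩,
        fun e => x.2.2 (γ.injective (e.trans hγ.2.symm))⟩
    haveI : Fact (Nat.Prime 3) := ⟨by norm_num⟩
    have hP3 : IsPGroup 3 Au := IsPGroup.of_card (n := 1) (by rw [h3, pow_one])
    letI : MulAction Au X :=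
      { smul := fun γ x => ⟨γ.1 x.1, hmem γ.1 γ.2 x⟩
        one_smul := fun x => Subtype.ext rfl
        mul_smul := fun γ δ x => Subtype.ext rfl }
    haveI : IsEmpty (MulAction.fixedPoints Au X) := ⟨fun x => by
      obtain ⟨β, hβ, hβx⟩ := x.1.2.1
      have h1 : α x.1.1 = x.1.1 := congrArg Subtype.val (x.2 ⟨α, hα, hαu⟩)
      rcases hfreeu α ⟨hα, hαu⟩ hα1 _ h1 with h | h
      · rw [h] at hβx
        exact hu (β.map_eq_one_iff.mp hβx)
      · exact x.1.2.2 h⟩
    have hmod := hP3.card_modEq_card_fixedPoints X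
    rw [Nat.card_of_isEmpty (α := MulAction.fixedPoints Au X)] at hmod
    have h3X : 3 ∣ Nat.card X := Nat.modEq_zero_iff_dvd.mp hmod
    have hX0 : 0 < Nat.card X :=
      Nat.card_pos_iff.mpr ⟨⟨⟨β₀ u, ⟨β₀, hβ₀, rfl⟩, hβ₀u⟩⟩, inferInstance⟩
    have hO7 : Nat.card O ≤ 7 := by
      have hsub : O ⊆ {v | v ≠ 1} := by
        rintro v ⟨β, hβ, rfl⟩ e
        exact hu (β.map_eq_one_iff.mp e)
      have h1 := Set.ncard_le_ncard hsub (Set.toFinite _)
      rw [show {v : P | v ≠ 1} = Set.univ \ {1} by ext; simp,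
        Set.ncard_sdiff_singleton_of_mem (Set.mem_univ _), Set.ncard_univ, h8,
        ← Nat.card_coe_set_eq] at h1
      exact h1
    obtain ⟨j, hj⟩ := hOodd
    obtain ⟨i, hi⟩ := h3X
    have hO : Nat.card O = 7 := by omega
    intro v hv
    by_contra hcon
    have hsub : O ⊆ {w | w ≠ 1 ∧ w ≠ v} := by
      rintro w ⟨β, hβ, rfl⟩
      exact ⟨fun e => hu (β.map_eq_one_iff.mp e), fun e => hcon ⟨β, hβ, e⟩⟩
    have h1 := Set.ncard_le_ncard hsub (Set.toFinite _)
    rw [show {w : P | w ≠ 1 ∧ w ≠ v} = (Set.univ \ {1}) \ {v} by ext; simp,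
      Set.ncard_sdiff_singleton_of_mem (show v ∈ Set.univ \ {1} from ⟨Set.mem_univ _, hv⟩),
      Set.ncard_sdiff_singleton_of_mem (Set.mem_univ _), Set.ncard_univ, h8,
      ← Nat.card_coe_set_eq, hO] at h1
    omega
  -- one orbit
  obtain ⟨R, hR⟩ := exists_orbitReps (p := 2) b
  have hcount := card_eq hM htop hψ hab hR
  rw [hl, hk] at hcount
  have hR1 : ∀ s ∈ R, ∀ t ∈ R, s = t := by
    intro s hs t ht
    obtain ⟨β, ⟨x, rfl⟩, hxs⟩ := htrans ⟨s, hR.mem s hs⟩ (fun e => hR.ne_one s hs (congrArg Subtype.val e))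
    obtain ⟨γ, ⟨y, rfl⟩, hyt⟩ := htrans ⟨t, hR.mem t ht⟩ (fun e => hR.ne_one t ht (congrArg Subtype.val e))
    have e1 := congrArg Subtype.val hxs
    have e2 := congrArg Subtype.val hyt
    rw [autHom_apply] at e1 e2
    refine hR.unique s hs t ht ((y : G) * (x : G)⁻¹) (mul_mem y.2 (inv_mem x.2)) ?_
    simp only at e1 e2
    rw [← e1, ← e2]
    group
  have hsum : ∀ s ∈ R.attach,
      Cfsg.blockRank 2 (toSet (localBlk c htop.1 hab (hR.mem s.1 s.2))) ≤ 3 := by
    rintro ⟨s, hs⟩ -
    have hs1 : (⟨s, hR.mem s hs⟩ : P) ≠ 1 := fun e => hR.ne_one s hs (congrArg Subtype.val e)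
    obtain ⟨β, hβ, hβu⟩ := htrans ⟨s, hR.mem s hs⟩ hs1
    exact blockRank_le_three hM htop hψ hab h8 hodd (r := ⟨s, hR.mem s hs⟩) hs1
      (α := β * α * β⁻¹) (mul_mem (mul_mem hβ hα) (inv_mem hβ))
      (fun e => hα1 (conj_eq_one_iff.mp e))
      (by rw [← hβu, MulAut.mul_apply, MulAut.mul_apply]
          show β (α (β.symm (β u))) = β u
          rw [MulEquiv.symm_apply_apply, hαu])
  have hle := Finset.sum_le_card_nsmul R.attach _ 3 hsum
  rw [Finset.card_attach, smul_eq_mul] at hle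
  have hRc : R.card ≤ 1 := Finset.card_le_one.mpr hR1
  omega

end Cfsg.Agent.Lib.LocalFive79.Eight
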