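import Cfsg.Agent.Lib.LocalFive79.Base
import Mathlib.FieldTheory.IsAlgClosed.Basic
import Mathlib.Data.Fin.VecNotation

/-!
# Local symmetric algebras with two generators

If a local symmetric algebra has two generators and commutators of codimension at most `5`, it has
dimension at most `11` (`finrank_le_of_two`): either one of the layers `3`, `4` is flat, or its
graded algebra looks like a dihedral one and the sixth power of the radical vanishes.
-/

set_option autoImplicit false

namespace Cfsg.Agent.Lib.LocalFive79.Two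

open Module Cfsg.Agent.Lib.BrauerPairs.CornerLocal Cfsg.Agent.Lib.LocalFive79.Base

variable {k : Type*} [Field k] {A : Type*} [Ring A] [Algebra k A] [FiniteDimensional k A]
variable {C J : Submodule k A} {f : A} {lam : A →ₗ[k] k}

omit [FiniteDimensional k A] in
theorem mul3_mem {a b c : A} (ha : a ∈ J) (hb : b ∈ J) (hc : c ∈ J) : a * b * c ∈ J ^ 3 := by
  rw [pow_succ, pow_two]
  exact Submodule.mul_mem_mul (Submodule.mul_mem_mul ha hb) hc

omit [FiniteDimensional k A] in
theorem mul_mem_add {s t : ℕ} {a b : A} (ha : a ∈ J ^ s) (hb : b ∈ J ^ t) :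
    a * b ∈ J ^ (s + t) := by
  rw [pow_add]
  exact Submodule.mul_mem_mul ha hb

omit [FiniteDimensional k A] in
theorem mul_left_mem {t : ℕ} {a b : A} (ha : a ∈ J) (hb : b ∈ J ^ t) : a * b ∈ J ^ (t + 1) := by
  rw [pow_succ']
  exact Submodule.mul_mem_mul ha hb

omit [FiniteDimensional k A] in
theorem mul_right_mem {t : ℕ} {a b : A} (ha : a ∈ J ^ t) (hb : b ∈ J) : a * b ∈ J ^ (t + 1) := by
  rw [pow_succ]
  exact Submodule.mul_mem_mul ha hb

/-- A layer spanned by one element. -/
theorem flat_of_le {X Y : Submodule k A} {g : A} (hle : Y ≤ k ∙ g ⊔ X) :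
    finrank k Y ≤ finrank k X + 1 := by
  refine (Submodule.finrank_mono hle).trans ((Submodule.finrank_add_le_finrank_add_finrank _ _).trans ?_)
  have : finrank k ↥(k ∙ g) ≤ 1 := by
    rcases eq_or_ne g 0 with rfl | hg
    · rw [Submodule.span_zero_singleton, finrank_bot]
      omega
    · exact (finrank_span_singleton hg).le
  omega

/-- A layer spanned by two elements. -/
theorem finrank_le_of_pair {X Y : Submodule k A} {g g' : A} (hle : Y ≤ k ∙ g ⊔ k ∙ g' ⊔ X) :
    finrank k Y ≤ finrank k X + 2 := by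
  have h1 : finrank k ↥(k ∙ g' ⊔ X) ≤ finrank k X + 1 := flat_of_le le_rfl
  have h2 : finrank k Y ≤ finrank k ↥(k ∙ g' ⊔ X) + 1 :=
    flat_of_le (hle.trans (le_of_eq (sup_assoc _ _ _)))
  omega

/-- Three elements of a layer of dimension at most two are dependent. -/
theorem exists_relation {X Y : Submodule k A} (hXY : X ≤ Y)
    (hd : finrank k Y ≤ finrank k X + 2) {u v w : A} (hu : u ∈ Y) (hv : v ∈ Y) (hw : w ∈ Y) :
    ∃ α β γ : k, (α ≠ 0 ∨ β ≠ 0 ∨ γ ≠ 0) ∧ α • u + β • v + γ • w ∈ X := by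
  let F : (Fin 3 → k) →ₗ[k] Y.map X.mkQ :=
    LinearMap.codRestrict _ (Fintype.linearCombination k ![X.mkQ u, X.mkQ v, X.mkQ w]) fun c => by
      rw [Fintype.linearCombination_apply]
      refine Submodule.sum_mem _ fun i _ => Submodule.smul_mem _ _ ?_
      fin_cases i
      · exact ⟨u, hu, rfl⟩
      · exact ⟨v, hv, rfl⟩
      · exact ⟨w, hw, rfl⟩
  have hmap : finrank k ↥(Y.map X.mkQ) + finrank k X = finrank k Y := by
    have h1 := LinearMap.finrank_range_add_finrank_ker (X.mkQ ∘ₗ Y.subtype)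
    rw [LinearMap.range_comp, Submodule.range_subtype, LinearMap.ker_comp, Submodule.ker_mkQ,
      (Submodule.comapSubtypeEquivOfLe hXY).finrank_eq] at h1
    exact h1
  have hne : LinearMap.ker F ≠ ⊥ := LinearMap.ker_ne_bot_of_finrank_lt (by
    rw [Module.finrank_fin_fun]; omega)
  obtain ⟨c, hc, hc0⟩ := Submodule.exists_mem_ne_zero_of_ne_bot hne
  refine ⟨c 0, c 1, c 2, ?_, ?_⟩
  · by_contra hcon
    push Not at hcon
    refine hc0 (funext fun i => ?_)
    fin_cases i
    exacts [hcon.1, hcon.2.1, hcon.2.2]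
  · have h1 := congrArg Subtype.val (LinearMap.mem_ker.mp hc)
    simp only [F, LinearMap.codRestrict_apply, Fintype.linearCombination_apply, Fin.sum_univ_three,
      ZeroMemClass.coe_zero, Matrix.cons_val_zero, Matrix.cons_val_one, Matrix.cons_val] at h1
    rw [← map_smul, ← map_smul, ← map_smul, ← map_add, ← map_add, Submodule.mkQ_apply,
      Submodule.Quotient.mk_eq_zero] at h1
    exact h1

/-! ### Combining congruences -/

omit [FiniteDimensional k A] in
theorem mem_span_sup {g w r : A} {X : Submodule k A} (c : k) (e : w = c • g + r) (hr : r ∈ X) :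
    w ∈ k ∙ g ⊔ X := by
  rw [e]
  exact Submodule.add_mem _ (Submodule.mem_sup_left (Submodule.smul_mem _ _
    (Submodule.mem_span_singleton_self g))) (Submodule.mem_sup_right hr)

omit [FiniteDimensional k A] in
theorem mem_of_sub_smul {g w : A} {X : Submodule k A} (c : k) (hw : w - c • g ∈ X) :
    w ∈ k ∙ g ⊔ X :=
  mem_span_sup c (add_sub_cancel _ _).symm hw

omit [FiniteDimensional k A] in
/-- The square of the radical from the products of two generators. -/
theorem sq_le_of_gen (h : Loc C J f lam) {x y : A} (hx : x ∈ J) (hy : y ∈ J)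
    (hgen : J ≤ k ∙ x ⊔ k ∙ y ⊔ J ^ 2) {X : Submodule k A} (h3 : J ^ 3 ≤ X)
    (h1 : x * x ∈ X) (h2 : x * y ∈ X) (h4 : y * x ∈ X) (h5 : y * y ∈ X) : J ^ 2 ≤ X := by
  have hV : (k ∙ x ⊔ k ∙ y) * (k ∙ x ⊔ k ∙ y) ≤ X := by
    simp only [Submodule.sup_mul, Submodule.mul_sup, Submodule.span_mul_span,
      Set.singleton_mul_singleton, sup_le_iff, Submodule.span_singleton_le_iff_mem]
    exact ⟨⟨h1, h4⟩, h2, h5⟩
  have hxy : k ∙ x ⊔ k ∙ y ≤ J := sup_le ((Submodule.span_singleton_le_iff_mem _ _).mpr hx)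
    ((Submodule.span_singleton_le_iff_mem _ _).mpr hy)
  rw [pow_two]
  refine Submodule.mul_le.mpr fun u hu v hv => ?_
  obtain ⟨u1, hu1, u2, hu2, rfl⟩ := Submodule.mem_sup.mp (hgen hu)
  obtain ⟨v1, hv1, v2, hv2, rfl⟩ := Submodule.mem_sup.mp (hgen hv)
  rw [add_mul, mul_add u1]
  exact X.add_mem (X.add_mem (hV (Submodule.mul_mem_mul hu1 hv1))
    (h3 (mul_left_mem (hxy hu1) hv2))) (h3 (mul_right_mem hu2 hv))

/-- What the case analysis knows about two generators. -/
structure Gen (C J : Submodule k A) (x y : A) : Prop where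
  hx : x ∈ J
  hy : y ∈ J
  gen : J ≤ k ∙ x ⊔ k ∙ y ⊔ J ^ 2
  c_notMem : x * y - y * x ∉ J ^ 3
  dim2 : finrank k ↥(J ^ 2) ≤ finrank k ↥(J ^ 3) + 2
  le3 : J ^ 3 ≤ k ∙ (x * (x * y - y * x)) ⊔ k ∙ (y * (x * y - y * x)) ⊔
    k ∙ ((x * y - y * x) * x) ⊔ k ∙ ((x * y - y * x) * y) ⊔ J ^ 4

variable {x y : A}

omit [FiniteDimensional k A] in
theorem Gen.le_of_four (hg : Gen C J x y) {S : Submodule k A} (h4 : J ^ 4 ≤ S)
    (h1 : x * (x * y - y * x) ∈ S) (h2 : y * (x * y - y * x) ∈ S)
    (h3 : (x * y - y * x) * x ∈ S) (h5 : (x * y - y * x) * y ∈ S) : J ^ 3 ≤ S :=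
  hg.le3.trans (sup_le (sup_le (sup_le (sup_le
    ((Submodule.span_singleton_le_iff_mem _ _).mpr h1)
    ((Submodule.span_singleton_le_iff_mem _ _).mpr h2))
    ((Submodule.span_singleton_le_iff_mem _ _).mpr h3))
    ((Submodule.span_singleton_le_iff_mem _ _).mpr h5)) h4)

/-- Independent zero divisors make the third layer flat. -/
theorem flat_of_zero_product (h : Loc C J f lam) (hg : Gen C J x y) (h0 : x * y ∈ J ^ 3) :
    finrank k ↥(J ^ 3) ≤ finrank k ↥(J ^ 4) + 1 := by
  have hx1 : x ∈ J ^ 1 := by rw [pow_one]; exact hg.hx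
  have hy1 : y ∈ J ^ 1 := by rw [pow_one]; exact hg.hy
  have m2 : ∀ {a b : A}, a ∈ J → b ∈ J → a * b ∈ J ^ 2 := fun ha hb => by
    rw [pow_two]; exact Submodule.mul_mem_mul ha hb
  obtain ⟨α, β, γ, hne, hrel⟩ := exists_relation (h.pow_anti (by norm_num) (by norm_num))
    hg.dim2 (m2 hg.hx hg.hx) (m2 hg.hy hg.hx) (m2 hg.hy hg.hy)
  have n1 : x * (y * x) ∈ J ^ 4 := by rw [← mul_assoc]; exact mul_right_mem h0 hg.hx
  have n2 : y * (x * y) ∈ J ^ 4 := mul_left_mem hg.hy h0
  have n3 : x * (x * y) ∈ J ^ 4 := mul_left_mem hg.hx h0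
  have n4 : (x * y) * x ∈ J ^ 4 := mul_right_mem h0 hg.hx
  have n5 : (x * y) * y ∈ J ^ 4 := mul_right_mem h0 hg.hy
  have e1 : α • (y * x * x) + β • (y * (y * x)) + γ • (y * (y * y)) ∈ J ^ 4 := by
    have := mul_left_mem hg.hy hrel
    simpa only [mul_add, mul_smul_comm, mul_assoc] using this
  have e2 : α • (x * x * x) + β • (y * x * x) + γ • (y * (y * x)) ∈ J ^ 4 := by
    have := mul_right_mem hrel hg.hx
    simpa only [add_mul, smul_mul_assoc, mul_assoc] using this
  have e3 : α • (x * x * x) ∈ J ^ 4 := by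
    have := mul_left_mem hg.hx hrel
    rw [mul_add, mul_add, mul_smul_comm, mul_smul_comm, mul_smul_comm, add_assoc,
      Submodule.add_mem_iff_left] at this
    · rwa [mul_assoc]
    · refine Submodule.add_mem _ (Submodule.smul_mem _ _ n1) (Submodule.smul_mem _ _ ?_)
      rw [← mul_assoc]; exact mul_right_mem h0 hg.hy
  have e4 : γ • (y * (y * y)) ∈ J ^ 4 := by
    have := mul_right_mem hrel hg.hy
    rw [add_mul, add_mul, smul_mul_assoc, smul_mul_assoc, smul_mul_assoc,
      Submodule.add_mem_iff_right] at this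
    · rwa [← mul_assoc]
    · refine Submodule.add_mem _ (Submodule.smul_mem _ _ ?_) (Submodule.smul_mem _ _ ?_)
      · rw [mul_assoc]; exact n3
      · rw [mul_assoc]; exact n2
  -- both relations
  have r1 : α • (y * x * x) + β • (y * (y * x)) ∈ J ^ 4 := by
    have := Submodule.sub_mem _ e1 e4
    rwa [add_sub_cancel_right] at this
  have r2 : β • (y * x * x) + γ • (y * (y * x)) ∈ J ^ 4 := by
    have := Submodule.sub_mem _ e2 e3
    rwa [add_assoc, add_sub_cancel_left] at this
  -- one element spans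
  have key : ∀ g : A, y * (y * x) ∈ k ∙ g ⊔ J ^ 4 → y * x * x ∈ k ∙ g ⊔ J ^ 4 →
      finrank k ↥(J ^ 3) ≤ finrank k ↥(J ^ 4) + 1 := by
    intro g g1 g2
    refine flat_of_le (g := g) (hg.le_of_four le_sup_right ?_ ?_ ?_ ?_)
    · rw [mul_sub]
      exact Submodule.sub_mem _ (Submodule.mem_sup_right n3) (Submodule.mem_sup_right n1)
    · rw [mul_sub]
      exact Submodule.sub_mem _ (Submodule.mem_sup_right n2) g1
    · rw [sub_mul]
      exact Submodule.sub_mem _ (Submodule.mem_sup_right n4) g2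
    · rw [sub_mul]
      refine Submodule.sub_mem _ (Submodule.mem_sup_right n5) (Submodule.mem_sup_right ?_)
      rw [mul_assoc]; exact n2
  rcases eq_or_ne α 0 with hα | hα
  · rcases eq_or_ne γ 0 with hγ | hγ
    · have hβ : β ≠ 0 := by
        rcases hne with h1 | h1 | h1
        exacts [absurd hα h1, h1, absurd hγ h1]
      rw [hα, hγ, zero_smul, zero_smul, zero_add, add_zero, Submodule.smul_mem_iff _ hβ] at hrel
      exact absurd (Submodule.sub_mem _ h0 hrel) hg.c_notMem
    · refine key (y * x * x) (mem_of_sub_smul (-(β / γ)) ?_)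
        (Submodule.mem_sup_left (Submodule.mem_span_singleton_self _))
      refine (Submodule.smul_mem_iff _ hγ).mp ?_
      rw [smul_sub, smul_smul, mul_neg, mul_div_cancel₀ _ hγ, neg_smul, sub_neg_eq_add, add_comm]
      exact r2
  · refine key (y * (y * x)) (Submodule.mem_sup_left (Submodule.mem_span_singleton_self _))
      (mem_of_sub_smul (-(β / α)) ?_)
    refine (Submodule.smul_mem_iff _ hα).mp ?_
    rw [smul_sub, smul_smul, mul_neg, mul_div_cancel₀ _ hα, neg_smul, sub_neg_eq_add]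
    exact r1

/-- The shape of the dihedral algebras. -/
def Dihedral (C J : Submodule k A) : Prop :=
  ∃ x y, Gen C J x y ∧ x * x ∈ J ^ 3 ∧ y * y ∈ J ^ 3

omit [FiniteDimensional k A] in
theorem Gen.swap (hg : Gen C J x y) : Gen C J y x := by
  have e : y * x - x * y = -(x * y - y * x) := (neg_sub _ _).symm
  refine ⟨hg.hy, hg.hx, ?_, ?_, hg.dim2, ?_⟩
  · rw [sup_comm (k ∙ y)]; exact hg.gen
  · rw [e, Submodule.neg_mem_iff]; exact hg.c_notMem
  · refine hg.le_of_four le_sup_right ?_ ?_ ?_ ?_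
    all_goals rw [e]
    all_goals simp only [mul_neg, neg_mul]
    all_goals rw [← Submodule.neg_mem_iff]
    · exact Submodule.mem_sup_left (Submodule.mem_sup_left (Submodule.mem_sup_left
        (Submodule.mem_sup_right (Submodule.mem_span_singleton_self _))))
    · exact Submodule.mem_sup_left (Submodule.mem_sup_left (Submodule.mem_sup_left
        (Submodule.mem_sup_left (Submodule.mem_span_singleton_self _))))
    · exact Submodule.mem_sup_left (Submodule.mem_sup_right (Submodule.mem_span_singleton_self _))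
    · exact Submodule.mem_sup_left (Submodule.mem_sup_left (Submodule.mem_sup_right
        (Submodule.mem_span_singleton_self _)))

/-- A square zero generator: a flat third layer or the dihedral shape. -/
theorem flat_or_dihedral_of_square (h : Loc C J f lam) (hg : Gen C J x y)
    (hgen : ∀ x' y', x' ∈ J → y' ∈ J → J ≤ k ∙ x' ⊔ k ∙ y' ⊔ J ^ 2 → Gen C J x' y')
    (h0 : x * x ∈ J ^ 3) :
    finrank k ↥(J ^ 3) ≤ finrank k ↥(J ^ 4) + 1 ∨ Dihedral C J := by
  have m2 : ∀ {a b : A}, a ∈ J → b ∈ J → a * b ∈ J ^ 2 := fun ha hb => by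
    rw [pow_two]; exact Submodule.mul_mem_mul ha hb
  obtain ⟨α, β, γ, hne, hrel⟩ := exists_relation (h.pow_anti (by norm_num) (by norm_num))
    hg.dim2 (m2 hg.hx hg.hy) (m2 hg.hy hg.hx) (m2 hg.hy hg.hy)
  have n1 : x * (x * y) ∈ J ^ 4 := by rw [← mul_assoc]; exact mul_right_mem h0 hg.hy
  have n2 : y * x * x ∈ J ^ 4 := by rw [mul_assoc]; exact mul_left_mem hg.hy h0
  rcases eq_or_ne γ 0 with hγ | hγ
  · -- `x y` and `y x` are proportional
    rw [hγ, zero_smul, add_zero] at hrel
    rcases eq_or_ne α 0 with hα | hα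
    · have hβ : β ≠ 0 := by
        rcases hne with h1 | h1 | h1
        exacts [absurd hα h1, h1, absurd hγ h1]
      rw [hα, zero_smul, zero_add, Submodule.smul_mem_iff _ hβ] at hrel
      exact Or.inl (flat_of_zero_product h hg.swap hrel)
    obtain ⟨q, hq⟩ : ∃ q : k, x * y - q • (y * x) ∈ J ^ 3 := by
      refine ⟨-(β / α), (Submodule.smul_mem_iff _ hα).mp ?_⟩
      rwa [smul_sub, smul_smul, mul_neg, mul_div_cancel₀ _ hα, neg_smul, sub_neg_eq_add]
    left
    set g := y * (y * x) with hgdef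
    have a1 : x * (y * x) ∈ J ^ 4 := by
      have h1 := mul_right_mem hq hg.hx
      rw [sub_mul, smul_mul_assoc, mul_assoc] at h1
      exact (Submodule.sub_mem_iff_left _ (Submodule.smul_mem _ _ n2)).mp h1
    have a2 : y * (x * y) ∈ k ∙ g ⊔ J ^ 4 := mem_of_sub_smul q (by
      have h1 := mul_left_mem hg.hy hq
      rwa [mul_sub, mul_smul_comm] at h1)
    have a3 : x * y * y ∈ k ∙ g ⊔ J ^ 4 := by
      have h1 := mul_right_mem hq hg.hy
      rw [sub_mul, smul_mul_assoc, mul_assoc y x y] at h1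
      have := Submodule.add_mem _ (Submodule.mem_sup_right (S := k ∙ g) h1)
        (Submodule.smul_mem _ q a2)
      rwa [sub_add_cancel] at this
    refine flat_of_le (g := g) (hg.le_of_four le_sup_right ?_ ?_ ?_ ?_)
    · rw [mul_sub]
      exact Submodule.mem_sup_right (Submodule.sub_mem _ n1 a1)
    · rw [mul_sub]
      exact Submodule.sub_mem _ a2 (Submodule.mem_sup_left (Submodule.mem_span_singleton_self g))
    · rw [sub_mul, mul_assoc x y x]
      exact Submodule.mem_sup_right (Submodule.sub_mem _ a1 n2)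
    · rw [sub_mul, mul_assoc y x y]
      exact Submodule.sub_mem _ a3 a2
  -- `y y` is a combination
  obtain ⟨a, b, hab⟩ : ∃ a b : k, y * y - a • (x * y) - b • (y * x) ∈ J ^ 3 := by
    refine ⟨-(α / γ), -(β / γ), (Submodule.smul_mem_iff _ hγ).mp ?_⟩
    refine (congrArg (· ∈ J ^ 3) ?_).mp hrel
    rw [neg_smul, neg_smul, sub_neg_eq_add, sub_neg_eq_add, smul_add, smul_add, smul_smul,
      smul_smul, mul_div_cancel₀ _ hγ, mul_div_cancel₀ _ hγ]
    abel
  set P := x * (y * x) with hP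
  set Q := y * (x * y) with hQ
  have b1 : y * (y * x) - a • P ∈ J ^ 4 := by
    have h1 := mul_right_mem hab hg.hx
    rw [sub_mul, sub_mul, smul_mul_assoc, smul_mul_assoc, mul_assoc x y x, mul_assoc y y x] at h1
    exact (Submodule.sub_mem_iff_left _ (Submodule.smul_mem _ _ n2)).mp h1
  have b2 : x * (y * y) - b • P ∈ J ^ 4 := by
    have h1 := mul_left_mem hg.hx hab
    rw [mul_sub, mul_sub, mul_smul_comm, mul_smul_comm] at h1
    have := Submodule.add_mem _ h1 (Submodule.smul_mem _ a n1)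
    refine (congrArg (· ∈ J ^ 4) ?_).mp this
    abel
  have b3 : (a - b) • Q ∈ J ^ 4 := by
    have h1 := mul_left_mem hg.hy hab
    have h2 := mul_right_mem hab hg.hy
    rw [mul_sub, mul_sub, mul_smul_comm, mul_smul_comm] at h1
    rw [sub_mul, sub_mul, smul_mul_assoc, smul_mul_assoc, mul_assoc, mul_assoc x y y,
      mul_assoc y x y] at h2
    have h3 := Submodule.add_mem _ (Submodule.sub_mem _ h2 h1)
      (Submodule.sub_mem _ (Submodule.smul_mem _ a b2) (Submodule.smul_mem _ b b1))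
    refine (congrArg (· ∈ J ^ 4) ?_).mp h3
    rw [smul_sub, smul_sub, smul_smul, smul_smul, mul_comm b a, sub_smul, ← hQ]
    abel
  have c1 : x * (x * y - y * x) ∈ k ∙ P ⊔ J ^ 4 := mem_of_sub_smul (-1) (by
    rw [neg_one_smul, sub_neg_eq_add, mul_sub, sub_add_cancel]; exact n1)
  have c2 : y * (x * y - y * x) ∈ k ∙ P ⊔ k ∙ Q ⊔ J ^ 4 := by
    rw [mul_sub]
    refine Submodule.sub_mem _ (Submodule.mem_sup_left (Submodule.mem_sup_right
      (Submodule.mem_span_singleton_self Q))) ?_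
    exact SetLike.le_def.mp (sup_le_sup_right le_sup_left _) (mem_of_sub_smul a b1)
  have c3 : (x * y - y * x) * x ∈ k ∙ P ⊔ J ^ 4 := by
    rw [sub_mul, mul_assoc x y x]
    exact Submodule.sub_mem _ (Submodule.mem_sup_left (Submodule.mem_span_singleton_self P))
      (Submodule.mem_sup_right n2)
  have c4 : (x * y - y * x) * y ∈ k ∙ P ⊔ k ∙ Q ⊔ J ^ 4 := by
    rw [sub_mul, mul_assoc x y y, mul_assoc y x y]
    exact Submodule.sub_mem _
      (SetLike.le_def.mp (sup_le_sup_right le_sup_left _) (mem_of_sub_smul b b2))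
      (Submodule.mem_sup_left (Submodule.mem_sup_right (Submodule.mem_span_singleton_self Q)))
  rcases eq_or_ne a b with rfl | hne'
  · right
    refine ⟨x, y - a • x, hgen x (y - a • x) hg.hx (J.sub_mem hg.hy (J.smul_mem a hg.hx))
      (hg.gen.trans ?_), h0, ?_⟩
    · refine sup_le (sup_le (le_sup_of_le_left le_sup_left) ?_) le_sup_right
      refine (Submodule.span_singleton_le_iff_mem _ _).mpr (Submodule.mem_sup_left ?_)
      exact Submodule.mem_sup.mpr ⟨a • x, Submodule.smul_mem _ _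
        (Submodule.mem_span_singleton_self x), y - a • x,
        Submodule.mem_span_singleton_self _, add_sub_cancel _ _⟩
    · have := Submodule.add_mem _ hab (Submodule.smul_mem _ (a * a) h0)
      refine (congrArg (· ∈ J ^ 3) ?_).mp this
      simp only [sub_mul, mul_sub, smul_mul_assoc, mul_smul_comm, smul_smul, smul_sub]
      abel
  · left
    have hQ4 : Q ∈ J ^ 4 := (Submodule.smul_mem_iff _ (sub_ne_zero.mpr hne')).mp b3
    have hle : k ∙ P ⊔ k ∙ Q ⊔ J ^ 4 ≤ k ∙ P ⊔ J ^ 4 := sup_le (sup_le le_sup_left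
      ((Submodule.span_singleton_le_iff_mem _ _).mpr (Submodule.mem_sup_right hQ4))) le_sup_right
    exact flat_of_le (g := P) (hg.le_of_four le_sup_right c1 (hle c2) c3 (hle c4))

/-- The fourth layer of the dihedral shape is flat unless the fifth power vanishes. -/
theorem flat_of_dihedral (h : Loc C J f lam) (hd : Dihedral C J) {z : A}
    (h3 : J ^ 3 ≤ comms k C ⊔ k ∙ z) (hz5 : z ∈ J ^ 5)
    (ha3 : ¬ finrank k ↥(J ^ 3) ≤ finrank k ↥(J ^ 4) + 1) :
    finrank k ↥(J ^ 3) ≤ finrank k ↥(J ^ 4) + 2 ∧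
      finrank k ↥(J ^ 4) ≤ finrank k ↥(J ^ 5) + 1 := by
  obtain ⟨x, y, hg, hxx, hyy⟩ := hd
  have hxJ : x ∈ J := hg.hx
  have hyJ : y ∈ J := hg.hy
  set P := x * (y * x) with hP
  set Q := y * (x * y) with hQ
  set S3 := k ∙ P ⊔ k ∙ Q ⊔ J ^ 4 with hS3
  have hPS : P ∈ S3 :=
    Submodule.mem_sup_left (Submodule.mem_sup_left (Submodule.mem_span_singleton_self P))
  have hQS : Q ∈ S3 :=
    Submodule.mem_sup_left (Submodule.mem_sup_right (Submodule.mem_span_singleton_self Q))
  have hle3 : J ^ 3 ≤ S3 := by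
    refine hg.le_of_four le_sup_right ?_ ?_ ?_ ?_
    · rw [mul_sub]
      exact Submodule.sub_mem _ (Submodule.mem_sup_right
        (by rw [← mul_assoc]; exact mul_right_mem hxx hyJ)) hPS
    · rw [mul_sub]
      exact Submodule.sub_mem _ hQS (Submodule.mem_sup_right
        (by rw [← mul_assoc]; exact mul_right_mem hyy hxJ))
    · rw [sub_mul, mul_assoc x y x, mul_assoc y x x]
      exact Submodule.sub_mem _ hPS (Submodule.mem_sup_right (mul_left_mem hyJ hxx))
    · rw [sub_mul, mul_assoc x y y, mul_assoc y x y]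
      exact Submodule.sub_mem _ (Submodule.mem_sup_right (mul_left_mem hxJ hyy)) hQS
  refine ⟨finrank_le_of_pair hle3, ?_⟩
  -- the commutators
  set c := x * y - y * x with hc
  set u1 := x * (x * y) - x * y * x with hu1
  set u2 := y * (x * y) - x * y * y with hu2
  set e := x * (y * (x * y)) - y * (x * y) * x with he
  set T := k ∙ c ⊔ k ∙ u1 ⊔ k ∙ u2 ⊔ k ∙ e ⊔ J ^ 5 with hT
  have hcT : c ∈ T := Submodule.mem_sup_left (Submodule.mem_sup_left (Submodule.mem_sup_left
    (Submodule.mem_sup_left (Submodule.mem_span_singleton_self c))))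
  have hu1T : u1 ∈ T := Submodule.mem_sup_left (Submodule.mem_sup_left (Submodule.mem_sup_left
    (Submodule.mem_sup_right (Submodule.mem_span_singleton_self u1))))
  have hu2T : u2 ∈ T := Submodule.mem_sup_left (Submodule.mem_sup_left
    (Submodule.mem_sup_right (Submodule.mem_span_singleton_self u2)))
  have heT : e ∈ T :=
    Submodule.mem_sup_left (Submodule.mem_sup_right (Submodule.mem_span_singleton_self e))
  have h5T : J ^ 5 ≤ T := le_sup_right
  let br : A → A →ₗ[k] A := fun u => LinearMap.mulLeft k u - LinearMap.mulRight k u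
  have hbr : ∀ u v, br u v = u * v - v * u := fun u v => rfl
  have hswap : ∀ u v, u * v - v * u ∈ T → v * u - u * v ∈ T := fun u v huv => by
    rw [← neg_sub]; exact T.neg_mem huv
  have hcube : ∀ u ∈ J, u * P - P * u ∈ T → u * Q - Q * u ∈ T →
      J ^ 3 ≤ T.comap (br u) := by
    intro u hu hp hq
    refine hle3.trans (sup_le (sup_le ((Submodule.span_singleton_le_iff_mem _ _).mpr hp)
      ((Submodule.span_singleton_le_iff_mem _ _).mpr hq)) fun w hw => ?_)
    rw [Submodule.mem_comap, hbr]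
    exact h5T (Submodule.sub_mem _ (mul_left_mem hu hw) (mul_right_mem hw hu))
  have hxP : x * P - P * x ∈ T := by
    refine h5T (Submodule.sub_mem _ ?_ ?_)
    · rw [hP, ← mul_assoc x x]; exact mul_mem_add (s := 3) (t := 2) hxx (by
        rw [pow_two]; exact Submodule.mul_mem_mul hyJ hxJ)
    · rw [hP, ← mul_assoc, mul_assoc (x * y)]
      exact mul_mem_add (s := 2) (t := 3) (by rw [pow_two]; exact Submodule.mul_mem_mul hxJ hyJ) hxx
  have hyQ : y * Q - Q * y ∈ T := by
    refine h5T (Submodule.sub_mem _ ?_ ?_)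
    · rw [hQ, ← mul_assoc y y]; exact mul_mem_add (s := 3) (t := 2) hyy (by
        rw [pow_two]; exact Submodule.mul_mem_mul hxJ hyJ)
    · rw [hQ, ← mul_assoc, mul_assoc (y * x)]
      exact mul_mem_add (s := 2) (t := 3) (by rw [pow_two]; exact Submodule.mul_mem_mul hyJ hxJ) hyy
  have hxQ : x * Q - Q * x ∈ T := heT
  have hyP : y * P - P * y ∈ T := by
    have e0 : y * P - P * y = -e := by simp only [hP, he, mul_assoc]; abel
    rw [e0]; exact T.neg_mem heT
  have hx3 := hcube x hxJ hxP hxQ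
  have hy3 := hcube y hyJ hyP hyQ
  have hxy : x * (y * x) - y * x * x ∈ T := by
    have e0 : x * (y * x) - y * x * x = (x * x * y - y * (x * x)) - u1 := by
      simp only [hu1, mul_assoc]; abel
    rw [e0]
    exact T.sub_mem (hswap y (x * x) (hy3 hxx)) hu1T
  have hyx : y * (y * x) - y * x * y ∈ T := by
    have e0 : y * (y * x) - y * x * y = (y * y * x - x * (y * y)) - u2 := by
      simp only [hu2, mul_assoc]; abel
    rw [e0]
    exact T.sub_mem (hswap x (y * y) (hx3 hyy)) hu2T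
  have h22 : J ^ 2 ≤ k ∙ (x * y) ⊔ k ∙ (y * x) ⊔ J ^ 3 :=
    sq_le_of_gen h hxJ hyJ hg.gen le_sup_right (Submodule.mem_sup_right hxx)
      (Submodule.mem_sup_left (Submodule.mem_sup_left (Submodule.mem_span_singleton_self _)))
      (Submodule.mem_sup_left (Submodule.mem_sup_right (Submodule.mem_span_singleton_self _)))
      (Submodule.mem_sup_right hyy)
  have hsplit : ∀ u ∈ J, u * (x * y) - x * y * u ∈ T → u * (y * x) - y * x * u ∈ T →
      J ^ 3 ≤ T.comap (br u) → J ^ 2 ≤ T.comap (br u) := fun u _ a b c =>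
    h22.trans (sup_le (sup_le ((Submodule.span_singleton_le_iff_mem _ _).mpr a)
      ((Submodule.span_singleton_le_iff_mem _ _).mpr b)) c)
  have hx2 := hsplit x hxJ hu1T hxy hx3
  have hy2 := hsplit y hyJ hu2T hyx hy3
  have hxy2 : x * y * (y * x) - y * x * (x * y) ∈ T := h5T (Submodule.sub_mem _ (by
      rw [mul_assoc, ← mul_assoc y y]
      exact mul_left_mem hxJ (mul_right_mem hyy hxJ)) (by
      rw [mul_assoc, ← mul_assoc x x]
      exact mul_left_mem hyJ (mul_right_mem hxx hyJ)))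
  have h22' : ∀ u ∈ J ^ 2, ∀ v ∈ J ^ 3, u * v - v * u ∈ T := fun u hu v hv =>
    h5T (Submodule.sub_mem _ (mul_mem_add hu hv) (mul_mem_add hv hu))
  have h2x : ∀ u ∈ J ^ 2, J ^ 2 ≤ T.comap (br u) := by
    intro u hu
    refine h22.trans (sup_le (sup_le ?_ ?_) fun v hv => h22' u hu v hv)
    all_goals refine (Submodule.span_singleton_le_iff_mem _ _).mpr (hswap _ _ ?_)
    · suffices hle : J ^ 2 ≤ T.comap (br (x * y)) from hle hu
      refine h22.trans (sup_le (sup_le ?_ ?_) fun v hv => ?_)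
      · exact (Submodule.span_singleton_le_iff_mem _ _).mpr (by
          rw [Submodule.mem_comap, hbr, sub_self]; exact T.zero_mem)
      · exact (Submodule.span_singleton_le_iff_mem _ _).mpr hxy2
      · exact h22' _ (by rw [pow_two]; exact Submodule.mul_mem_mul hxJ hyJ) v hv
    · suffices hle : J ^ 2 ≤ T.comap (br (y * x)) from hle hu
      refine h22.trans (sup_le (sup_le ?_ ?_) fun v hv => ?_)
      · exact (Submodule.span_singleton_le_iff_mem _ _).mpr (hswap _ _ hxy2)
      · exact (Submodule.span_singleton_le_iff_mem _ _).mpr (by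
          rw [Submodule.mem_comap, hbr, sub_self]; exact T.zero_mem)
      · exact h22' _ (by rw [pow_two]; exact Submodule.mul_mem_mul hyJ hxJ) v hv
  have hK : comms k C ≤ T := by
    have hu : ∀ u ∈ J, J ≤ T.comap (br u) := by
      intro u hu
      refine hg.gen.trans (sup_le (sup_le ?_ ?_) ?_)
      · refine (Submodule.span_singleton_le_iff_mem _ _).mpr (hswap x u ?_)
        suffices hle : J ≤ T.comap (br x) from hle hu
        exact hg.gen.trans (sup_le (sup_le ((Submodule.span_singleton_le_iff_mem _ _).mpr (by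
          rw [Submodule.mem_comap, hbr, sub_self]; exact T.zero_mem))
          ((Submodule.span_singleton_le_iff_mem _ _).mpr hcT)) hx2)
      · refine (Submodule.span_singleton_le_iff_mem _ _).mpr (hswap y u ?_)
        suffices hle : J ≤ T.comap (br y) from hle hu
        exact hg.gen.trans (sup_le (sup_le ((Submodule.span_singleton_le_iff_mem _ _).mpr
          (hswap x y hcT)) ((Submodule.span_singleton_le_iff_mem _ _).mpr (by
          rw [Submodule.mem_comap, hbr, sub_self]; exact T.zero_mem))) hy2)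
      · intro v hv
        obtain ⟨w, hw, u', hu', rfl⟩ := Submodule.mem_sup.mp (hg.gen hu)
        obtain ⟨w1, hw1, w2, hw2, rfl⟩ := Submodule.mem_sup.mp hw
        obtain ⟨a, rfl⟩ := Submodule.mem_span_singleton.mp hw1
        obtain ⟨b, rfl⟩ := Submodule.mem_span_singleton.mp hw2
        rw [Submodule.mem_comap, hbr]
        have := T.add_mem (T.add_mem (T.smul_mem a (hx2 hv)) (T.smul_mem b (hy2 hv))) (h2x u' hu' hv)
        simp only [hbr, add_mul, mul_add, smul_mul_assoc, mul_smul_comm, smul_sub] at this ⊢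
        refine (congrArg (· ∈ T) ?_).mp this
        abel
    refine Submodule.span_le.mpr ?_
    rintro w ⟨u, hu', v, hv', rfl⟩
    obtain ⟨u', hu'', v', hv'', e'⟩ := h.sub_eq hu' hv'
    rw [e']
    exact hu u' hu'' hv''
  -- coefficients
  refine flat_of_le (g := e) fun w hw => ?_
  obtain ⟨kk, hkk, zz, hzz, ew⟩ := Submodule.mem_sup.mp (h3 (h.pow_anti (by norm_num) (by norm_num) hw))
  obtain ⟨cz, rfl⟩ := Submodule.mem_span_singleton.mp hzz
  have hwT : w ∈ T := by
    rw [← ew]
    exact T.add_mem (hK hkk) (h5T (Submodule.smul_mem _ _ hz5))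
  obtain ⟨t4, ht4, r5, hr5, ew1⟩ := Submodule.mem_sup.mp hwT
  obtain ⟨t3, ht3, t4', ht4', rfl⟩ := Submodule.mem_sup.mp ht4
  obtain ⟨t2, ht2, t3', ht3', rfl⟩ := Submodule.mem_sup.mp ht3
  obtain ⟨t1, ht1, t2', ht2', rfl⟩ := Submodule.mem_sup.mp ht2
  obtain ⟨c0, rfl⟩ := Submodule.mem_span_singleton.mp ht1
  obtain ⟨c1, rfl⟩ := Submodule.mem_span_singleton.mp ht2'
  obtain ⟨c2, rfl⟩ := Submodule.mem_span_singleton.mp ht3'
  obtain ⟨c3, rfl⟩ := Submodule.mem_span_singleton.mp ht4'
  have mu1 : u1 + P ∈ J ^ 4 := by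
    have : u1 + P = x * x * y := by simp only [hu1, hP, mul_assoc]; abel
    rw [this]; exact mul_right_mem hxx hyJ
  have mu2 : u2 - Q ∈ J ^ 4 := by
    have : u2 - Q = -(x * (y * y)) := by simp only [hu2, hQ, mul_assoc]; abel
    rw [this]; exact Submodule.neg_mem _ (mul_left_mem hxJ hyy)
  have me : e ∈ J ^ 4 := Submodule.sub_mem _
    (mul_left_mem hxJ (mul_left_mem hyJ (by rw [pow_two]; exact Submodule.mul_mem_mul hxJ hyJ)))
    (mul_right_mem (mul_left_mem hyJ (by rw [pow_two]; exact Submodule.mul_mem_mul hxJ hyJ)) hxJ)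
  have hc0 : c0 = 0 := by
    by_contra hne
    refine hg.c_notMem ((Submodule.smul_mem_iff _ hne).mp ?_)
    have e0 : c0 • c = w - (c1 • u1 + c2 • u2 + c3 • e + r5) := by rw [← ew1]; abel
    rw [e0]
    refine Submodule.sub_mem _ (h.pow_anti (by norm_num) (by norm_num) hw) ?_
    have m3 : ∀ {a b d : A}, a ∈ J → b ∈ J → d ∈ J → a * (b * d) ∈ J ^ 3 := fun ha hb hd => by
      rw [← mul_assoc]; exact mul3_mem ha hb hd
    refine Submodule.add_mem _ (Submodule.add_mem _ (Submodule.add_mem _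
      (Submodule.smul_mem _ _ ?_) (Submodule.smul_mem _ _ ?_))
      (Submodule.smul_mem _ _ (h.pow_anti (by norm_num) (by norm_num) me)))
      (h.pow_anti (by norm_num) (by norm_num) hr5)
    · exact Submodule.sub_mem _ (m3 hxJ hxJ hyJ) (mul3_mem hxJ hyJ hxJ)
    · exact Submodule.sub_mem _ (m3 hyJ hxJ hyJ) (mul3_mem hxJ hyJ hyJ)
  have hPQ : c2 • Q - c1 • P ∈ J ^ 4 := by
    have e0 : c2 • Q - c1 • P =
        w - (c1 • (u1 + P) + c2 • (u2 - Q) + c3 • e + r5) := by
      rw [← ew1, hc0]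
      simp only [smul_add, smul_sub, zero_smul]
      abel
    rw [e0]
    exact Submodule.sub_mem _ hw (Submodule.add_mem _ (Submodule.add_mem _ (Submodule.add_mem _
      (Submodule.smul_mem _ _ mu1) (Submodule.smul_mem _ _ mu2)) (Submodule.smul_mem _ _ me))
      (h.pow_anti (by norm_num) (by norm_num) hr5))
  have hc2 : c2 = 0 := by
    by_contra hne
    refine ha3 (flat_of_le (g := P) (hle3.trans (sup_le (sup_le le_sup_left
      ((Submodule.span_singleton_le_iff_mem _ _).mpr (mem_of_sub_smul (c1 / c2) ?_))) le_sup_right)))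
    refine (Submodule.smul_mem_iff _ hne).mp ?_
    rwa [smul_sub, smul_smul, mul_div_cancel₀ _ hne]
  have hc1 : c1 = 0 := by
    by_contra hne
    refine ha3 (flat_of_le (g := Q) (hle3.trans (sup_le (sup_le
      ((Submodule.span_singleton_le_iff_mem _ _).mpr (Submodule.mem_sup_right ?_))
      le_sup_left) le_sup_right)))
    rw [hc2, zero_smul, zero_sub, Submodule.neg_mem_iff] at hPQ
    exact (Submodule.smul_mem_iff _ hne).mp hPQ
  refine mem_span_sup c3 ?_ hr5
  rw [← ew1, hc0, hc1, hc2]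
  simp only [zero_smul, zero_add]

/-- The third power lies in the ideal generated by the commutator. -/
theorem gen_of_dims (h : Loc C J f lam) {z : A} (hx : x ∈ J) (hy : y ∈ J)
    (hgen : J ≤ k ∙ x ⊔ k ∙ y ⊔ J ^ 2)
    (hdim : finrank k ↥(J ^ 2) ≤ finrank k ↥(J ^ 3) + 2)
    (hz : z ∈ J ^ 4) (h3 : J ^ 3 ≤ comms k C ⊔ k ∙ z)
    (hc : x * y - y * x ∉ J ^ 3) (hc4 : J ^ 4 ≠ ⊥) : Gen C J x y := by
  refine ⟨hx, hy, hgen, hc, hdim, ?_⟩
  set c := x * y - y * x with hcdef
  obtain ⟨N, hN⟩ := h.nil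
  -- the ideal of `c` modulo the fourth power
  set I := k ∙ c ⊔ (k ∙ (x * c) ⊔ k ∙ (y * c) ⊔ k ∙ (c * x) ⊔ k ∙ (c * y) ⊔ J ^ 4) with hI
  have hc2 : c ∈ J ^ 2 := by
    rw [pow_two]
    exact Submodule.sub_mem _ (Submodule.mul_mem_mul hx hy) (Submodule.mul_mem_mul hy hx)
  set R := k ∙ (x * c) ⊔ k ∙ (y * c) ⊔ k ∙ (c * x) ⊔ k ∙ (c * y) ⊔ J ^ 4 with hR
  have hR3 : R ≤ J ^ 3 := sup_le (sup_le (sup_le (sup_le
    ((Submodule.span_singleton_le_iff_mem _ _).mpr (mul_left_mem hx hc2))
    ((Submodule.span_singleton_le_iff_mem _ _).mpr (mul_left_mem hy hc2)))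
    ((Submodule.span_singleton_le_iff_mem _ _).mpr (mul_right_mem hc2 hx)))
    ((Submodule.span_singleton_le_iff_mem _ _).mpr (mul_right_mem hc2 hy)))
    (h.pow_anti (by norm_num) (by norm_num))
  have hI2 : I ≤ J ^ 2 := sup_le ((Submodule.span_singleton_le_iff_mem _ _).mpr hc2)
    (hR3.trans (h.pow_anti (by norm_num) (by norm_num)))
  have hJc : ∀ u ∈ J, u * c ∈ R ∧ c * u ∈ R := by
    intro u hu
    obtain ⟨w, hw, u', hu', rfl⟩ := Submodule.mem_sup.mp (hgen hu)
    obtain ⟨w1, hw1, w2, hw2, rfl⟩ := Submodule.mem_sup.mp hw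
    obtain ⟨a, rfl⟩ := Submodule.mem_span_singleton.mp hw1
    obtain ⟨b, rfl⟩ := Submodule.mem_span_singleton.mp hw2
    constructor
    · simp only [add_mul, smul_mul_assoc]
      refine Submodule.add_mem _ (Submodule.add_mem _ (Submodule.smul_mem _ _ ?_)
        (Submodule.smul_mem _ _ ?_)) (Submodule.mem_sup_right (mul_mem_add hu' hc2))
      · exact Submodule.mem_sup_left (Submodule.mem_sup_left (Submodule.mem_sup_left
          (Submodule.mem_sup_left (Submodule.mem_span_singleton_self _))))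
      · exact Submodule.mem_sup_left (Submodule.mem_sup_left (Submodule.mem_sup_left
          (Submodule.mem_sup_right (Submodule.mem_span_singleton_self _))))
    · simp only [mul_add, mul_smul_comm]
      refine Submodule.add_mem _ (Submodule.add_mem _ (Submodule.smul_mem _ _ ?_)
        (Submodule.smul_mem _ _ ?_)) (Submodule.mem_sup_right (mul_mem_add hc2 hu'))
      · exact Submodule.mem_sup_left (Submodule.mem_sup_left
          (Submodule.mem_sup_right (Submodule.mem_span_singleton_self _)))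
      · exact Submodule.mem_sup_left
          (Submodule.mem_sup_right (Submodule.mem_span_singleton_self _))
  have hRR : ∀ w ∈ R, ∀ u ∈ J, u * w ∈ R ∧ w * u ∈ R := fun w hw u hu =>
    ⟨Submodule.mem_sup_right (mul_left_mem hu (hR3 hw)),
      Submodule.mem_sup_right (mul_right_mem (hR3 hw) hu)⟩
  have hIJ : ∀ w ∈ I, ∀ u ∈ J, u * w ∈ I ∧ w * u ∈ I := by
    intro w hw u hu
    obtain ⟨w1, hw1, w2, hw2, rfl⟩ := Submodule.mem_sup.mp hw
    obtain ⟨a, rfl⟩ := Submodule.mem_span_singleton.mp hw1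
    simp only [add_mul, mul_add, smul_mul_assoc, mul_smul_comm]
    exact ⟨Submodule.mem_sup_right (Submodule.add_mem _ (Submodule.smul_mem _ _ (hJc u hu).1)
        (hRR _ hw2 u hu).1),
      Submodule.mem_sup_right (Submodule.add_mem _ (Submodule.smul_mem _ _ (hJc u hu).2)
        (hRR _ hw2 u hu).2)⟩
  -- elements commuting with `u` modulo the ideal
  have hclosed : ∀ {u a b : A}, a ∈ J → b ∈ J → u * a - a * u ∈ I → u * b - b * u ∈ I →
      u * (a * b) - a * b * u ∈ I := by
    intro u a b ha hb h1 h2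
    have e : u * (a * b) - a * b * u = (u * a - a * u) * b + a * (u * b - b * u) := by
      simp only [sub_mul, mul_sub, mul_assoc]; abel
    rw [e]
    exact I.add_mem (hIJ _ h1 b hb).2 (hIJ _ h2 a ha).1
  let br : A → A →ₗ[k] A := fun u => LinearMap.mulLeft k u - LinearMap.mulRight k u
  have hbr : ∀ u v, br u v = u * v - v * u := fun u v => rfl
  have h4I : J ^ 4 ≤ I := le_sup_of_le_right le_sup_right
  have hcomm : ∀ u ∈ J, u * x - x * u ∈ I → u * y - y * u ∈ I → J ≤ I.comap (br u) := by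
    intro u hu h1 h2
    have hxy' : k ∙ x ⊔ k ∙ y ≤ J := sup_le ((Submodule.span_singleton_le_iff_mem _ _).mpr hx)
      ((Submodule.span_singleton_le_iff_mem _ _).mpr hy)
    have h12 : k ∙ x ⊔ k ∙ y ≤ I.comap (br u) := sup_le
      ((Submodule.span_singleton_le_iff_mem _ _).mpr h1)
      ((Submodule.span_singleton_le_iff_mem _ _).mpr h2)
    set V := k ∙ x ⊔ k ∙ y with hV
    have hV2 : V * V ≤ I.comap (br u) := Submodule.mul_le.mpr fun a ha b hb =>
      hclosed (hxy' ha) (hxy' hb) (h12 ha) (h12 hb)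
    have h3' : J ^ 3 ≤ I.comap (br u) := fun w hw => h4I (Submodule.sub_mem _
      (mul_left_mem hu hw) (mul_right_mem hw hu))
    have h2' : J ^ 2 ≤ I.comap (br u) := by
      have hxx : x ∈ k ∙ x ⊔ k ∙ y := Submodule.mem_sup_left (Submodule.mem_span_singleton_self x)
      have hyy : y ∈ k ∙ x ⊔ k ∙ y := Submodule.mem_sup_right (Submodule.mem_span_singleton_self y)
      exact sq_le_of_gen h hx hy hgen h3' (hV2 (Submodule.mul_mem_mul hxx hxx))
        (hV2 (Submodule.mul_mem_mul hxx hyy)) (hV2 (Submodule.mul_mem_mul hyy hxx))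
        (hV2 (Submodule.mul_mem_mul hyy hyy))
    exact hgen.trans (sup_le h12 h2')
  have hK : comms k C ≤ I := by
    have hzero : ∀ u : A, u * u - u * u ∈ I := fun u => by rw [sub_self]; exact I.zero_mem
    have hcI : c ∈ I := Submodule.mem_sup_left (Submodule.mem_span_singleton_self c)
    have hX := hcomm x hx (hzero x) hcI
    have hY := hcomm y hy (by rw [← neg_sub]; exact I.neg_mem hcI) (hzero y)
    refine Submodule.span_le.mpr ?_
    rintro w ⟨u, hu, v, hv, rfl⟩
    obtain ⟨u', hu', v', hv', e⟩ := h.sub_eq hu hv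
    rw [e]
    refine hcomm u' hu' ?_ ?_ hv'
    · rw [← neg_sub]; exact I.neg_mem (hX hu')
    · rw [← neg_sub]; exact I.neg_mem (hY hu')
  intro w hw
  have hwI : w ∈ I := by
    obtain ⟨a, ha, b, hb, rfl⟩ := Submodule.mem_sup.mp (h3 hw)
    obtain ⟨d, rfl⟩ := Submodule.mem_span_singleton.mp hb
    exact I.add_mem (hK ha) (h4I (Submodule.smul_mem _ _ hz))
  obtain ⟨w1, hw1, w2, hw2, rfl⟩ := Submodule.mem_sup.mp hwI
  obtain ⟨a, rfl⟩ := Submodule.mem_span_singleton.mp hw1
  rcases eq_or_ne a 0 with rfl | ha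
  · rwa [zero_smul, zero_add]
  · exact absurd ((Submodule.smul_mem_iff _ ha).mp
      ((Submodule.add_mem_iff_left _ (hR3 hw2)).mp hw)) hc

/-- A nonzero linear combination with a vanishing product. -/
theorem exists_pair [IsAlgClosed k] (h : Loc C J f lam) (hx : x ∈ J) (hy : y ∈ J)
    (hdim : finrank k ↥(J ^ 2) ≤ finrank k ↥(J ^ 3) + 2) :
    ∃ a1 a2 b1 b2 : k, (a1 ≠ 0 ∨ a2 ≠ 0) ∧ (b1 ≠ 0 ∨ b2 ≠ 0) ∧
      (a1 • x + a2 • y) * (b1 • x + b2 • y) ∈ J ^ 3 := by
  have m2 : ∀ {a b : A}, a ∈ J → b ∈ J → a * b ∈ J ^ 2 := fun ha hb => by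
    rw [pow_two]; exact Submodule.mul_mem_mul ha hb
  have h32 : J ^ 3 ≤ J ^ 2 := h.pow_anti (by norm_num) (by norm_num)
  by_cases hind : ∃ b1 b2 : k, (b1 ≠ 0 ∨ b2 ≠ 0) ∧ b1 • (x * x) + b2 • (x * y) ∈ J ^ 3
  · obtain ⟨b1, b2, hb, hm⟩ := hind
    refine ⟨1, 0, b1, b2, Or.inl one_ne_zero, hb, ?_⟩
    simpa only [one_smul, zero_smul, add_zero, mul_add, mul_smul_comm] using hm
  push Not at hind
  have hexp : ∀ w ∈ J ^ 2, ∃ p q : k, w - (p • (x * x) + q • (x * y)) ∈ J ^ 3 := by
    intro w hw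
    obtain ⟨α, β, γ, hne, hrel⟩ := exists_relation h32 hdim (m2 hx hx) (m2 hx hy) hw
    have hγ : γ ≠ 0 := by
      rintro rfl
      rw [zero_smul, add_zero] at hrel
      exact hind α β (hne.imp id (fun hh => hh.resolve_right (by simp))) hrel
    refine ⟨-(α / γ), -(β / γ), (Submodule.smul_mem_iff _ hγ).mp ?_⟩
    refine (congrArg (· ∈ J ^ 3) ?_).mp hrel
    rw [neg_smul, neg_smul, ← neg_add, sub_neg_eq_add, smul_add, smul_add, smul_smul,
      smul_smul, mul_div_cancel₀ _ hγ, mul_div_cancel₀ _ hγ]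
    abel
  obtain ⟨p, q, hyx⟩ := hexp _ (m2 hy hx)
  obtain ⟨r, s, hyy⟩ := hexp _ (m2 hy hy)
  obtain ⟨t, ht⟩ := IsAlgClosed.exists_root
    (Polynomial.X ^ 2 + Polynomial.C (p + s) * Polynomial.X + Polynomial.C (p * s - q * r) :
      Polynomial k) (by
      have hd : (Polynomial.X ^ 2 + Polynomial.C (p + s) * Polynomial.X +
          Polynomial.C (p * s - q * r) : Polynomial k).degree = 2 := by
        compute_degree!
      rw [hd]; decide)
  simp only [Polynomial.IsRoot.def, Polynomial.eval_add, Polynomial.eval_pow, Polynomial.eval_X,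
    Polynomial.eval_mul, Polynomial.eval_C] at ht
  have key : ∀ b1 b2 : k, (t + p) * b1 + r * b2 = 0 → q * b1 + (t + s) * b2 = 0 →
      (t • x + (1 : k) • y) * (b1 • x + b2 • y) ∈ J ^ 3 := by
    intro b1 b2 h1 h2
    have := Submodule.add_mem _ (Submodule.smul_mem _ b1 hyx) (Submodule.smul_mem _ b2 hyy)
    have e : (t • x + (1 : k) • y) * (b1 • x + b2 • y) =
        ((t + p) * b1 + r * b2) • (x * x) + (q * b1 + (t + s) * b2) • (x * y) +
          (b1 • (y * x - (p • (x * x) + q • (x * y))) +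
            b2 • (y * y - (r • (x * x) + s • (x * y)))) := by
      simp only [add_mul, mul_add, smul_mul_assoc, mul_smul_comm, one_smul]
      module
    rw [e, h1, h2, zero_smul, zero_smul, zero_add, zero_add]
    exact this
  by_cases h0 : r = 0 ∧ t + p = 0
  · by_cases h1 : t + s = 0
    · exact ⟨t, 1, 0, 1, Or.inr one_ne_zero, Or.inr one_ne_zero,
        key 0 1 (by rw [h0.1]; ring) (by rw [h1]; ring)⟩
    · exact ⟨t, 1, t + s, -q, Or.inr one_ne_zero, Or.inl h1,
        key _ _ (by rw [h0.1, h0.2]; ring) (by ring)⟩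
  · refine ⟨t, 1, r, -(t + p), Or.inr one_ne_zero, ?_, key _ _ (by ring) (by linear_combination -ht)⟩
    by_contra hh
    push Not at hh
    exact h0 ⟨hh.1, neg_eq_zero.mp hh.2⟩

/-- **Two generators.** -/
theorem finrank_le_of_two [IsAlgClosed k] (h : Loc C J f lam)
    (h5 : finrank k C ≤ finrank k (comms k C) + 5)
    (hx : x ∈ J) (hy : y ∈ J) (hgen : J ≤ k ∙ x ⊔ k ∙ y ⊔ J ^ 2)
    (hx2 : x ∉ J ^ 2) (hy2 : y ∉ k ∙ x ⊔ J ^ 2) :
    finrank k C ≤ 11 := by
  have hnC := finrank_C h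
  have hr : finrank k J ≤ finrank k ↥(J ^ 2) + 2 := finrank_le_of_pair hgen
  have hflat : ∀ s, 1 ≤ s → finrank k ↥(J ^ s) ≤ finrank k ↥(J ^ (s + 1)) + 1 →
      finrank k ↥(J ^ s) ≤ 4 := fun s hs hd => by
    have := finrank_flat h hs hd
    omega
  by_cases hA2 : finrank k ↥(J ^ 2) ≤ finrank k ↥(J ^ 3) + 1
  · have := hflat 2 (by norm_num) hA2
    omega
  push Not at hA2
  have hJ2 : J ^ 2 ≠ ⊥ := fun h0 => by rw [h0, finrank_bot] at hA2; omega
  have hJne : J ≠ ⊥ := fun h0 => hJ2 (by rw [h0, pow_two, Submodule.mul_bot])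
  obtain ⟨z, hz0, hzs, hzK, hzmem⟩ := exists_socle h hJne
  set K := comms k C with hK
  have hr1 : finrank k ↥(J ^ 2) + 2 ≤ finrank k J := by
    have a1 : finrank k ↥(J ^ 2) + 1 ≤ finrank k ↥(k ∙ x ⊔ J ^ 2) :=
      Submodule.finrank_lt_finrank_of_lt (lt_of_le_of_ne le_sup_right fun e => hx2 (by
        rw [e]; exact le_sup_left (b := J ^ 2) (Submodule.mem_span_singleton_self x)))
    have a2 : finrank k ↥(k ∙ x ⊔ J ^ 2) + 1 ≤ finrank k J :=
      Submodule.finrank_lt_finrank_of_lt (lt_of_le_of_ne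
        (sup_le ((Submodule.span_singleton_le_iff_mem _ _).mpr hx) (h.pow_le 1))
        fun e => hy2 (by rw [e]; exact hy))
    omega
  have hKz : finrank k K + 1 ≤ finrank k ↥(K ⊔ k ∙ z) :=
    Submodule.finrank_lt_finrank_of_lt (lt_of_le_of_ne le_sup_left fun e => hzK (by
      rw [e]; exact le_sup_right (a := K) (Submodule.mem_span_singleton_self z)))
  by_cases hJ3 : J ^ 3 = ⊥
  · rw [hJ3, finrank_bot] at hA2
    have hJ2soc : J ^ 2 ≤ k ∙ z := fun w hw => h.soc_mem_span ⟨pow_le_C h (by norm_num) hw,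
      fun j hj => by
        have h1 := mul_left_mem hj hw
        rwa [hJ3, Submodule.mem_bot] at h1,
      fun j hj => by
        have h1 := mul_right_mem hw hj
        rwa [hJ3, Submodule.mem_bot] at h1⟩ hzs hz0
    have := Submodule.finrank_mono hJ2soc
    rw [finrank_span_singleton hz0] at this
    omega
  have hz3 := hzmem 3 (by norm_num) hJ3
  set c := x * y - y * x with hc
  have hxyJ2 : ∀ {a b : A}, a ∈ J → b ∈ J → a * b ∈ J ^ 2 := fun ha hb => by
    rw [pow_two]; exact Submodule.mul_mem_mul ha hb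
  have hKc : K ≤ k ∙ c ⊔ J ^ 3 := by
    refine Submodule.span_le.mpr ?_
    rintro w ⟨u, hu, v, hv, rfl⟩
    obtain ⟨u', hu', v', hv', e⟩ := h.sub_eq hu hv
    rw [SetLike.mem_coe, e]
    have hl : ∀ {a t : A}, a ∈ J → t ∈ J ^ 2 → a * t - t * a ∈ J ^ 3 := fun ha ht =>
      Submodule.sub_mem _ (mul_left_mem ha ht) (mul_right_mem ht ha)
    obtain ⟨w1, hw1, s, hs, rfl⟩ := Submodule.mem_sup.mp (hgen hu')
    obtain ⟨l1, hl1, l2, hl2, rfl⟩ := Submodule.mem_sup.mp hw1
    obtain ⟨a, rfl⟩ := Submodule.mem_span_singleton.mp hl1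
    obtain ⟨b, rfl⟩ := Submodule.mem_span_singleton.mp hl2
    obtain ⟨w1', hw1', s', hs', rfl⟩ := Submodule.mem_sup.mp (hgen hv')
    obtain ⟨l1', hl1', l2', hl2', rfl⟩ := Submodule.mem_sup.mp hw1'
    obtain ⟨a', rfl⟩ := Submodule.mem_span_singleton.mp hl1'
    obtain ⟨b', rfl⟩ := Submodule.mem_span_singleton.mp hl2'
    refine mem_span_sup (a * b' - b * a') ?_ (Submodule.sub_mem _
      (hl (J.add_mem (J.smul_mem a hx) (J.smul_mem b hy)) hs') (hl hv' hs))
    simp only [hc, add_mul, mul_add, smul_mul_assoc, mul_smul_comm]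
    module
  have hsup : K ⊔ k ∙ z ⊔ J ^ 3 ≤ k ∙ c ⊔ J ^ 3 :=
    sup_le (sup_le hKc ((Submodule.span_singleton_le_iff_mem _ _).mpr (Submodule.mem_sup_right hz3)))
      le_sup_right
  have hKz2 : finrank k ↥(K ⊔ k ∙ z) ≤ finrank k ↥(K ⊔ k ∙ z ⊔ J ^ 3) :=
    Submodule.finrank_mono le_sup_left
  have hsup' := Submodule.finrank_mono hsup
  have hc3' := flat_of_le (le_refl (k ∙ c ⊔ J ^ 3))
  have hc3 : c ∉ J ^ 3 := fun hm => by
    have : k ∙ c ⊔ J ^ 3 ≤ J ^ 3 :=
      sup_le ((Submodule.span_singleton_le_iff_mem _ _).mpr hm) le_rfl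
    have := Submodule.finrank_mono this
    omega
  have h3K : J ^ 3 ≤ K ⊔ k ∙ z := by
    have heq : K ⊔ k ∙ z = K ⊔ k ∙ z ⊔ J ^ 3 :=
      Submodule.eq_of_le_of_finrank_le le_sup_left (by omega)
    rw [heq]; exact le_sup_right
  have hdim2 : finrank k ↥(J ^ 2) ≤ finrank k ↥(J ^ 3) + 2 := by omega
  by_cases hA3 : finrank k ↥(J ^ 3) ≤ finrank k ↥(J ^ 4) + 1
  · have := hflat 3 (by norm_num) hA3
    omega
  by_cases hJ6 : J ^ (3 + 3) = ⊥
  · have := two_mul_finrank_le h (s := 3) (by norm_num) hJ6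
    omega
  have hne : ∀ t, t ≤ 6 → 1 ≤ t → J ^ t ≠ ⊥ := fun t ht ht1 h0 =>
    hJ6 (eq_bot_iff.mpr ((h.pow_anti ht1 ht).trans h0.le))
  have hz4 := hzmem 4 (by norm_num) (hne 4 (by norm_num) (by norm_num))
  have hz5 := hzmem 5 (by norm_num) (hne 5 (by norm_num) (by norm_num))
  have hg : ∀ x' y', x' ∈ J → y' ∈ J → J ≤ k ∙ x' ⊔ k ∙ y' ⊔ J ^ 2 → Gen C J x' y' := by
    intro x' y' hx' hy' hgen'
    refine gen_of_dims h hx' hy' hgen' hdim2 hz4 h3K ?_ (hne 4 (by norm_num) (by norm_num))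
    intro hm
    have : c ∈ J ^ 3 := by
      obtain ⟨w1, hw1, s, hs, ex⟩ := Submodule.mem_sup.mp (hgen' hx)
      obtain ⟨l1, hl1, l2, hl2, rfl⟩ := Submodule.mem_sup.mp hw1
      obtain ⟨a, rfl⟩ := Submodule.mem_span_singleton.mp hl1
      obtain ⟨b, rfl⟩ := Submodule.mem_span_singleton.mp hl2
      obtain ⟨w1', hw1', s', hs', ey⟩ := Submodule.mem_sup.mp (hgen' hy)
      obtain ⟨l1', hl1', l2', hl2', rfl⟩ := Submodule.mem_sup.mp hw1'
      obtain ⟨a', rfl⟩ := Submodule.mem_span_singleton.mp hl1'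
      obtain ⟨b', rfl⟩ := Submodule.mem_span_singleton.mp hl2'
      have hl : ∀ {a t : A}, a ∈ J → t ∈ J ^ 2 → a * t - t * a ∈ J ^ 3 := fun ha ht =>
        Submodule.sub_mem _ (mul_left_mem ha ht) (mul_right_mem ht ha)
      have e : c = (a * b' - b * a') • (x' * y' - y' * x') +
          (((a • x' + b • y') * s' - s' * (a • x' + b • y')) - (y * s - s * y)) := by
        rw [hc, ← ex, ← ey]
        simp only [add_mul, mul_add, smul_mul_assoc, mul_smul_comm]
        module
      rw [e]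
      exact Submodule.add_mem _ (Submodule.smul_mem _ _ hm) (Submodule.sub_mem _
        (hl (J.add_mem (J.smul_mem a hx') (J.smul_mem b hy')) hs') (hl hy hs))
    exact hc3 this
  -- the vanishing product
  obtain ⟨a1, a2, b1, b2, ha, hb, hab⟩ := exists_pair h hx hy hdim2
  set u := a1 • x + a2 • y with hu
  set v := b1 • x + b2 • y with hv
  have huJ : u ∈ J := J.add_mem (J.smul_mem _ hx) (J.smul_mem _ hy)
  have hvJ : v ∈ J := J.add_mem (J.smul_mem _ hx) (J.smul_mem _ hy)
  by_cases hdet : a1 * b2 - a2 * b1 = 0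
  · -- a square
    obtain ⟨c', hc', hvu⟩ : ∃ c' : k, c' ≠ 0 ∧ v = c' • u := by
      rcases eq_or_ne a1 0 with ha1 | ha1
      · have ha2 : a2 ≠ 0 := ha.resolve_left (not_not.mpr ha1)
        have hb1 : b1 = 0 := by
          rw [ha1, zero_mul, zero_sub, neg_eq_zero] at hdet
          exact (mul_eq_zero.mp hdet).resolve_left ha2
        refine ⟨b2 / a2, div_ne_zero (hb.resolve_left (not_not.mpr hb1)) ha2, ?_⟩
        rw [hv, hu, ha1, hb1, zero_smul, zero_add, zero_add, smul_smul,
          div_mul_cancel₀ _ ha2]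
      · have hb2 : b2 = b1 / a1 * a2 := by
          field_simp
          linear_combination hdet
        refine ⟨b1 / a1, fun h0 => ?_, ?_⟩
        · rw [div_eq_zero_iff, or_iff_left ha1] at h0
          rw [h0, zero_div, zero_mul] at hb2
          exact hb.elim (fun hh => hh h0) (fun hh => hh hb2)
        · rw [hv, hu, smul_add, smul_smul, smul_smul, div_mul_cancel₀ _ ha1, ← hb2]
    have huu : u * u ∈ J ^ 3 := by
      rw [hvu, mul_smul_comm, Submodule.smul_mem_iff _ hc'] at hab
      exact hab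
    obtain ⟨w, hw, hgw⟩ : ∃ w ∈ J, J ≤ k ∙ u ⊔ k ∙ w ⊔ J ^ 2 := by
      rcases eq_or_ne a1 0 with ha1 | ha1
      · refine ⟨x, hx, hgen.trans (sup_le (sup_le (le_sup_of_le_left le_sup_right) ?_)
          le_sup_right)⟩
        have ha2 : a2 ≠ 0 := ha.resolve_left (not_not.mpr ha1)
        refine (Submodule.span_singleton_le_iff_mem _ _).mpr (Submodule.mem_sup_left
          (Submodule.mem_sup_left ((Submodule.smul_mem_iff _ ha2).mp ?_)))
        rw [hu, ha1, zero_smul, zero_add]
        exact Submodule.mem_span_singleton_self _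
      · refine ⟨y, hy, hgen.trans (sup_le (sup_le ?_ (le_sup_of_le_left le_sup_right))
          le_sup_right)⟩
        refine (Submodule.span_singleton_le_iff_mem _ _).mpr (Submodule.mem_sup_left
          ((Submodule.smul_mem_iff _ ha1).mp ?_))
        refine Submodule.mem_sup.mpr ⟨u, Submodule.mem_span_singleton_self u, (-a2) • y,
          Submodule.smul_mem _ _ (Submodule.mem_span_singleton_self y), ?_⟩
        rw [hu, neg_smul]; abel
    rcases flat_or_dihedral_of_square h (hg u w huJ hw hgw) hg huu with hfl | hdih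
    · exact absurd hfl hA3
    · obtain ⟨hd3, hd4⟩ := flat_of_dihedral h hdih h3K hz5 hA3
      have := hflat 4 (by norm_num) hd4
      omega
  · refine absurd (flat_of_zero_product h (hg u v huJ hvJ (hgen.trans (sup_le (sup_le ?_ ?_)
      le_sup_right))) hab) hA3
    all_goals refine (Submodule.span_singleton_le_iff_mem _ _).mpr (Submodule.mem_sup_left
      ((Submodule.smul_mem_iff _ hdet).mp ?_))
    · refine Submodule.mem_sup.mpr ⟨b2 • u, Submodule.smul_mem _ _
        (Submodule.mem_span_singleton_self u), (-a2) • v, Submodule.smul_mem _ _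
        (Submodule.mem_span_singleton_self v), ?_⟩
      rw [hu, hv]
      module
    · refine Submodule.mem_sup.mpr ⟨(-b1) • u, Submodule.smul_mem _ _
        (Submodule.mem_span_singleton_self u), a1 • v, Submodule.smul_mem _ _
        (Submodule.mem_span_singleton_self v), ?_⟩
      rw [hu, hv]
      module

end Cfsg.Agent.Lib.LocalFive79.Two
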